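import Cfsg.Agent.Lib.ThRec.ModuleData
import Mathlib

/-!
Bit-mask linear algebra over the field of two elements, words in seven three-cycles, and a pruned
enumeration of the alternating group of degree nine.
-/

set_option autoImplicit false
set_option maxRecDepth 100000

namespace Cfsg.Agent.ThRec.Eight

open Equiv

/-- The least bit. -/
def odd (m : ℕ) : Bool := Nat.beq (Nat.land m 1) 1

/-- A matrix applied to a vector. -/
def ap : List ℕ → ℕ → ℕ
  | [], _ => 0
  | c :: M, m => Nat.xor (cond (odd m) c 0) (ap M (Nat.div m 2))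

/-- The sum of the members selected by a bit mask. -/
def lin {A : Type*} [Zero A] [Add A] : List A → ℕ → A
  | [], _ => 0
  | c :: L, m => cond (odd m) c 0 + lin L (Nat.div m 2)

theorem odd_eq (m : ℕ) : odd m = m.testBit 0 := by
  have h : Nat.land m 1 = m % 2 := Nat.and_one_is_mod m
  rw [odd, h, Nat.testBit_zero]
  rcases Nat.mod_two_eq_zero_or_one m with e | e <;> rw [e] <;> rfl

theorem odd_xor (u v : ℕ) : odd (u ^^^ v) = (odd u ^^ odd v) := by
  simp only [odd_eq, Nat.testBit_xor]

theorem div2_xor (u v : ℕ) : Nat.div (u ^^^ v) 2 = Nat.div u 2 ^^^ Nat.div v 2 := Nat.xor_div_two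

theorem ap_cons (c : ℕ) (M : List ℕ) (m : ℕ) :
    ap (c :: M) m = cond (odd m) c 0 ^^^ ap M (m / 2) := rfl

theorem lin_cons {A : Type*} [Zero A] [Add A] (c : A) (L : List A) (m : ℕ) :
    lin (c :: L) m = cond (odd m) c 0 + lin L (m / 2) := rfl

theorem ap_xor : ∀ (M : List ℕ) (u v : ℕ), ap M (u ^^^ v) = ap M u ^^^ ap M v
  | [], _, _ => (Nat.xor_self 0).symm
  | c :: M, u, v => by
    simp only [ap_cons]
    rw [show (u ^^^ v) / 2 = u / 2 ^^^ v / 2 from Nat.xor_div_two, ap_xor M, odd_xor]
    cases odd u <;> cases odd v <;> simp [Nat.xor_assoc, Nat.xor_left_comm, Nat.xor_comm]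

theorem ap_zero : ∀ M : List ℕ, ap M 0 = 0
  | [] => rfl
  | c :: M => by rw [ap_cons, Nat.zero_div, ap_zero M, odd_eq]; simp

theorem ap_map {g : ℕ → ℕ} (h0 : g 0 = 0) (hg : ∀ u v, g (u ^^^ v) = g u ^^^ g v) :
    ∀ (N : List ℕ) (v : ℕ), ap (N.map g) v = g (ap N v)
  | [], _ => h0.symm
  | c :: N, v => by
    rw [List.map_cons, ap_cons, ap_cons, ap_map h0 hg N, hg]
    cases odd v <;> simp [h0]

theorem ap_lt {n : ℕ} : ∀ {M : List ℕ}, (∀ c ∈ M, c < 2 ^ n) → ∀ v, ap M v < 2 ^ n
  | [], _, _ => Nat.pow_pos two_pos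
  | c :: M, h, v => by
    rw [ap_cons]
    refine Nat.xor_lt_two_pow ?_ (ap_lt (fun d hd => h d (List.mem_cons_of_mem _ hd)) _)
    cases odd v
    · exact Nat.pow_pos two_pos
    · exact h c (List.mem_cons_self)

section
variable {A : Type*} [AddCommGroup A]

theorem lin_zero : ∀ L : List A, lin L 0 = 0
  | [] => rfl
  | c :: L => by rw [lin_cons, Nat.zero_div, lin_zero L, odd_eq]; simp

theorem lin_xor (h2 : ∀ x : A, x + x = 0) : ∀ (L : List A) (u v : ℕ), lin L (u ^^^ v) = lin L u + lin L v
  | [], _, _ => (add_zero 0).symm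
  | c :: L, u, v => by
    simp only [lin_cons]
    rw [show (u ^^^ v) / 2 = u / 2 ^^^ v / 2 from Nat.xor_div_two, lin_xor h2 L, odd_xor]
    cases odd u <;> cases odd v <;> simp only [Bool.xor_false, Bool.xor_true, Bool.false_xor, Bool.true_xor,
      Bool.not_true, Bool.not_false, cond_true, cond_false]
    · abel
    · abel
    · abel
    · calc _ = (c + c) + (lin L (u / 2) + lin L (v / 2)) := by rw [h2]
        _ = _ := by abel

theorem map_lin {B : Type*} [AddCommGroup B] (η : A →+ B) :
    ∀ (L : List A) (m : ℕ), η (lin L m) = lin (L.map η) m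
  | [], _ => map_zero η
  | c :: L, m => by
    rw [List.map_cons, lin_cons, lin_cons, map_add, map_lin η L]
    cases odd m <;> simp

theorem lin_ap {f : ℕ → A} (h0 : f 0 = 0) (hf : ∀ u v, f (u ^^^ v) = f u + f v) :
    ∀ (M : List ℕ) (m : ℕ), f (ap M m) = lin (M.map f) m
  | [], _ => h0
  | c :: M, m => by
    rw [List.map_cons, lin_cons, ap_cons, hf, lin_ap h0 hf M]
    cases odd m <;> simp [h0]

end

theorem lin_two_pow {A : Type*} [AddCommGroup A] : ∀ (L : List A) (i : ℕ), lin L (2 ^ i) = L.getD i 0
  | [], _ => rfl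
  | c :: L, 0 => by
    rw [pow_zero, lin_cons, show (1 : ℕ) / 2 = 0 from rfl, lin_zero, add_zero]
    rfl
  | c :: L, i + 1 => by
    rw [lin_cons, odd_eq, Nat.testBit_two_pow_of_ne (Nat.succ_ne_zero i), cond_false, zero_add, pow_succ,
      Nat.mul_div_cancel _ two_pos, lin_two_pow L i]
    rfl

theorem xor_lt {u v : ℕ} (hu : u < 256) (hv : v < 256) : u ^^^ v < 256 :=
  Nat.xor_lt_two_pow (n := 8) hu hv

/-- Product of matrices. -/
def mulM (M N : List ℕ) : List ℕ := N.map (ap M)

theorem ap_mulM (M N : List ℕ) (v : ℕ) : ap (mulM M N) v = ap M (ap N v) :=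
  ap_map (ap_zero M) (ap_xor M) N v

/-- The unit matrix. -/
def idM : List ℕ := [1, 2, 4, 8, 16, 32, 64, 128]

/-- All vectors. -/
def allV (f : ℕ → Bool) : Bool := (List.range 256).all f

theorem allV_spec {f : ℕ → Bool} (h : allV f = true) {v : ℕ} (hv : v < 256) : f v = true :=
  List.all_eq_true.1 h v (List.mem_range.2 hv)

theorem ap_idM {v : ℕ} (hv : v < 256) : ap idM v = v :=
  Nat.eq_of_beq_eq_true
    (allV_spec (f := fun v => Nat.beq (ap idM v) v) (by decide +kernel) hv)

/-- A letter of a word. -/
def gen (X : List (List ℕ)) (i : ℕ) : List ℕ := X.getD (i % 7) []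

/-- The matrix of a word. -/
def matW (X : List (List ℕ)) : List ℕ → List ℕ
  | [] => idM
  | i :: w => mulM (gen X i) (matW X w)

/-- A word applied to a vector. -/
def act (X : List (List ℕ)) : List ℕ → ℕ → ℕ
  | [], v => v
  | i :: w, v => ap (gen X i) (act X w v)

theorem act_append (X : List (List ℕ)) : ∀ u w v, act X (u ++ w) v = act X u (act X w v)
  | [], _, _ => rfl
  | i :: u, w, v => by rw [List.cons_append, act, act, act_append X u w v]

theorem act_xor (X : List (List ℕ)) : ∀ w u v, act X w (u ^^^ v) = act X w u ^^^ act X w v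
  | [], _, _ => rfl
  | i :: w, u, v => by rw [act, act, act, act_xor X w u v, ap_xor]

theorem act_zero (X : List (List ℕ)) : ∀ w, act X w 0 = 0
  | [] => rfl
  | i :: w => by rw [act, act_zero X w, ap_zero]

theorem act_lt {X : List (List ℕ)} (hX : X.all (fun M => M.all fun c => Nat.blt c 256) = true) :
    ∀ w {v : ℕ}, v < 256 → act X w v < 256
  | [], _, h => h
  | i :: w, v, _ => by
    refine ap_lt (n := 8) (fun c hc => ?_) _
    by_cases hi : i % 7 < X.length
    · rw [gen, List.getD_eq_getElem _ _ hi] at hc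
      exact Nat.le_of_ble_eq_true (List.all_eq_true.1 (List.all_eq_true.1 hX _ (List.getElem_mem hi)) c hc)
    · rw [gen, List.getD_eq_default _ _ (by omega)] at hc
      simp at hc

theorem act_eq (X : List (List ℕ)) : ∀ w v, v < 256 → ap (matW X w) v = act X w v
  | [], _, h => ap_idM h
  | i :: w, v, h => by rw [matW, ap_mulM, act_eq X w v h, act]

/-- The third point of a letter. -/
def third (i : ℕ) : Fin 9 := ⟨i % 7 + 2, by omega⟩

/-- A letter as a three-cycle. -/
def cx (i : ℕ) : Perm (Fin 9) := swap 0 1 * swap 1 (third i)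

/-- A word as a permutation. -/
def permW : List ℕ → Perm (Fin 9)
  | [] => 1
  | i :: w => cx i * permW w

/-- A letter on point numbers. -/
def step (i j : ℕ) : ℕ :=
  cond (Nat.beq j 0) 1 (cond (Nat.beq j 1) (Nat.add (Nat.mod i 7) 2) (cond (Nat.beq j (Nat.add (Nat.mod i 7) 2)) 0 j))

/-- The images of the nine points under a word. -/
def imgW : List ℕ → List ℕ
  | [] => List.range 9
  | i :: w => (imgW w).map (step i)

theorem cx_val (i : ℕ) (j : Fin 9) : (cx i j).val = step i j.val := by
  have key : ∀ (r : Fin 7) (j : Fin 9), (cx r.val j).val = step r.val j.val := by decide +kernel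
  have h := key ⟨i % 7, Nat.mod_lt _ (by norm_num)⟩ j
  have e1 : cx (i % 7) = cx i := by simp only [cx, third, Nat.mod_mod]
  have e2 : ∀ j, step (i % 7) j = step i j := fun j => by
    show cond _ _ _ = cond _ _ _
    rw [show Nat.mod (i % 7) 7 = Nat.mod i 7 from Nat.mod_mod i 7]
  rw [e1, e2] at h
  exact h

theorem imgW_spec : ∀ (w : List ℕ) (j : Fin 9), (imgW w).getD j.val 0 = (permW w j).val
  | [], j => by
    rw [imgW, List.getD_eq_getElem _ _ (by simp)]
    simp [permW]
  | i :: w, j => by
    have h := imgW_spec w j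
    have hl : j.val < (imgW w).length := by
      have : ∀ w, (imgW w).length = 9 := by
        intro w; induction w with
        | nil => rfl
        | cons i w ih => simp [imgW, ih]
      rw [this]; exact j.2
    rw [List.getD_eq_getElem _ _ hl] at h
    rw [imgW, List.getD_eq_getElem _ _ (by simpa using hl), List.getElem_map, h, permW, Perm.mul_apply, cx_val]

theorem sign_cx (i : ℕ) : Perm.sign (cx i) = 1 := by
  have h : third i ≠ 1 := fun h => by
    have := congrArg Fin.val h; simp [third] at this
  rw [cx, map_mul, Perm.sign_swap (by decide), Perm.sign_swap h.symm]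
  rfl

theorem sign_permW : ∀ w, Perm.sign (permW w) = 1
  | [] => map_one _
  | i :: w => by rw [permW, map_mul, sign_cx, sign_permW w, one_mul]

theorem permW_append : ∀ u w, permW (u ++ w) = permW u * permW w
  | [], _ => (one_mul _).symm
  | i :: u, w => by rw [List.cons_append, permW, permW, permW_append u w, mul_assoc]

/-- A transversal word. -/
def transW (k j : ℕ) : List ℕ := (trans.getD k []).getD j []

theorem trans_ok : ∀ k j : Fin 9, 2 ≤ k.val → j ≤ k →
    permW (transW k j) k = j ∧ ∀ i : Fin 9, k < i → permW (transW k j) i = i := by decide +kernel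

/-- The pruning test: the known images commute with the given permutation. -/
def prune (yi : List ℕ) (k : ℕ) (w : List ℕ) : Bool :=
  let im := imgW w
  (List.range 9).all fun i =>
    Nat.blt i k || Nat.blt (yi.getD i 0) k || Nat.beq (im.getD (yi.getD i 0) 0) (yi.getD (im.getD i 0) 0)

/-- The words of the elements of the centraliser of a permutation. -/
def enum (yi : List ℕ) : ℕ → List ℕ → List (List ℕ)
  | 0, w => [w]
  | 1, w => [w]
  | k + 2, w => (List.range (k + 3)).flatMap fun j =>
      cond (prune yi (k + 2) (w ++ transW (k + 2) j)) (enum yi (k + 1) (w ++ transW (k + 2) j)) []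

theorem eq_one_of_fix {r : Perm (Fin 9)} (hs : Perm.sign r = 1) (h : ∀ i : Fin 9, 1 < i.val → r i = i) :
    r = 1 := by
  have h0 : r 0 = 0 ∨ r 0 = 1 := by
    by_contra hh
    push Not at hh
    have hlt : 1 < (r 0).val := by
      rcases Nat.lt_or_ge 1 (r 0).val with e | e
      · exact e
      · exfalso
        rcases Nat.le_one_iff_eq_zero_or_eq_one.1 e with e | e
        · exact hh.1 (Fin.ext e)
        · exact hh.2 (Fin.ext e)
    have := r.injective (h _ hlt)
    rw [this] at hlt
    simp at hlt
  have h1 : r 1 = 0 ∨ r 1 = 1 := by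
    by_contra hh
    push Not at hh
    have hlt : 1 < (r 1).val := by
      rcases Nat.lt_or_ge 1 (r 1).val with e | e
      · exact e
      · exfalso
        rcases Nat.le_one_iff_eq_zero_or_eq_one.1 e with e | e
        · exact hh.1 (Fin.ext e)
        · exact hh.2 (Fin.ext e)
    have := r.injective (h _ hlt)
    rw [this] at hlt
    simp at hlt
  rcases h0 with h0 | h0
  · have h1' : r 1 = 1 := h1.resolve_left fun e => by
      have := r.injective (e.trans h0.symm); simp at this
    refine Equiv.ext fun i => ?_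
    rcases Nat.lt_or_ge 1 i.val with e | e
    · exact h i e
    · rcases Nat.le_one_iff_eq_zero_or_eq_one.1 e with e | e
      · rw [show i = 0 from Fin.ext e]; exact h0
      · rw [show i = 1 from Fin.ext e]; exact h1'
  · have h1' : r 1 = 0 := h1.resolve_right fun e => by
      have := r.injective (e.trans h0.symm); simp at this
    have he : r = swap 0 1 := by
      refine Equiv.ext fun i => ?_
      rcases Nat.lt_or_ge 1 i.val with e | e
      · rw [h i e, swap_apply_of_ne_of_ne]
        · intro x; subst x; simp at e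
        · intro x; subst x; simp at e
      · rcases Nat.le_one_iff_eq_zero_or_eq_one.1 e with e | e
        · rw [show i = 0 from Fin.ext e, swap_apply_left]; exact h0
        · rw [show i = 1 from Fin.ext e, swap_apply_right]; exact h1'
    rw [he, Perm.sign_swap (by decide)] at hs
    exact absurd hs (by decide)

theorem enum_complete {yi : List ℕ} {yp : Perm (Fin 9)} (hy : ∀ i : Fin 9, yi.getD i.val 0 = (yp i).val)
    {p : Perm (Fin 9)} (hp : Perm.sign p = 1) (hc : ∀ i, p (yp i) = yp (p i)) :
    ∀ k ≤ 8, ∀ w, (∀ i : Fin 9, k < i.val → permW w i = p i) → ∃ w' ∈ enum yi k w, permW w' = p := by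
  have base : ∀ w, (∀ i : Fin 9, 1 < i.val → permW w i = p i) → permW w = p := fun w h => by
    have := eq_one_of_fix (r := (permW w)⁻¹ * p) (by simp [hp, sign_permW]) fun i hi => by
      rw [Perm.mul_apply, ← h i hi]; exact (permW w).symm_apply_apply _
    exact inv_mul_eq_one.1 this
  intro k
  induction k with
  | zero =>
    exact fun _ w h => ⟨w, by simp [enum], base w fun i hi => h i (by omega)⟩
  | succ k ih =>
    intro hk w h
    rcases k with _ | k
    · exact ⟨w, by simp [enum], base w fun i hi => h i (by omega)⟩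
    let K : Fin 9 := ⟨k + 2, by omega⟩
    let j := ((permW w)⁻¹ * p) K
    have hr : ∀ i : Fin 9, K < i → ((permW w)⁻¹ * p) i = i := fun i hi => by
      rw [Perm.mul_apply, ← h i hi]; exact (permW w).symm_apply_apply _
    have hj : j ≤ K := by
      refine le_of_not_gt fun hgt => ?_
      have e := ((permW w)⁻¹ * p).injective ((hr j hgt).trans (rfl : j = ((permW w)⁻¹ * p) K))
      rw [e] at hgt
      exact lt_irrefl _ hgt
    obtain ⟨t1, t2⟩ := trans_ok K j (by simp [K]) hj
    have hag : ∀ i : Fin 9, k + 2 ≤ i.val → permW (w ++ transW (k + 2) j.val) i = p i := fun i hi => by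
      rw [permW_append, Perm.mul_apply]
      rcases eq_or_lt_of_le hi with e | e
      · have : i = K := Fin.ext e.symm
        subst this
        show permW w (permW (transW K.val j.val) K) = p K
        rw [t1]
        exact (permW w).apply_symm_apply _
      · show permW w (permW (transW K.val j.val) i) = p i
        rw [t2 i e, h i e]
    have hpr : prune yi (k + 2) (w ++ transW (k + 2) j.val) = true := by
      simp only [prune, List.all_eq_true, Bool.or_eq_true]
      intro i hi
      rw [List.mem_range] at hi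
      by_cases h1 : i < k + 2
      · exact Or.inl (Or.inl (Nat.ble_eq_true_of_le h1))
      by_cases h2 : yi.getD i 0 < k + 2
      · exact Or.inl (Or.inr (Nat.ble_eq_true_of_le h2))
      refine Or.inr ?_
      have e1 := hy ⟨i, hi⟩
      rw [e1] at h2 ⊢
      rw [imgW_spec, imgW_spec _ (⟨i, hi⟩ : Fin 9), hy, hag _ (by omega),
        hag ⟨i, hi⟩ (by show k + 2 ≤ i; omega), hc]
      exact Nat.beq_refl _
    obtain ⟨w', hw', e⟩ := ih (by omega) _ (fun i hi => hag i (by omega))
    refine ⟨w', ?_, e⟩
    rw [enum, List.mem_flatMap]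
    exact ⟨j.val, List.mem_range.2 (Nat.lt_succ_of_le hj), by rw [hpr]; exact hw'⟩

theorem exists_word {p : Perm (Fin 9)} (hp : Perm.sign p = 1) : ∃ w, permW w = p := by
  obtain ⟨w, -, e⟩ := enum_complete (yi := List.range 9) (yp := 1) (fun i => by
    rw [List.getD_eq_getElem _ _ (by simp)]; simp) hp (fun _ => rfl) 8 le_rfl [] (fun i h => by omega)
  exact ⟨w, e⟩

end Cfsg.Agent.ThRec.Eight
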