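import Cfsg.Agent.Lib.ThRec.ModuleLin

/-!
The two eight-dimensional modules: the invariant quadratic forms, the two involution classes and their
centralisers, in bit-mask form.
-/

set_option autoImplicit false
set_option maxRecDepth 100000

namespace Cfsg.Agent.ThRec.Eight

/-- A module: matrices of the seven three-cycles and a quadratic form. -/
structure Md where
  /-- The matrices. -/
  X : List (List ℕ)
  /-- The values of the form. -/
  qn : ℕ
  /-- Orbit representatives. -/
  rep : List ℕ
  /-- Spanning trees of the orbits. -/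
  edge : List (List (ℕ × ℕ))

/-- The spin module. -/
def mS : Md := ⟨sX, qS, repS, edgeS⟩

/-- The permutation module. -/
def mP : Md := ⟨pX, qP, repP, edgeP⟩

/-- The quadratic form. -/
def Md.q (md : Md) (v : ℕ) : Bool := odd (Nat.shiftRight md.qn v)

/-- Its polar form. -/
def Md.B (md : Md) (u v : ℕ) : Bool := (md.q (Nat.xor u v) ^^ md.q u) ^^ md.q v

/-- An orbit from its spanning tree. -/
def orbit (X : List (List ℕ)) (r : ℕ) (es : List (ℕ × ℕ)) : List ℕ :=
  es.foldl (fun acc e => acc ++ [ap (gen X e.2) (acc.getD e.1 r)]) [r]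

/-- The orbit number of a vector. -/
def Md.label (md : Md) (v : ℕ) : ℕ :=
  ((List.range md.rep.length).find? fun k =>
    (orbit md.X (md.rep.getD k 0) (md.edge.getD k [])).any (Nat.beq v)).getD md.rep.length

/-- The value of an option. -/
def Md.opt (md : Md) (n v : ℕ) : Bool := !(Nat.beq v 0) && odd (Nat.shiftRight n (md.label v))

/-- The third derivative of an option. -/
def Md.cubic (md : Md) (n : ℕ) (t : ℕ × ℕ × ℕ) : Bool :=
  let u := t.1
  let v := t.2.1
  let w := t.2.2
  (((((md.opt n (Nat.xor (Nat.xor u v) w) ^^ md.opt n (Nat.xor u v)) ^^ md.opt n (Nat.xor u w)) ^^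
    md.opt n (Nat.xor v w)) ^^ md.opt n u) ^^ md.opt n v) ^^ md.opt n w

/-- Witnesses against the other options. -/
def Md.optOK (md : Md) (tgt : ℕ) (wit : List (ℕ × ℕ × ℕ)) : Bool :=
  (List.range (2 ^ md.rep.length)).all fun n =>
    Nat.beq n 0 || Nat.beq n tgt ||
      (md.cubic n (wit.getD n (0, 0, 0)) && Nat.blt (wit.getD n (0, 0, 0)).1 256 &&
        Nat.blt (wit.getD n (0, 0, 0)).2.1 256 && Nat.blt (wit.getD n (0, 0, 0)).2.2 256)

/-- The basic facts on a module. -/
def Md.formOK (md : Md) (tgt : ℕ) (wit : List (ℕ × ℕ × ℕ)) : Bool :=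
  md.X.all (fun M => M.all fun c => Nat.blt c 256) && md.rep.all (fun r => Nat.blt r 256) &&
    allV (fun v => Nat.beq v 0 || Nat.blt (md.label v) md.rep.length) &&
    allV (fun v => md.opt tgt v == md.q v) && md.optOK tgt wit

theorem formS : mS.formOK 1 [(0, 0, 0), (0, 0, 0), (1, 2, 4), (1, 2, 4)] = true := by decide +kernel

theorem formP : mP.formOK 5 [(0, 0, 0), (1, 2, 28), (1, 2, 4), (1, 2, 4), (1, 2, 28), (0, 0, 0), (1, 2, 4),
    (1, 2, 4), (1, 2, 124), (1, 2, 28), (1, 2, 4), (1, 2, 4), (1, 2, 28), (1, 2, 124), (1, 2, 4), (1, 2, 4)]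
    = true := by decide +kernel

theorem orbit_spec {md : Md} (hX : md.X.all (fun M => M.all fun c => Nat.blt c 256) = true) {f : ℕ → Bool}
    (hf : ∀ i v, v < 256 → f (ap (gen md.X i) v) = f v) {r : ℕ} (hr : r < 256) :
    ∀ (es : List (ℕ × ℕ)), ∀ v ∈ orbit md.X r es, v < 256 ∧ f v = f r := by
  intro es
  suffices ∀ (es : List (ℕ × ℕ)) (acc : List ℕ), (∀ v ∈ acc, v < 256 ∧ f v = f r) →
      ∀ v ∈ es.foldl (fun acc e => acc ++ [ap (gen md.X e.2) (acc.getD e.1 r)]) acc, v < 256 ∧ f v = f r from
    this es [r] fun v hv => by rw [List.mem_singleton] at hv; exact ⟨hv ▸ hr, by rw [hv]⟩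
  intro es
  induction es with
  | nil => exact fun acc h => h
  | cons e es ih =>
    intro acc h
    refine ih _ fun v hv => ?_
    rcases List.mem_append.1 hv with hv | hv
    · exact h v hv
    rw [List.mem_singleton] at hv
    subst hv
    have hg : acc.getD e.1 r < 256 ∧ f (acc.getD e.1 r) = f r := by
      by_cases he : e.1 < acc.length
      · rw [List.getD_eq_getElem _ _ he]; exact h _ (List.getElem_mem he)
      · rw [List.getD_eq_default _ _ (by omega)]; exact ⟨hr, rfl⟩
    exact ⟨act_lt hX [e.2] hg.1, (hf _ _ hg.1).trans hg.2⟩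

/-- An invariant function is constant on the orbits. -/
theorem label_spec {md : Md} {tgt : ℕ} {wit : List (ℕ × ℕ × ℕ)} (h : md.formOK tgt wit = true)
    {f : ℕ → Bool} (hf : ∀ i v, v < 256 → f (ap (gen md.X i) v) = f v) {v : ℕ} (hv : v < 256) (h0 : v ≠ 0) :
    md.label v < md.rep.length ∧ md.rep.getD (md.label v) 0 < 256 ∧ f v = f (md.rep.getD (md.label v) 0) := by
  simp only [Md.formOK, Bool.and_eq_true] at h
  obtain ⟨⟨⟨⟨hX, hrep⟩, hlab⟩, -⟩, -⟩ := h
  have hl := allV_spec hlab hv
  rw [show Nat.beq v 0 = false by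
    rw [← Bool.not_eq_true]; exact fun e => h0 (Nat.eq_of_beq_eq_true e), Bool.false_or] at hl
  have hl' : md.label v < md.rep.length := Nat.le_of_ble_eq_true hl
  have hr : md.rep.getD (md.label v) 0 < 256 := by
    rw [List.getD_eq_getElem _ _ hl']
    exact Nat.le_of_ble_eq_true (List.all_eq_true.1 hrep _ (List.getElem_mem hl'))
  refine ⟨hl', hr, ?_⟩
  have hfind : ((List.range md.rep.length).find? fun j =>
      (orbit md.X (md.rep.getD j 0) (md.edge.getD j [])).any (Nat.beq v)) = some (md.label v) := by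
    unfold Md.label at hl' ⊢
    cases e : (List.range md.rep.length).find? fun j =>
        (orbit md.X (md.rep.getD j 0) (md.edge.getD j [])).any (Nat.beq v) with
    | none => rw [e] at hl'; simp at hl'
    | some a => rfl
  have hm := List.find?_some hfind
  obtain ⟨x, hx, hxe⟩ := List.any_eq_true.1 hm
  have := (orbit_spec hX hf hr _ x hx).2
  rwa [← Nat.eq_of_beq_eq_true hxe] at this

/-- An invariant quadratic form other than zero is the given one. -/
theorem form_unique {md : Md} {tgt : ℕ} {wit : List (ℕ × ℕ × ℕ)} (h : md.formOK tgt wit = true)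
    {f : ℕ → Bool} (h0 : f 0 = false) (hf : ∀ i v, v < 256 → f (ap (gen md.X i) v) = f v)
    (h3 : ∀ u v w, u < 256 → v < 256 → w < 256 → ((((((f ((u ^^^ v) ^^^ w) ^^ f (u ^^^ v)) ^^ f (u ^^^ w)) ^^
      f (v ^^^ w)) ^^ f u) ^^ f v) ^^ f w) = false)
    (hne : ∃ v < 256, f v = true) : ∀ v < 256, f v = md.q v := by
  have hform := h
  simp only [Md.formOK, Bool.and_eq_true] at h
  obtain ⟨⟨-, htgt⟩, hopt⟩ := h
  set k := md.rep.length with hk
  let n : ℕ := Nat.ofBits fun i : Fin k => f (md.rep.getD i 0)
  have hfo : ∀ v < 256, f v = md.opt n v := by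
    intro v hv
    rcases Nat.eq_zero_or_pos v with rfl | hp
    · simp [Md.opt, h0]
    obtain ⟨hl', -, this⟩ := label_spec hform hf hv (by omega)
    rw [this, Md.opt, odd_eq, show Nat.beq v 0 = false by
      rw [← Bool.not_eq_true]; intro e; exact absurd (Nat.eq_of_beq_eq_true e) (by omega),
      Bool.not_false, Bool.true_and,
      show Nat.shiftRight n (md.label v) = n >>> md.label v from rfl, Nat.testBit_shiftRight, Nat.add_zero,
      Nat.testBit_ofBits_lt _ _ hl']
  have hn : n < 2 ^ k := Nat.ofBits_lt_two_pow _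
  have := List.all_eq_true.1 hopt n (List.mem_range.2 hn)
  simp only [Bool.or_eq_true, Bool.and_eq_true] at this
  rcases this with (e | e) | ⟨⟨⟨hc, hu⟩, hv⟩, hw⟩
  · exfalso
    obtain ⟨v, hv, hf1⟩ := hne
    rw [hfo v hv, Nat.eq_of_beq_eq_true e] at hf1
    simp [Md.opt, odd_eq] at hf1
  · intro v hv
    rw [hfo v hv, Nat.eq_of_beq_eq_true e]
    exact beq_iff_eq.1 (allV_spec htgt hv)
  · exfalso
    have hu' := Nat.le_of_ble_eq_true hu
    have hv' := Nat.le_of_ble_eq_true hv
    have hw' := Nat.le_of_ble_eq_true hw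
    have := h3 _ _ _ hu' hv' hw'
    rw [hfo _ hu', hfo _ hv', hfo _ hw', hfo _ (xor_lt hu' hv'), hfo _ (xor_lt hu' hw'),
      hfo _ (xor_lt hv' hw'), hfo _ (xor_lt (xor_lt hu' hv') hw')] at this
    exact Bool.false_ne_true (this.symm.trans hc)

/-! ### Involutions -/

/-- An involution of the module: word, point images and a basis of the fixed space. -/
structure Inv where
  /-- The word. -/
  wd : List ℕ
  /-- A basis of the fixed space. -/
  fb : List ℕ

/-- The commutation with the involution. -/
def Md.comV (md : Md) (yw : List ℕ) (v : ℕ) : ℕ := Nat.xor (act md.X yw v) v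

/-- A linear functional on the fixed space, by its values on the basis. -/
def lam (fb : List ℕ) (c m : ℕ) : Bool :=
  (List.range (2 ^ fb.length)).any fun i => Nat.beq (ap fb i) m &&
    (List.range fb.length).foldr (fun j b => (odd (Nat.shiftRight c j) && odd (Nat.shiftRight i j)) ^^ b) false

/-- Is a vector a commutator. -/
def Md.inW (md : Md) (yw : List ℕ) (i : ℕ) : Bool := (List.range 256).any fun v => Nat.beq (md.comV yw v) i

/-- The fixed space is spanned by the given basis. -/
def Md.fixOK (md : Md) (iv : Inv) : Bool :=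
  iv.fb.all (fun b => Nat.blt b 256 && Nat.beq (act md.X iv.wd b) b) &&
  allV fun v => !(Nat.beq (act md.X iv.wd v) v) || (List.range (2 ^ iv.fb.length)).any fun i => Nat.beq (ap iv.fb i) v

/-- The kernel of a functional on the fixed space. -/
def Md.hList (md : Md) (iv : Inv) (c : ℕ) : List ℕ :=
  (List.range 256).filter fun m => Nat.beq (act md.X iv.wd m) m && !(lam iv.fb c m)

/-- The centraliser of the involution in the alternating group. -/
def cent (iv : Inv) : List (List ℕ) := enum (imgW iv.wd) 8 []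

/-- A word fixes a list of vectors. -/
def Md.fixes (md : Md) (H : List ℕ) (w : List ℕ) : Bool := H.all fun h => Nat.beq (act md.X w h) h

/-- The case of a nonzero form on the commutator space. -/
def Md.caseT (md : Md) (iv : Inv) (c : ℕ) : Bool :=
  !((List.range 256).all fun v => lam iv.fb c (md.comV iv.wd v) == md.q (md.comV iv.wd v)) ||
    (let H := md.hList iv c
     (H.all fun i => Nat.beq i 0 || md.q i || H.any (md.B i) || md.inW iv.wd i) &&
      Nat.blt ((cent iv).filter (md.fixes H)).length (Nat.mul 2 H.length))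

/-- All functionals. -/
def Md.allT (md : Md) (iv : Inv) : Bool :=
  ((List.range 256).any fun v => md.q (md.comV iv.wd v)) &&
    (List.range (2 ^ iv.fb.length)).all (md.caseT iv)

/-- An element moves the fixed space in a forbidden way. -/
def Md.bad (md : Md) (iv : Inv) (F : List ℕ) (w : List ℕ) : Bool :=
  F.any fun f => let d := Nat.xor (act md.X w f) f
    !(Nat.beq d 0) && (List.range 256).any fun v => Nat.beq (md.comV iv.wd v) d && !(md.B v f)

/-- The case of a zero form on the commutator space. -/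
def Md.caseF (md : Md) (iv : Inv) : Bool :=
  let F := md.hList iv 0
  allV (fun v => !(md.q (md.comV iv.wd v))) && F.all (md.inW iv.wd) &&
    (cent iv).all (fun w => md.fixes F w || md.bad iv F w) &&
    Nat.blt (Nat.mul 4 ((cent iv).filter (md.fixes F)).length) (Nat.mul 2 F.length)

/-- Small type on the spin module. -/
def ivS2 : Inv := ⟨y22, [22, 41, 73, 134]⟩
/-- Large type on the spin module. -/
def ivS4 : Inv := ⟨y24, [8, 33, 65, 135]⟩
/-- Small type on the permutation module. -/
def ivP2 : Inv := ⟨y22, [3, 5, 9, 17, 96, 128]⟩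
/-- Large type on the permutation module. -/
def ivP4 : Inv := ⟨y24, [6, 24, 96, 128]⟩

theorem fix_ok : mS.fixOK ivS2 = true ∧ mS.fixOK ivS4 = true ∧ mP.fixOK ivP2 = true ∧ mP.fixOK ivP4 = true := by
  decide +kernel

theorem caseS2 : mS.caseF ivS2 = true := by decide +kernel

theorem caseS4 : mS.allT ivS4 = true := by decide +kernel

theorem caseP4 : mP.allT ivP4 = true := by decide +kernel

theorem caseP2 : mP.allT ivP2 = true := by decide +kernel

end Cfsg.Agent.ThRec.Eight
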