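import Cfsg.Agent.Lib.ThRec.CertLongData

/-! Kernel checks: the long relator -/

set_option autoImplicit false
set_option maxRecDepth 100000
set_option Elab.async false

namespace Cfsg.Agent.ThRec.CertLong

open Cfsg.Agent.HN

theorem ok0 : TC.okRange cert 0 101 = true := by decide +kernel

/-- every fact checks -/
theorem ok_all : ∀ n < numFacts, TC.okFact cert n = true := by
  intro n hn
  unfold numFacts at hn
  have := allLo_spec ok0 (i := n - 0) (by omega); rwa [show Nat.add 0 (n - 0) = n from by show 0 + (n - 0) = n; omega] at this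

theorem trace0 : TC.okTrace cert numFacts [3, 8, 3, 1, 2, 0, 1, 3, 7, 3, 1, 0, 2, 1, 2, 4, 3, 8, 3, 1, 2, 0, 1, 4, 8] path0 = true := by decide +kernel

end Cfsg.Agent.ThRec.CertLong
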