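import Cfsg.Agent.Lib.ThRec.Setup
import Cfsg.Agent.Lib.ThRec.CertBECheck
import Cfsg.Agent.Lib.ThRec.CertEightCheck
import Cfsg.Agent.Lib.ThRec.CertLongCheck
import Cfsg.Agent.Lib.ThRec.CertUCheck
import Cfsg.Agent.Lib.ThRec.CertYCheck
import Cfsg.Agent.Lib.ThOut.Rep
import Cfsg.Agent.Lib.Th.Final

/-!
A copy of the centraliser together with one further involution, satisfying the short relators and the local
facts, gives a homomorphism from the presented Thompson group: the long relators follow by coset enumerations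
in pairs with the presented group, and the wrong alternatives collapse.
-/

set_option autoImplicit false
set_option maxRecDepth 100000
set_option maxHeartbeats 1000000
set_option Elab.async false

namespace Cfsg.Agent.ThRec

open Cfsg.Agent.HN Cfsg.Agent.Th Cfsg.Agent.ThOut

noncomputable section

/-- The word of the involution swapping `a` and `c`. -/
def wX : List ℕ := [1, 0, 2, 1]

/-- The element of the local subgroup used in the braid relation. -/
def gX : List ℕ := [4, 7, 3, 9, 3, 9, 7, 7]

/-- The involution of `[E, s]` fixed by `t`. -/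
def xW : List ℕ := [3, 10, 2, 3, 2, 3, 2, 9, 3]

/-- `w` commutes with `e`. -/
def eWord : List ℕ := wX ++ [4] ++ wX ++ [4]

/-- `w` commutes with the involution of `[E, s]`. -/
def xWord : List ℕ := wX ++ xW ++ wX ++ xW

/-- The relator between `u` and `w`, as in the presentation. -/
def uTrue : List ℕ := [10, 1, 2, 0, 1, 9, 1, 0, 2, 1, 4]

/-- The rejected alternative for `u`. -/
def uFalse : List ℕ := [10] ++ wX ++ [9] ++ wX

/-- The braid relation. -/
def yTrue : List ℕ := wX ++ gX ++ wX ++ gX ++ wX ++ gX ++ xW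

/-- The rejected alternative for the braid relation. -/
def yFalse : List ℕ := wX ++ gX ++ wX ++ gX ++ wX ++ gX

theorem mem_CA_let {l : ℕ} (h : l ≠ 1) : g11 l ∈ CA := by
  rcases lt_or_ge l 11 with hl | hl
  · refine (hC0 _).2 ⟨[l], ?_, wv_singleton g11 l⟩
    interval_cases l <;> first | rfl | omega
  · obtain ⟨m, rfl⟩ : ∃ m, l = m + 11 := ⟨l - 11, by omega⟩
    rw [show g11 (m + 11) = 1 by simp [g11, fgen11]]
    exact one_mem _

variable {G : Type*} [Group G] (φ : ↥CA →* G) (b : G)

/-- The letters: the copy, and `b` for the second. -/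
def gB (l : ℕ) : G := if h : l = 1 then b else φ ⟨g11 l, mem_CA_let h⟩

theorem gB_one : gB φ b 1 = b := dif_pos rfl

theorem gB_of_ne {l : ℕ} (h : l ≠ 1) : gB φ b l = φ ⟨g11 l, mem_CA_let h⟩ := dif_neg h

/-- Words without `b` take their values in the copy. -/
theorem wv_gB {w : List ℕ} (hw : ∀ l ∈ w, l ≠ 1) :
    ∃ h : wv g11 w ∈ CA, wv (gB φ b) w = φ ⟨wv g11 w, h⟩ := by
  induction w with
  | nil => exact ⟨one_mem _, (map_one φ).symm⟩
  | cons l w ih =>
    obtain ⟨h, e⟩ := ih fun m hm => hw m (List.mem_cons_of_mem _ hm)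
    have hl := hw l List.mem_cons_self
    refine ⟨by rw [wv_cons]; exact mul_mem (mem_CA_let hl) h, ?_⟩
    rw [wv_cons, e, gB_of_ne φ b hl, ← map_mul]
    rfl

theorem gB_inv (hb : b * b = 1) (l : ℕ) : gB φ b (iv11 l) = (gB φ b l)⁻¹ := by
  by_cases h : l = 1
  · subst h
    rw [show iv11 1 = 1 from rfl, gB_one]
    exact eq_inv_of_mul_eq_one_left hb
  · have h' : iv11 l ≠ 1 := by
      rcases lt_or_ge l 11 with hl | hl
      · interval_cases l <;> first | decide | omega
      · obtain ⟨m, rfl⟩ : ∃ m, l = m + 11 := ⟨l - 11, by omega⟩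
        simp [iv11]
    rw [gB_of_ne φ b h', gB_of_ne φ b h, ← map_inv]
    exact congrArg φ (Subtype.ext (g11_inv l))

/-- The relators that hold by assumption: those without `u` or without `b`, except the two to be proved. -/
def relEasy : List (List ℕ) := relTh.filter fun r =>
  !(r.any (fun l => Nat.beq l 1) && r.any (fun l => Nat.beq l 9 || Nat.beq l 10)) &&
    !(eqW r [1, 4, 1, 4]) && !(Nat.beq r.length 32 && r.any fun l => Nat.beq l 1)

/-- The assumptions on the copy and `b`. -/
structure Local : Prop where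
  inj : Function.Injective φ
  bb : b * b = 1
  nab : b * gB φ b 0 ≠ gB φ b 0 * b
  ab : (gB φ b 0 * b) ^ 3 = 1
  bc : (b * gB φ b 2) ^ 3 = 1
  bd : b * gB φ b 3 = gB φ b 3 * b
  bs : b * gB φ b 5 = gB φ b 5 * b
  bt : b * gB φ b 7 = gB φ b 7 * b
  we : wv (gB φ b) eWord = 1
  wx : wv (gB φ b) xWord = 1
  wu : wv (gB φ b) uTrue = 1 ∨ wv (gB φ b) uFalse = 1
  wy : wv (gB φ b) yTrue = 1 ∨ wv (gB φ b) yFalse = 1

variable {φ b}

theorem comm_rel {x : G} (h : b * x = x * b) : x⁻¹ * (b⁻¹ * (x * b)) = 1 := by rw [← h]; group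

theorem Local.easy (L : Local φ b) : ∀ r ∈ relEasy, wv (gB φ b) r = 1 := by
  intro r hr
  have hr' : r ∈ relTh := List.mem_of_mem_filter hr
  by_cases h1 : ∀ l ∈ r, l ≠ 1
  · obtain ⟨h, e⟩ := wv_gB φ b h1
    rw [e, show (⟨wv g11 r, h⟩ : ↥CA) = 1 from Subtype.ext (relTh_one hr'), map_one]
  · have hb6 : (relEasy.all fun r => !(r.any fun l => Nat.beq l 1) ||
        ([[1, 1], [0, 1, 0, 1, 0, 1], [1, 2, 1, 2, 1, 2], [1, 3, 1, 3], [6, 1, 5, 1],
          [8, 1, 7, 1]] : List (List ℕ)).any fun k => eqW r k) = true := by decide +kernel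
    have h := List.all_eq_true.1 hb6 r hr
    simp only [Bool.or_eq_true, Bool.not_eq_true'] at h
    rcases h with h | h
    · refine absurd (fun l hl e => ?_) h1
      rw [List.any_eq_false] at h
      exact h l hl (by rw [e]; rfl)
    · obtain ⟨k, hk, e⟩ := List.any_eq_true.1 h
      rw [eq_of_eqW e]
      have i5 : gB φ b 6 = (gB φ b 5)⁻¹ := gB_inv φ b L.bb 5
      have i7 : gB φ b 8 = (gB φ b 7)⁻¹ := gB_inv φ b L.bb 7
      have hbi : b⁻¹ = b := inv_eq_of_mul_eq_one_right L.bb
      simp only [List.mem_cons, List.not_mem_nil, or_false] at hk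
      rcases hk with rfl | rfl | rfl | rfl | rfl | rfl <;>
        simp only [wv, mul_one, gB_one, i5, i7]
      · exact L.bb
      · have := L.ab; rw [pow_three] at this; simpa [mul_assoc] using this
      · have := L.bc; rw [pow_three] at this; simpa [mul_assoc] using this
      · calc b * (gB φ b 3 * (b * gB φ b 3)) = b * (gB φ b 3 * (gB φ b 3 * b)) := by rw [L.bd]
          _ = b * (gB φ b 3 * gB φ b 3) * b := by simp only [mul_assoc]
          _ = 1 := by
            rw [show gB φ b 3 * gB φ b 3 = 1 from by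
              conv_lhs => arg 1; rw [show (3 : ℕ) = iv11 3 from rfl, gB_inv φ b L.bb]
              exact inv_mul_cancel _, mul_one, L.bb]
      · have := comm_rel L.bs
        rwa [hbi] at this
      · have := comm_rel L.bt
        rwa [hbi] at this

/-- Rename the nine letters of the certificates to the eleven. -/
def to11C (l : ℕ) : ℕ := ([0, 1, 2, 3, 4, 7, 8, 9, 10] : List ℕ).getD l 11

/-- The relators of a certificate follow from a list. -/
def okRels (C : TC.Cert) (H : List (List ℕ)) : Bool :=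
  (C.rels.all fun r => sameW iv11 (r.map to11C) [] || derivedFrom iv11 H (r.map to11C)) &&
    allLo (fun l => Nat.beq (to11C (C.iv l)) (iv11 (to11C l))) C.k && Nat.beq C.k 9

/-- Words without `b` only. -/
def noB (C : TC.Cert) : Bool := C.subs.all fun w => w.all fun l => !(Nat.beq (to11C l) 1)

section check

variable {M : Type*} [Group M] {g : ℕ → M}

theorem wv_to11C (w : List ℕ) : wv (fun l => g (to11C l)) w = wv g (w.map to11C) := by
  induction w with
  | nil => rfl
  | cons l w ih => rw [wv_cons, List.map_cons, wv_cons, ih]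

theorem cert_rules {C : TC.Cert} {H : List (List ℕ)} (hinv : ∀ l, g (iv11 l) = (g l)⁻¹)
    (hiv : ∀ l, C.k ≤ l → C.iv l = l) (hH : ∀ r ∈ H, wv g r = 1) (h : okRels C H = true)
    (hs : noB C = true) (S : Subgroup M) (hS : ∀ l, l ≠ 1 → g l ∈ S) :
    TC.Rules C (fun l => g (to11C l)) S := by
  simp only [okRels, Bool.and_eq_true, Nat.beq_eq] at h
  obtain ⟨⟨hr, hi⟩, hk⟩ := h
  refine ⟨fun l => ?_, fun r hr' => ?_, fun w hw => ?_⟩
  · rcases lt_or_ge l C.k with hl | hl
    · rw [Nat.eq_of_beq_eq_true (allLo_spec hi hl), hinv]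
    · rw [hiv l hl]
      obtain ⟨m, rfl⟩ : ∃ m, l = m + 9 := ⟨l - 9, by omega⟩
      have e : to11C (m + 9) = 11 := by simp [to11C]
      rw [e, ← hinv 11]
      rfl
  · rw [wv_to11C]
    have := List.all_eq_true.1 hr r hr'
    rw [Bool.or_eq_true] at this
    rcases this with e | e
    · rw [wv_of_sameW g hinv e]; rfl
    · exact derivedFrom_spec hinv hH e
  · refine wv_mem _ fun l hl => hS _ fun e => ?_
    have := List.all_eq_true.1 (List.all_eq_true.1 hs w hw) l hl
    rw [e] at this
    exact absurd this (by decide)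

end check

/-- The letters in the product with the presented group. -/
def gP (φ : ↥CA →* G) (b : G) (l : ℕ) : Cfsg.Spor.Th × G := (g11 l, gB φ b l)

theorem wv_gP (φ : ↥CA →* G) (b : G) (w : List ℕ) : wv (gP φ b) w = (wv g11 w, wv (gB φ b) w) := by
  induction w with
  | nil => rfl
  | cons l w ih => rw [wv_cons, ih, wv_cons, wv_cons]; rfl

/-- A relator of the presented group lying in the graph of the copy holds. -/
theorem Local.graph (L : Local φ b) {C : TC.Cert} {N : ℕ} {w refs : List ℕ} {H : List (List ℕ)}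
    (hiv : ∀ l, C.k ≤ l → C.iv l = l) (hgood : ∀ n < N, TC.okFact C n = true)
    (htr : TC.okTrace C N w refs = true) (hrel : okRels C H = true) (hs : noB C = true)
    (hT : ∀ r ∈ H, wv g11 r = 1) (hG : ∀ r ∈ H, wv (gB φ b) r = 1)
    (hw : wv g11 (w.map to11C) = 1) : wv (gB φ b) (w.map to11C) = 1 := by
  let S : Subgroup (Cfsg.Spor.Th × G) := (CA.subtype.prod φ).range
  have R : TC.Rules C (fun l => gP φ b (to11C l)) S :=
    cert_rules (fun l => Prod.ext (g11_inv l) (gB_inv φ b L.bb l)) hiv
      (fun r hr => by rw [wv_gP, hT r hr, hG r hr]; rfl) hrel hs S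
      (fun l hl => ⟨⟨g11 l, mem_CA_let hl⟩, Prod.ext rfl (gB_of_ne φ b hl).symm⟩)
  obtain ⟨x, hx⟩ := TC.trace_mem R (TC.all_good R hgood) htr
  rw [wv_to11C, wv_gP, hw] at hx
  obtain ⟨h1, h2⟩ := Prod.ext_iff.1 hx
  have hx1 : x = 1 := Subtype.ext h1
  rw [hx1] at h2
  exact h2.symm.trans (map_one φ)

/-- The rejected alternatives put `b` into the copy. -/
theorem Local.collapse (L : Local φ b) {C : TC.Cert} {N : ℕ} {refs : List ℕ} {H : List (List ℕ)}
    (hiv : ∀ l, C.k ≤ l → C.iv l = l) (hgood : ∀ n < N, TC.okFact C n = true)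
    (htr : TC.okTrace C N [1] refs = true) (hrel : okRels C H = true) (hs : noB C = true)
    (hG : ∀ r ∈ H, wv (gB φ b) r = 1) : False := by
  have R : TC.Rules C (fun l => gB φ b (to11C l)) φ.range :=
    cert_rules (gB_inv φ b L.bb) hiv hG hrel hs _
      (fun l hl => by rw [gB_of_ne φ b hl]; exact ⟨_, rfl⟩)
  obtain ⟨x, hx⟩ := TC.trace_mem R (TC.all_good R hgood) htr
  rw [wv_to11C, show List.map to11C [1] = [1] from rfl, wv_singleton, gB_one] at hx
  refine L.nab ?_
  rw [gB_of_ne φ b (by norm_num : (0 : ℕ) ≠ 1), ← hx, ← map_mul, ← map_mul]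
  exact congrArg φ (Subtype.ext (Subgroup.mem_centralizer_singleton_iff.1 x.2))

theorem th_words : Nat.beq (runV ThRep.one eWord) (runV ThRep.one []) = true ∧
    Nat.beq (runV ThRep.one xWord) (runV ThRep.one []) = true ∧
    Nat.beq (runV ThRep.one yTrue) (runV ThRep.one []) = true := by decide +kernel

theorem th_extra : wv g11 eWord = 1 ∧ wv g11 xWord = 1 ∧ wv g11 yTrue = 1 :=
  ⟨eq_of_runV hom_injective th_words.1, eq_of_runV hom_injective th_words.2.1,
    eq_of_runV hom_injective th_words.2.2⟩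

theorem uTrue_mem : uTrue ∈ relTh := by decide +kernel

/-- The relator making `b` and `e` commute. -/
def beWord : List ℕ := [1, 4, 1, 4]

/-- The relator of order eight. -/
def eightWord : List ℕ := [1, 2, 3, 4, 1, 2, 3, 4, 1, 2, 3, 4, 1, 2, 3, 4, 1, 2, 3, 4, 1, 2, 3, 4, 1, 2, 3, 4,
  1, 2, 3, 4]

/-- The long relator, on the nine letters of the certificates. -/
def longW : List ℕ := [3, 8, 3, 1, 2, 0, 1, 3, 7, 3, 1, 0, 2, 1, 2, 4, 3, 8, 3, 1, 2, 0, 1, 4, 8]

theorem longW_mem : longW.map to11C ∈ relTh := by decide +kernel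

theorem target_mem : beWord ∈ relTh ∧ eightWord ∈ relTh := by decide +kernel

/-- **All relators hold.** -/
theorem Local.all_rels (L : Local φ b) : ∀ r ∈ relTh, wv (gB φ b) r = 1 := by
  obtain ⟨te, tx, ty⟩ := th_extra
  have he := L.easy
  have hTe : ∀ r ∈ relEasy, wv g11 r = 1 := fun r hr => relTh_one (List.mem_of_mem_filter hr)
  have hu : wv (gB φ b) uTrue = 1 := L.wu.resolve_right fun h =>
    L.collapse (C := CertU.cert) (H := relEasy ++ [eWord, xWord, uFalse])
      (fun l hl => by simp only [CertU.cert] at hl; obtain ⟨m, rfl⟩ : ∃ m, l = m + 9 := ⟨l - 9, by omega⟩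
                      simp [CertU.cert, CertU.ivl])
      CertU.ok_all CertU.trace0 (by decide +kernel) (by decide +kernel)
      (by simpa [or_imp, forall_and] using ⟨he, L.we, L.wx, h⟩)
  have hTu := relTh_one uTrue_mem
  have hbe : wv (gB φ b) beWord = 1 :=
    L.graph (C := CertBE.cert) (w := [1, 4, 1, 4]) (H := relEasy ++ [eWord, xWord, uTrue])
      (fun l hl => by simp only [CertBE.cert] at hl; obtain ⟨m, rfl⟩ : ∃ m, l = m + 9 := ⟨l - 9, by omega⟩
                      simp [CertBE.cert, CertBE.ivl])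
      CertBE.ok_all CertBE.trace0 (by decide +kernel) (by decide +kernel)
      (by simpa [or_imp, forall_and] using ⟨hTe, te, tx, hTu⟩)
      (by simpa [or_imp, forall_and] using ⟨he, L.we, L.wx, hu⟩)
      (relTh_one target_mem.1)
  have hTb := relTh_one target_mem.1
  have hy : wv (gB φ b) yTrue = 1 := L.wy.resolve_right fun h =>
    L.collapse (C := CertY.cert) (H := relEasy ++ [eWord, xWord, uTrue, beWord, yFalse])
      (fun l hl => by simp only [CertY.cert] at hl; obtain ⟨m, rfl⟩ : ∃ m, l = m + 9 := ⟨l - 9, by omega⟩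
                      simp [CertY.cert, CertY.ivl])
      CertY.ok_all CertY.trace0 (by decide +kernel) (by decide +kernel)
      (by simpa [or_imp, forall_and] using ⟨he, L.we, L.wx, hu, hbe, h⟩)
  have h8 : wv (gB φ b) eightWord = 1 :=
    L.graph (C := CertEight.cert) (w := eightWord) (H := relEasy ++ [eWord, xWord, uTrue, beWord])
      (fun l hl => by simp only [CertEight.cert] at hl; obtain ⟨m, rfl⟩ : ∃ m, l = m + 9 := ⟨l - 9, by omega⟩
                      simp [CertEight.cert, CertEight.ivl])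
      CertEight.ok_all CertEight.trace0 (by decide +kernel) (by decide +kernel)
      (by simpa [or_imp, forall_and] using ⟨hTe, te, tx, hTu, hTb⟩)
      (by simpa [or_imp, forall_and] using ⟨he, L.we, L.wx, hu, hbe⟩)
      (relTh_one target_mem.2)
  have hlong : wv (gB φ b) (longW.map to11C) = 1 :=
    L.graph (C := CertLong.cert) (H := relEasy ++ [eWord, xWord, uTrue, beWord, yTrue])
      (fun l hl => by simp only [CertLong.cert] at hl; obtain ⟨m, rfl⟩ : ∃ m, l = m + 9 := ⟨l - 9, by omega⟩
                      simp [CertLong.cert, CertLong.ivl])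
      CertLong.ok_all CertLong.trace0 (by decide +kernel) (by decide +kernel)
      (by simpa [or_imp, forall_and] using ⟨hTe, te, tx, hTu, hTb, ty⟩)
      (by simpa [or_imp, forall_and] using ⟨he, L.we, L.wx, hu, hbe, hy⟩)
      (relTh_one longW_mem)
  intro r hr
  have hc : (relTh.all fun r => relEasy.any (fun k => eqW r k) || eqW r uTrue || eqW r beWord ||
      eqW r eightWord || eqW r (longW.map to11C)) = true := by decide +kernel
  have := List.all_eq_true.1 hc r hr
  simp only [Bool.or_eq_true, List.any_eq_true] at this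
  rcases this with (((⟨k, hk, e⟩ | e) | e) | e) | e <;> rw [eq_of_eqW e]
  exacts [he k hk, hu, hbe, h8, hlong]

/-- The images of the generators. -/
def genImg (φ : ↥CA →* G) (b : G) : Cfsg.Spor.Th.Gen → G
  | .a => gB φ b 0
  | .b => b
  | .c => gB φ b 2
  | .d => gB φ b 3
  | .e => gB φ b 4
  | .s => gB φ b 5
  | .t => gB φ b 7
  | .u => gB φ b 9

theorem lift_fgen11 (L : Local φ b) (l : ℕ) :
    FreeGroup.lift (genImg φ b) (fgen11 l) = gB φ b l := by
  have i5 : gB φ b 6 = (gB φ b 5)⁻¹ := gB_inv φ b L.bb 5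
  have i7 : gB φ b 8 = (gB φ b 7)⁻¹ := gB_inv φ b L.bb 7
  have i9 : gB φ b 10 = (gB φ b 9)⁻¹ := gB_inv φ b L.bb 9
  match l with
  | 0 | 1 | 2 | 3 | 4 | 5 | 7 | 9 => simp [fgen11, genImg, gB_one]
  | 6 => simp [fgen11, genImg, i5]
  | 8 => simp [fgen11, genImg, i7]
  | 10 => simp [fgen11, genImg, i9]
  | _ + 11 =>
    rw [gB_of_ne φ b (by omega)]
    refine Eq.trans ?_ (congrArg φ (Subtype.ext (by simp [g11, fgen11]) : (1 : ↥CA) = _))
    simp [fgen11]

theorem lift_extra (L : Local φ b) : ∀ r ∈ relsTh, FreeGroup.lift (genImg φ b) r = 1 := by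
  rintro r (⟨x, hx, -⟩ | hr)
  · simp [Cfsg.Spor.coxNodes, Cfsg.Spor.Th.edges] at hx
  · rw [Set.mem_ofPred_eq, extra_eq, List.mem_map] at hr
    obtain ⟨w, hw, rfl⟩ := hr
    have e : FreeGroup.lift (genImg φ b) (wv fgen16 w) = wv (gB φ b) (w.map to11) := by
      clear hw
      induction w with
      | nil => exact map_one _
      | cons l w ih =>
        rw [wv_cons, map_mul, ih, List.map_cons, wv_cons]
        congr 1
        match l with
        | 0 | 2 | 4 | 6 | 8 | 10 | 11 | 12 | 13 | 14 | 15 =>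
          first
            | exact lift_fgen11 L _
            | exact (congrArg _ (by rfl)).trans (lift_fgen11 L _)
        | 1 =>
          rw [show fgen16 1 = (fgen11 0)⁻¹ from rfl, map_inv, lift_fgen11 L, ← gB_inv φ b L.bb]
          rfl
        | 3 =>
          rw [show fgen16 3 = (fgen11 1)⁻¹ from rfl, map_inv, lift_fgen11 L, ← gB_inv φ b L.bb]
          rfl
        | 5 =>
          rw [show fgen16 5 = (fgen11 2)⁻¹ from rfl, map_inv, lift_fgen11 L, ← gB_inv φ b L.bb]
          rfl
        | 7 =>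
          rw [show fgen16 7 = (fgen11 3)⁻¹ from rfl, map_inv, lift_fgen11 L, ← gB_inv φ b L.bb]
          rfl
        | 9 =>
          rw [show fgen16 9 = (fgen11 4)⁻¹ from rfl, map_inv, lift_fgen11 L, ← gB_inv φ b L.bb]
          rfl
        | _ + 16 =>
          rw [show to11 (_ + 16) = 11 by simp [to11], ← lift_fgen11 L 11]
          simp [fgen16, fgen11]
    rw [e]
    exact L.all_rels _ (List.mem_map.2 ⟨w, hw, rfl⟩)

/-- The homomorphism from the presented group. -/
def Local.hom (L : Local φ b) : Cfsg.Spor.Th →* G := PresentedGroup.toGroup (lift_extra L)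

theorem Local.hom_g11 (L : Local φ b) (l : ℕ) : L.hom (g11 l) = gB φ b l := lift_fgen11 L l

/-- **The homomorphism extends the copy.** -/
theorem Local.hom_CA (L : Local φ b) (x : ↥CA) : L.hom x = φ x := by
  obtain ⟨w, hw, e⟩ := (hC0 x).1 x.2
  have h1 : ∀ l ∈ w, l ≠ 1 := fun l hl h => by
    simp only [okSide, cond_true, List.all_eq_true, Bool.and_eq_true, Bool.not_eq_true'] at hw
    have := (hw l hl).2
    rw [h] at this
    exact absurd this (by decide)
  obtain ⟨h, e'⟩ := wv_gB φ b h1
  rw [← e, map_wv, wv_congr (g' := gB φ b) _ fun l _ => L.hom_g11 l, e']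
  exact congrArg φ (Subtype.ext e)

theorem Local.hom_injective (L : Local φ b) : Function.Injective L.hom := by
  haveI := Th.isTh.1
  rcases L.hom.normal_ker.eq_bot_or_eq_top with h | h
  · exact (MonoidHom.ker_eq_bot_iff _).1 h
  · exfalso
    refine L.nab ?_
    have e : gB φ b 0 = 1 := by
      rw [← L.hom_g11 0]
      exact MonoidHom.mem_ker.1 (h ▸ Subgroup.mem_top _)
    rw [e, mul_one, one_mul]

end

end Cfsg.Agent.ThRec
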