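import Cfsg.Agent.Lib.AltMult.Count
import Mathlib.GroupTheory.Perm.Centralizer
import Mathlib.GroupTheory.SpecificGroups.Alternating

/-!
Involutions of the alternating group of degree nine: two classes, and the size of their centralisers.
-/

set_option autoImplicit false
set_option maxRecDepth 100000
set_option Elab.async false

namespace Cfsg.Agent.ThRec

open Equiv

variable {α : Type*} [Fintype α] [DecidableEq α]

/-- Shorthand for an even involution. -/
def EvenInv (σ : Perm α) : Prop := σ * σ = 1 ∧ σ ≠ 1 ∧ Perm.sign σ = 1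

theorem EvenInv.cycleType {σ : Perm α} (h : EvenInv σ) :
    ∃ k, Even k ∧ 0 < k ∧ σ.cycleType = Multiset.replicate k 2 := by
  have ho : orderOf σ = 2 := orderOf_eq_prime (by rw [pow_two, h.1]) h.2.1
  obtain ⟨k, hk⟩ := Perm.cycleType_prime_order (σ := σ) (by rw [ho]; exact Nat.prime_two)
  rw [ho] at hk
  refine ⟨k + 1, ?_, Nat.succ_pos k, hk⟩
  have hs := Perm.sign_of_cycleType σ
  rw [hk, h.2.2, Multiset.sum_replicate, Multiset.card_replicate, smul_eq_mul, pow_add, pow_mul'] at hs
  by_contra hc
  rw [Nat.not_even_iff_odd] at hc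
  rw [Odd.neg_one_pow hc, neg_one_sq, one_pow, one_mul] at hs
  exact absurd hs (by decide)

/-- Even involutions with supports of one size are conjugate by an even permutation. -/
theorem EvenInv.conj {σ r : Perm α} (hσ : EvenInv σ) (hr : EvenInv r)
    (hs : r.support.card = σ.support.card) : ∃ g, Perm.sign g = 1 ∧ g * r * g⁻¹ = σ := by
  obtain ⟨k, -, -, hk⟩ := hσ.cycleType
  obtain ⟨l, -, -, hl⟩ := hr.cycleType
  have hkl : r.cycleType = σ.cycleType := by
    rw [← Perm.sum_cycleType, ← Perm.sum_cycleType, hk, hl, Multiset.sum_replicate, Multiset.sum_replicate,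
      smul_eq_mul, smul_eq_mul] at hs
    rw [hk, hl, show l = k by omega]
  obtain ⟨g, hg⟩ := isConj_iff.1 (Perm.isConj_iff_cycleType_eq.2 hkl)
  rcases Int.units_eq_one_or (Perm.sign g) with e | e
  · exact ⟨g, e, hg⟩
  obtain ⟨i, hi⟩ : ∃ i, r i ≠ i := by
    by_contra hc
    push Not at hc
    exact hr.2.1 (Equiv.ext hc)
  have hrr : r (r i) = i := by rw [← Perm.mul_apply, hr.1]; rfl
  have hsw : swap i (r i) * r * (swap i (r i))⁻¹ = r := by
    rw [mul_inv_eq_iff_eq_mul]
    exact (Equiv.mul_swap_eq_swap_mul r i (r i)).trans (by rw [hrr, swap_comm]) |>.symm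
  refine ⟨g * swap i (r i), ?_, ?_⟩
  · rw [map_mul, e, Perm.sign_swap (Ne.symm hi)]; rfl
  · rw [mul_inv_rev]
    calc g * swap i (r i) * r * ((swap i (r i))⁻¹ * g⁻¹)
        = g * (swap i (r i) * r * (swap i (r i))⁻¹) * g⁻¹ := by group
      _ = σ := by rw [hsw, hg]

/-- The two sizes of support of an even involution on nine points. -/
theorem EvenInv.support_card {σ : Perm α} (h : EvenInv σ) (h9 : Fintype.card α = 9) :
    σ.support.card = 4 ∨ σ.support.card = 8 := by
  obtain ⟨k, hev, hk0, hk⟩ := h.cycleType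
  have hle := Perm.sum_cycleType_le σ
  have hsum := Perm.sum_cycleType σ
  rw [hk, Multiset.sum_replicate, smul_eq_mul] at hle hsum
  rw [h9] at hle
  obtain ⟨j, rfl⟩ := hev
  omega

/-- At most 480 even permutations commute with an even involution on nine points. -/
theorem EvenInv.card_centralizer {σ : Perm α} (h : EvenInv σ) (h9 : Fintype.card α = 9) :
    Nat.card {τ : Perm α // Perm.sign τ = 1 ∧ τ * σ = σ * τ} ≤ 480 := by
  obtain ⟨i, hi⟩ : ∃ i, σ i ≠ i := by
    by_contra hc
    push Not at hc
    exact h.2.1 (Equiv.ext hc)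
  have hσσ : σ (σ i) = i := by rw [← Perm.mul_apply, h.1]; rfl
  have hsw : swap i (σ i) * σ = σ * swap i (σ i) :=
    ((Equiv.mul_swap_eq_swap_mul σ i (σ i)).trans (by rw [hσσ, swap_comm])).symm
  let f : {τ : Perm α // Perm.sign τ = 1 ∧ τ * σ = σ * τ} × Bool → Subgroup.centralizer ({σ} : Set (Perm α)) :=
    fun p => ⟨bif p.2 then p.1.1 * swap i (σ i) else p.1.1, by
      rw [Subgroup.mem_centralizer_singleton_iff]
      cases p.2
      · exact p.1.2.2
      · rw [cond_true, mul_assoc, hsw, ← mul_assoc, p.1.2.2, mul_assoc]⟩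
  have hf : Function.Injective f := by
    rintro ⟨⟨x, hx, hx'⟩, b⟩ ⟨⟨y, hy, hy'⟩, c⟩ e
    have e' := congrArg Subtype.val e
    have hsg := congrArg Perm.sign e'
    have hn := Perm.sign_swap (Ne.symm hi)
    cases b <;> cases c <;> simp only [f, cond_true, cond_false] at e' hsg
    · subst e'; rfl
    · rw [map_mul, hx, hy, hn] at hsg; exact absurd hsg (by decide)
    · rw [map_mul, hx, hy, hn] at hsg; exact absurd hsg (by decide)
    · obtain rfl := mul_right_cancel e'; rfl
  have hc := Nat.card_le_card_of_injective f hf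
  rw [Nat.card_prod, show Nat.card Bool = 2 by simp, Perm.nat_card_centralizer] at hc
  obtain ⟨k, hev, hk0, hk⟩ := h.cycleType
  have hle := Perm.sum_cycleType_le σ
  rw [hk, Multiset.sum_replicate, smul_eq_mul, h9] at hle
  rw [hk, h9, Multiset.sum_replicate, smul_eq_mul, Multiset.prod_replicate,
    Multiset.toFinset_replicate, if_neg (by omega), Finset.prod_singleton, Multiset.count_replicate_self] at hc
  obtain ⟨j, rfl⟩ := hev
  have : j = 1 ∨ j = 2 := by omega
  rcases this with rfl | rfl
  · have e : Nat.factorial (9 - (1 + 1) * 2) * 2 ^ (1 + 1) * Nat.factorial (1 + 1) = 960 := by decide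
    omega
  · have e : Nat.factorial (9 - (2 + 2) * 2) * 2 ^ (2 + 2) * Nat.factorial (2 + 2) = 384 := by decide
    omega

/-- Three commuting involutions, all seven products without a fixed point among the first eight points. -/
def eightA : Perm (Fin 9) := swap 0 1 * swap 2 3 * swap 4 5 * swap 6 7

/-- The second. -/
def eightB : Perm (Fin 9) := swap 0 2 * swap 1 3 * swap 4 6 * swap 5 7

/-- The third. -/
def eightC : Perm (Fin 9) := swap 0 4 * swap 1 5 * swap 2 6 * swap 3 7

/-- A computable form of being an even involution with a support of given size. -/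
def evenChk (x : Perm (Fin 9)) (n : ℕ) : Bool :=
  decide (x * x = 1) && decide (x ≠ 1) && decide (Perm.sign x = 1) && decide (x.support.card = n)

theorem evenChk_spec {x : Perm (Fin 9)} {n : ℕ} (h : evenChk x n = true) :
    EvenInv x ∧ x.support.card = n := by
  simp only [evenChk, Bool.and_eq_true, decide_eq_true_eq] at h
  exact ⟨⟨h.1.1.1, h.1.1.2, h.1.2⟩, h.2⟩

theorem eight_spec : ([eightA, eightB, eightC, eightA * eightB, eightA * eightC, eightB * eightC,
    eightA * eightB * eightC].all fun x => evenChk x 8) = true := by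
  decide +kernel

theorem four_spec :
    ([AltMult.mgen 9 2, AltMult.bgen 9, AltMult.mgen 9 2 * AltMult.bgen 9].all fun x => evenChk x 4) = true := by
  decide +kernel

end Cfsg.Agent.ThRec
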