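import Cfsg.Agent.Lib.ThRec.ModelFacts
import Cfsg.Agent.Lib.ThRec.NinePerm
import Mathlib.GroupTheory.SpecificGroups.Alternating.Centralizer

/-!
The centraliser of `a` is a copy of the model: the pairs acting alike on the normal subgroup form a double
cover of it which splits, since the lifts of involutions of the alternating group square trivially.
-/

set_option autoImplicit false
set_option maxRecDepth 100000
set_option maxHeartbeats 1000000
set_option Elab.async false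
set_option linter.style.haveILetI false

namespace Cfsg.Agent.ThRec

open Cfsg.Agent.HN Cfsg.Agent.Th Cfsg.Agent.ThOut Equiv

noncomputable section

/-- The action on nine points, typed over `Fin 9`. -/
abbrev nine9 : ↥CA →* Perm (Fin 9) := nineHom

theorem nine9_range : nine9.range = alternatingGroup (Fin 9) := toNine_range hC0 hcard0

theorem nine9_sign (x : ↥CA) : Perm.sign (nine9 x) = 1 :=
  Perm.mem_alternatingGroup.1 (nine9_range ▸ ⟨x, rfl⟩ : nine9 x ∈ alternatingGroup (Fin 9))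

theorem exists_nine9 {σ : Perm (Fin 9)} (h : Perm.sign σ = 1) : ∃ x : ↥CA, nine9 x = σ :=
  MonoidHom.mem_range.1 (nine9_range ▸ Perm.mem_alternatingGroup.2 h)

theorem nine9_letter {l : ℕ} (h : l < 11) (h1 : l ≠ 1) :
    nine9 ⟨g11 l, letter_mem h h1⟩ = (p9 l : Perm (Fin 9)) := by
  have e : (⟨g11 l, letter_mem h h1⟩ : ↥CA) =
      ⟨wv g11 [l], (hC0 _).2 ⟨[l], letter_side h h1, rfl⟩⟩ := Subtype.ext (wv_singleton g11 l).symm
  rw [e]
  exact (toNine_mk hC0 hcard0 (letter_side h h1)).trans (wv_singleton p9 l)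

theorem p9_supports : evenChk (p9 9) 4 = true ∧ evenChk (p9 4) 8 = true ∧
    decide ((p9 7 : Perm (Fin 9)) = 1) = false := by
  decide +kernel

theorem model_words : eqS true [9, 9] [0, 2] = true ∧ eqS true [9, 2] [2, 9] = true ∧
    eqS true [9, 7, 10] [8] = true ∧ eqS true [7, 7, 7] [] = true ∧ eqS true [7, 2] [2, 7] = true := by
  decide +kernel

theorem u_check : allLo (fun q => !(eqS true ([9] ++ qW q ++ [9] ++ qW q) [])) 512 = true := by
  decide +kernel

theorem e_check : allLo (fun q => !(eqS true ([4] ++ qW q ++ [4] ++ qW q) [0]) ||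
    allLo (fun r => !(eqS true (qW r ++ qW r) []) || eqS true (qW r) [] || eqS true (qW r) [0] ||
      !(eqS true ([4] ++ qW q ++ qW r) (qW r ++ [4] ++ qW q))) 512) 512 = true := by
  decide +kernel

/-- No involution lies in the coset of `u`. -/
theorem u_none {q : Cfsg.Spor.Th} (hq : q ∈ Q0) : g11 9 * q * (g11 9 * q) ≠ 1 := by
  obtain ⟨i, hi, rfl⟩ := mem_Q0.1 hq
  have h := allLo_spec u_check hi
  rw [Bool.not_eq_true'] at h
  have hs : okSide true ([9] ++ qW i ++ [9] ++ qW i) = true :=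
    okSide_append (okSide_append (okSide_append rfl (qW_side hi)) rfl) (qW_side hi)
  intro e
  refine ne_of_eqS psi_injective hs rfl h ?_
  rw [wv_append, wv_append, wv_append, wv_singleton, wv_nil, ← e]
  group

/-- A square root of `a` in the coset of `e` centralises no other involution of the normal subgroup. -/
theorem e_none {q r : Cfsg.Spor.Th} (hq : q ∈ Q0) (hsq : g11 4 * q * (g11 4 * q) = g11 0) (hr : r ∈ Q0)
    (r2 : r * r = 1) (r1 : r ≠ 1) (ra : r ≠ g11 0) : g11 4 * q * r ≠ r * (g11 4 * q) := by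
  obtain ⟨i, hi, rfl⟩ := mem_Q0.1 hq
  obtain ⟨j, hj, rfl⟩ := mem_Q0.1 hr
  have he : okSide true [4] = true := rfl
  have h := allLo_spec e_check hi
  rw [Bool.or_eq_true, Bool.not_eq_true'] at h
  rcases h with h | h
  · exfalso
    refine ne_of_eqS psi_injective
      (okSide_append (okSide_append (okSide_append he (qW_side hi)) he) (qW_side hi)) rfl h ?_
    rw [wv_append, wv_append, wv_append, wv_singleton, wv_singleton, ← hsq]
    group
  have h := allLo_spec h hj
  simp only [Bool.or_eq_true, Bool.not_eq_true'] at h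
  rcases h with ((h | h) | h) | h
  · exfalso
    refine ne_of_eqS psi_injective (okSide_append (qW_side hj) (qW_side hj)) rfl h ?_
    rw [wv_append, wv_nil, r2]
  · exact absurd ((eqS_eq h).trans (wv_nil g11)) r1
  · exact absurd ((eqS_eq h).trans (wv_singleton g11 0)) ra
  · intro e
    refine ne_of_eqS psi_injective (okSide_append (okSide_append he (qW_side hi)) (qW_side hj))
      (okSide_append (okSide_append (qW_side hj) he) (qW_side hi)) h ?_
    rw [wv_append, wv_append, wv_append, wv_append, wv_singleton, e]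
    group

/-- The element `ac` of the normal subgroup. -/
abbrev acQ : ↥Q0 := ⟨g11 0, a0_mem_Q0⟩ * ⟨g11 2, c0_mem_Q0⟩

variable {G : Type*} [Group G] {a : G} {Q : Subgroup G}

/-- The image of `c`. -/
abbrev cImg (θ : ↥Q0 ≃* ↥Q) : G := (θ ⟨g11 2, c0_mem_Q0⟩ : G)

/-- The pairs acting alike on the normal subgroups. -/
def Rel (θ : ↥Q0 ≃* ↥Q) (x : Cfsg.Spor.Th) (y : G) : Prop :=
  ∀ q r : ↥Q0, (r : Cfsg.Spor.Th) = x * q * x⁻¹ → (θ r : G) = y * θ q * y⁻¹

variable {θ : ↥Q0 ≃* ↥Q}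

theorem rel_mul {x x' : Cfsg.Spor.Th} {y y' : G} (hx : x' ∈ CA) (h : Rel θ x y) (h' : Rel θ x' y') :
    Rel θ (x * x') (y * y') := by
  intro q r e
  have h1 := h' q ⟨_, conj_mem_Q0 hx q.2⟩ rfl
  have h2 := h ⟨_, conj_mem_Q0 hx q.2⟩ r (by rw [e]; group)
  rw [h2, h1]
  group

theorem rel_one : Rel θ 1 1 := by
  intro q r e
  rw [show r = q from Subtype.ext (by simpa using e)]
  group

theorem rel_inv {x : Cfsg.Spor.Th} {y : G} (h : Rel θ x y) : Rel θ x⁻¹ y⁻¹ := by
  intro q r e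
  have h1 := h r q (by rw [e]; group)
  rw [h1]
  group

theorem rel_Q0 (q : ↥Q0) : Rel θ (q : Cfsg.Spor.Th) (θ q : G) := by
  intro s r e
  rw [show r = q * s * q⁻¹ from Subtype.ext (by rw [e]; rfl)]
  simp

theorem mem_C {y : G} : y ∈ Subgroup.centralizer ({a} : Set G) ↔ y * a = a * y :=
  Subgroup.mem_centralizer_singleton_iff

theorem Setup.a_sq (S : Setup a Q) : a * a = 1 := by
  rw [← pow_two, ← S.ha, pow_orderOf_eq_one]

theorem Setup.a_ne (S : Setup a Q) : a ≠ 1 := fun h => by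
  have := S.ha; rw [h, orderOf_one] at this; omega

theorem Setup.a_mem_C (_S : Setup a Q) : a ∈ Subgroup.centralizer ({a} : Set G) := mem_C.2 rfl

theorem Frame.theta_a (F : Frame a Q θ) : (θ ⟨g11 0, a0_mem_Q0⟩ : G) = a := F.a_map _ rfl

theorem rel_a (S : Setup a Q) : Rel θ 1 a := by
  intro q r e
  rw [show r = q from Subtype.ext (by simpa using e), ← mem_C.1 (S.le (θ q).2), mul_inv_cancel_right]

/-- An element of the centraliser acting trivially is central. -/
theorem rel_central (S : Setup a Q) (F : Frame a Q θ) {z : G} (hz : z ∈ Subgroup.centralizer ({a} : Set G))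
    (h : Rel θ 1 z) : z = 1 ∨ z = a := by
  have hc : ∀ q ∈ Q, z * q = q * z := fun q hq => by
    have := h (θ.symm ⟨q, hq⟩) (θ.symm ⟨q, hq⟩) (by group)
    rw [θ.apply_symm_apply] at this
    exact mul_inv_eq_iff_eq_mul.1 this.symm
  have hzQ := S.self z hz hc
  obtain ⟨v, hv⟩ : ∃ v : ↥Q0, (θ v : G) = z := ⟨θ.symm ⟨z, hzQ⟩, by rw [θ.apply_symm_apply]⟩
  have hv' : ∀ q ∈ Q0, (v : Cfsg.Spor.Th) * q = q * v := fun q hq =>
    congrArg Subtype.val (θ.injective (Subtype.ext (by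
      rw [map_mul, map_mul, Subgroup.coe_mul, Subgroup.coe_mul, hv]
      exact hc _ (θ ⟨q, hq⟩).2) : θ (v * ⟨q, hq⟩) = θ (⟨q, hq⟩ * v)))
  rcases center_Q0 v.2 hv' with e | e
  · left; rw [← hv, show v = 1 from Subtype.ext e, map_one]; rfl
  · right; rw [← hv, show v = ⟨g11 0, a0_mem_Q0⟩ from Subtype.ext e, F.theta_a]

theorem rel_unique (S : Setup a Q) (F : Frame a Q θ) {x : Cfsg.Spor.Th} (hx : x ∈ CA) {y y' : G}
    (hy : y ∈ Subgroup.centralizer ({a} : Set G)) (hy' : y' ∈ Subgroup.centralizer ({a} : Set G))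
    (h : Rel θ x y) (h' : Rel θ x y') : y' = y ∨ y' = y * a := by
  have h1 : Rel θ 1 (y⁻¹ * y') := by
    have := rel_mul hx (rel_inv h) h'
    rwa [inv_mul_cancel] at this
  rcases rel_central S F (mul_mem (inv_mem hy) hy') h1 with e | e
  · left; exact (inv_mul_eq_one.1 e).symm
  · right; exact inv_mul_eq_iff_eq_mul.1 e

theorem rel_left {x : Cfsg.Spor.Th} (hx : x ∈ CA) (h : Rel θ x 1) : x = 1 ∨ x = g11 0 := by
  refine centralizer_Q0 hx fun q hq => ?_
  have := h ⟨q, hq⟩ ⟨_, conj_mem_Q0 hx hq⟩ rfl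
  rw [one_mul, inv_one, mul_one] at this
  exact mul_inv_eq_iff_eq_mul.1 (congrArg Subtype.val (θ.injective (Subtype.ext this)))

variable (a θ) in
/-- The pairs, as a group. -/
def rels : Subgroup (↥CA × ↥(Subgroup.centralizer ({a} : Set G))) where
  carrier := {p | Rel θ (p.1 : Cfsg.Spor.Th) (p.2 : G)}
  mul_mem' {_ q} hp hq := rel_mul q.1.2 hp hq
  one_mem' := rel_one
  inv_mem' hp := rel_inv hp

/-- The first projection. -/
def pr1 : ↥(rels a θ) →* ↥CA := (MonoidHom.fst _ _).comp (rels a θ).subtype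

/-- The second projection. -/
def pr2 : ↥(rels a θ) →* ↥(Subgroup.centralizer ({a} : Set G)) :=
  (MonoidHom.snd _ _).comp (rels a θ).subtype

theorem pair_ext {p q : ↥(rels a θ)} (h1 : (pr1 p : Cfsg.Spor.Th) = pr1 q) (h2 : (pr2 p : G) = pr2 q) :
    p = q := Subtype.ext (Prod.ext (Subtype.ext h1) (Subtype.ext h2))

theorem pair_rel (p : ↥(rels a θ)) : Rel θ (pr1 p : Cfsg.Spor.Th) (pr2 p : G) := p.2

/-- A pair from its parts. -/
def mkP {x : Cfsg.Spor.Th} {y : G} (hx : x ∈ CA) (hy : y ∈ Subgroup.centralizer ({a} : Set G))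
    (h : Rel θ x y) : ↥(rels a θ) := ⟨(⟨x, hx⟩, ⟨y, hy⟩), h⟩

/-- The central pair. -/
def zA (S : Setup a Q) : ↥(rels a θ) := mkP (one_mem CA) S.a_mem_C (rel_a S)

theorem pr1_zA (S : Setup a Q) : pr1 (zA (θ := θ) S) = 1 := rfl

theorem pr2_zA (S : Setup a Q) : (pr2 (zA (θ := θ) S) : G) = a := rfl

theorem zA_sq (S : Setup a Q) : zA (θ := θ) S * zA S = 1 :=
  pair_ext (mul_one _) S.a_sq

theorem zA_comm (S : Setup a Q) (p : ↥(rels a θ)) : p * zA S = zA S * p :=
  pair_ext (by simp only [map_mul, pr1_zA, mul_one, one_mul]) (mem_C.1 (pr2 p).2)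

theorem exists_pair (F : Frame a Q θ) {x : Cfsg.Spor.Th} (hx : x ∈ CA) :
    ∃ p : ↥(rels a θ), (pr1 p : Cfsg.Spor.Th) = x := by
  obtain ⟨y, hy, h⟩ := F.act x hx
  exact ⟨mkP hx hy h, rfl⟩

theorem ker_pr1 (S : Setup a Q) (F : Frame a Q θ) {p : ↥(rels a θ)} (h : (pr1 p : Cfsg.Spor.Th) = 1) :
    p = 1 ∨ p = zA S := by
  have hr := pair_rel p
  rw [h] at hr
  rcases rel_central S F (pr2 p).2 hr with e | e
  · exact Or.inl (pair_ext h e)
  · exact Or.inr (pair_ext h e)

theorem finite_CA : Finite ↥CA := Nat.finite_of_card_ne_zero (by rw [hcard0]; norm_num)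

theorem card_C (S : Setup a Q) : Nat.card ↥(Subgroup.centralizer ({a} : Set G)) = 92897280 := by
  obtain ⟨f, hf, hker⟩ := S.quot
  rw [Subgroup.card_eq_card_quotient_mul_card_subgroup f.ker,
    Nat.card_congr (QuotientGroup.quotientKerEquivRange f).toEquiv, hf, hker,
    Nat.card_congr (Subgroup.subgroupOfEquivOfLe S.le).toEquiv, S.card,
    nat_card_alternatingGroup, Nat.card_fin]
  decide

theorem finite_C (S : Setup a Q) : Finite ↥(Subgroup.centralizer ({a} : Set G)) :=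
  Nat.finite_of_card_ne_zero (by rw [card_C S]; norm_num)

/-- Every element of the centraliser acts as some element of the model. -/
theorem exists_pre (S : Setup a Q) (F : Frame a Q θ) {y : G} (hy : y ∈ Subgroup.centralizer ({a} : Set G)) :
    ∃ p : ↥(rels a θ), (pr2 p : G) = y := by
  haveI := finite_CA
  haveI := finite_C S
  have h1 : (pr1 (a := a) (θ := θ)).range = ⊤ := MonoidHom.range_eq_top.2 fun x => by
    obtain ⟨p, hp⟩ := exists_pair F x.2
    exact ⟨p, Subtype.ext hp⟩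
  have hk1 : 2 ≤ Nat.card ↥(pr1 (a := a) (θ := θ)).ker := by
    haveI : Nontrivial ↥(pr1 (a := a) (θ := θ)).ker :=
      ⟨⟨⟨1, one_mem _⟩, ⟨zA S, pr1_zA S⟩, fun e => S.a_ne
        (congrArg (fun v : ↥(pr1 (a := a) (θ := θ)).ker => (pr2 v.1 : G)) e).symm⟩⟩
    exact Finite.one_lt_card
  have hk2 : Nat.card ↥(pr2 (a := a) (θ := θ)).ker ≤ 2 := by
    classical
    have hx : ∀ v : ↥(pr2 (a := a) (θ := θ)).ker, (pr1 v.1 : Cfsg.Spor.Th) = 1 ∨ (pr1 v.1 : Cfsg.Spor.Th) = g11 0 := by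
      intro v
      refine rel_left (θ := θ) (pr1 v.1).2 ?_
      have := pair_rel (a := a) (θ := θ) v.1
      rwa [show (pr2 v.1 : G) = 1 from congrArg Subtype.val v.2] at this
    refine le_trans (Nat.card_le_card_of_injective
      (fun v : ↥(pr2 (a := a) (θ := θ)).ker => decide ((pr1 v.1 : Cfsg.Spor.Th) = 1)) ?_) (by simp)
    intro v w e
    have hvw : (pr1 v.1 : Cfsg.Spor.Th) = pr1 w.1 := by
      simp only [decide_eq_decide] at e
      rcases hx v with hv | hv <;> rcases hx w with hw | hw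
      · rw [hv, hw]
      · rw [hv, e.1 hv]
      · rw [hw, e.2 hw]
      · rw [hv, hw]
    exact Subtype.ext (pair_ext hvw (congrArg Subtype.val (v.2.trans w.2.symm)))
  have e1 := Subgroup.card_eq_card_quotient_mul_card_subgroup (pr1 (a := a) (θ := θ)).ker
  rw [Nat.card_congr (QuotientGroup.quotientKerEquivRange _).toEquiv, h1, Subgroup.card_top, hcard0] at e1
  have e2 := Subgroup.card_eq_card_quotient_mul_card_subgroup (pr2 (a := a) (θ := θ)).ker
  rw [Nat.card_congr (QuotientGroup.quotientKerEquivRange _).toEquiv, e1] at e2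
  have htop : (pr2 (a := a) (θ := θ)).range = ⊤ := by
    refine Subgroup.eq_top_of_le_card _ ?_
    rw [card_C S]
    nlinarith
  obtain ⟨p, hp⟩ := MonoidHom.mem_range.1 (htop ▸ Subgroup.mem_top (⟨y, hy⟩ : ↥(Subgroup.centralizer {a})))
  exact ⟨p, congrArg Subtype.val hp⟩

/-- The pair of an element of the normal subgroup. -/
def pQ (S : Setup a Q) (q : ↥Q0) : ↥(rels a θ) := mkP (Q0_le q.2) (S.le (θ q).2) (rel_Q0 q)

theorem a_ne_cImg (F : Frame a Q θ) : cImg θ ≠ a := fun e =>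
  a0_ne.2.2 (congrArg Subtype.val (θ.injective (Subtype.ext (e.trans F.theta_a.symm)) :
    (⟨g11 2, c0_mem_Q0⟩ : ↥Q0) = ⟨g11 0, a0_mem_Q0⟩))

theorem cImg_mem (θ : ↥Q0 ≃* ↥Q) : cImg θ ∈ Q := (θ _).2

/-- The involutions of `Q` other than `a` are conjugate in the centraliser to the image of `c`. -/
theorem sing (F : Frame a Q θ) {x : G} (hx : x ∈ Q) (h2 : x * x = 1) (h1 : x ≠ 1) (ha : x ≠ a) :
    ∃ y ∈ Subgroup.centralizer ({a} : Set G), y * x * y⁻¹ = cImg θ := by
  obtain ⟨v, hv⟩ : ∃ v : ↥Q0, (θ v : G) = x := ⟨θ.symm ⟨x, hx⟩, by rw [θ.apply_symm_apply]⟩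
  have v2 : (v : Cfsg.Spor.Th) * v = 1 := congrArg Subtype.val (θ.injective (Subtype.ext (by
    rw [map_mul, Subgroup.coe_mul, hv, map_one]; exact h2) : θ (v * v) = θ 1))
  have v1 : (v : Cfsg.Spor.Th) ≠ 1 := fun e => h1 (by
    rw [← hv, show v = 1 from Subtype.ext e, map_one]; rfl)
  have va : (v : Cfsg.Spor.Th) ≠ g11 0 := fun e => ha (by
    rw [← hv, show v = ⟨g11 0, a0_mem_Q0⟩ from Subtype.ext e, F.theta_a])
  obtain ⟨g, hg, he⟩ := singular_conj v.2 v2 v1 va
  obtain ⟨y, hy, h⟩ := F.act g hg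
  exact ⟨y, hy, by rw [← hv]; exact (h v ⟨g11 2, c0_mem_Q0⟩ he.symm).symm⟩

theorem cImg_sq : cImg θ * cImg θ = 1 := by
  have h : (⟨g11 2, c0_mem_Q0⟩ : ↥Q0) * ⟨g11 2, c0_mem_Q0⟩ = 1 := Subtype.ext (sq_one 2 (by norm_num))
  show ((θ _ * θ _ : ↥Q) : G) = 1
  rw [← map_mul, h, map_one]
  rfl

theorem cImg_ne : cImg θ ≠ 1 := fun e => a0_ne.2.1
  (congrArg Subtype.val (θ.injective (Subtype.ext (e.trans (by simp))) :
    (⟨g11 2, c0_mem_Q0⟩ : ↥Q0) = 1))

/-- The centraliser of the image of `c` inside the centraliser of `a` has index at most 270. -/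
theorem index_cImg (S : Setup a Q) (F : Frame a Q θ) :
    92897280 ≤ 270 * Nat.card ↥((Subgroup.centralizer ({cImg θ} : Set G)).subgroupOf
      (Subgroup.centralizer ({a} : Set G))) := by
  set St := (Subgroup.centralizer ({cImg θ} : Set G)).subgroupOf (Subgroup.centralizer ({a} : Set G))
  have hc2 := cImg_sq (θ := θ)
  have hmem : ∀ y : ↥(Subgroup.centralizer ({a} : Set G)), (y : G) * cImg θ * (y : G)⁻¹ ∈ Q :=
    fun y => S.norm _ y.2 _ (cImg_mem θ)
  let v : ↥(Subgroup.centralizer ({a} : Set G)) ⧸ St → ↥Q0 := fun k => θ.symm ⟨_, hmem k.out⟩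
  have hv : ∀ k, (θ (v k) : G) = (k.out : G) * cImg θ * (k.out : G)⁻¹ := fun k => by
    simp only [v, MulEquiv.apply_symm_apply]
  have hv2 : ∀ k, v k * v k = 1 := fun k => θ.injective (Subtype.ext (by
    rw [map_mul, Subgroup.coe_mul, hv, map_one]
    calc _ = (k.out : G) * (cImg θ * cImg θ) * (k.out : G)⁻¹ := by group
      _ = _ := by rw [hc2]; simp))
  have hv1 : ∀ k, (v k : Cfsg.Spor.Th) ≠ 1 := fun k e => cImg_ne (θ := θ) (by
    have := hv k
    rw [show v k = 1 from Subtype.ext e, map_one] at this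
    calc cImg θ = (k.out : G)⁻¹ * ((k.out : G) * cImg θ * (k.out : G)⁻¹) * k.out := by group
      _ = 1 := by rw [← this]; simp)
  by_cases hF : ∀ k, (v k : Cfsg.Spor.Th) ≠ g11 0
  · have hle : Nat.card (↥(Subgroup.centralizer ({a} : Set G)) ⧸ St) ≤ 270 := by
      haveI : Finite ↥Q0 := Nat.finite_of_card_ne_zero (by rw [card_Q0]; norm_num)
      refine le_trans (Nat.card_le_card_of_injective (fun k => (⟨v k, hv2 k, hv1 k, hF k⟩ :
        {x : ↥Q0 // x * x = 1 ∧ (x : Cfsg.Spor.Th) ≠ 1 ∧ (x : Cfsg.Spor.Th) ≠ g11 0})) fun k l e => ?_)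
        count_invol
      have e' := (hv k).symm.trans ((congrArg (fun t => (θ t : G)) (congrArg Subtype.val e)).trans (hv l))
      rw [← k.out_eq', ← l.out_eq', QuotientGroup.eq, Subgroup.mem_subgroupOf,
        Subgroup.mem_centralizer_singleton_iff, Subgroup.coe_mul, Subgroup.coe_inv]
      calc (k.out : G)⁻¹ * l.out * cImg θ
          = (k.out : G)⁻¹ * ((l.out : G) * cImg θ * (l.out : G)⁻¹) * l.out := by group
        _ = _ := by rw [← e']; group
    have h := Subgroup.card_eq_card_quotient_mul_card_subgroup St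
    rw [card_C S] at h
    rw [h]
    exact Nat.mul_le_mul_right _ hle
  · exfalso
    push Not at hF
    obtain ⟨k, hk⟩ := hF
    have := hv k
    rw [show v k = ⟨g11 0, a0_mem_Q0⟩ from Subtype.ext hk] at this
    rw [F.theta_a] at this
    refine a_ne_cImg F ?_
    calc cImg θ = (k.out : G)⁻¹ * ((k.out : G) * cImg θ * (k.out : G)⁻¹) * k.out := by group
      _ = (k.out : G)⁻¹ * (a * k.out) := by rw [← this, mul_assoc]
      _ = a := by rw [← mem_C.1 k.out.2, inv_mul_cancel_left]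

theorem cImg_mem_C (S : Setup a Q) (θ : ↥Q0 ≃* ↥Q) : cImg θ ∈ Subgroup.centralizer ({a} : Set G) :=
  S.le (cImg_mem θ)

/-- **An element exchanging `a` and the image of `c`.** -/
theorem exists_swap (S : Setup a Q) (F : Frame a Q θ) (hf : Fused a Q) :
    ∃ g : G, g * a * g⁻¹ = cImg θ ∧ g * cImg θ * g⁻¹ = a := by
  obtain ⟨g0, hg0, hne⟩ := hf
  have hsq : g0 * a * g0⁻¹ * (g0 * a * g0⁻¹) = 1 := by rw [conj_mul, S.a_sq, mul_one, mul_inv_cancel]
  have h1 : g0 * a * g0⁻¹ ≠ 1 := fun e => S.a_ne (by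
    calc a = g0⁻¹ * (g0 * a * g0⁻¹) * g0 := by group
      _ = 1 := by rw [e, mul_one, inv_mul_cancel])
  obtain ⟨y, hy, hyc⟩ := sing F hg0 hsq h1 hne
  obtain ⟨g1, hg1⟩ : ∃ g1, g1 * a * g1⁻¹ = cImg θ := ⟨y * g0, by rw [← hyc]; group⟩
  have hca := mem_C.1 (cImg_mem_C S θ)
  obtain ⟨e, hge⟩ : ∃ e, g1 * e * g1⁻¹ = a := ⟨g1⁻¹ * a * g1, by group⟩
  have hee : e = g1⁻¹ * a * g1 := by rw [← hge]; group
  have he2 : e * e = 1 := by
    rw [hee]
    calc g1⁻¹ * a * g1 * (g1⁻¹ * a * g1) = g1⁻¹ * (a * a) * g1 := by group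
      _ = 1 := by rw [S.a_sq, mul_one, inv_mul_cancel]
  have he1 : e ≠ 1 := fun h => S.a_ne (by rw [← hge, h, mul_one, mul_inv_cancel])
  have hea : e ≠ a := fun h => a_ne_cImg F (by rw [← hg1, ← h, hge, h])
  have heC : e ∈ Subgroup.centralizer ({a} : Set G) := by
    refine mem_C.2 ?_
    have ea : a = g1⁻¹ * cImg θ * g1 := by rw [← hg1]; group
    calc e * a = g1⁻¹ * (a * cImg θ) * g1 := by rw [hee]; nth_rw 2 [ea]; group
      _ = g1⁻¹ * (cImg θ * a) * g1 := by rw [hca]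
      _ = a * e := by rw [hee]; nth_rw 2 [ea]; group
  have heQ : e ∈ Q := by
    by_contra hn
    haveI := finite_C S
    obtain ⟨f, hf, hker⟩ := S.quot
    set E : ↥(Subgroup.centralizer ({a} : Set G)) := ⟨e, heC⟩
    have hσ : EvenInv (f E) := by
      refine ⟨?_, fun h => ?_, Perm.mem_alternatingGroup.1 (hf ▸ ⟨E, rfl⟩)⟩
      · rw [← map_mul, show E * E = 1 from Subtype.ext he2, map_one]
      · have : E ∈ f.ker := h
        rw [hker, Subgroup.mem_subgroupOf] at this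
        exact hn this
    set K : Subgroup ↥(Subgroup.centralizer ({a} : Set G)) :=
      (Subgroup.centralizer ({e} : Set G)).subgroupOf (Subgroup.centralizer {a})
    have hK : 92897280 ≤ 270 * Nat.card ↥K := by
      refine le_trans (index_cImg S F) (Nat.mul_le_mul_left _ ?_)
      refine Nat.card_le_card_of_injective (fun v => (⟨⟨g1⁻¹ * (v.1 : G) * g1, ?_⟩, ?_⟩ : ↥K)) ?_
      · have hv := Subgroup.mem_centralizer_singleton_iff.1 (Subgroup.mem_subgroupOf.1 v.2)
        have ea : a = g1⁻¹ * cImg θ * g1 := by rw [← hg1]; group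
        refine mem_C.2 ?_
        calc g1⁻¹ * (v.1 : G) * g1 * a = g1⁻¹ * (v.1 : G) * g1 * (g1⁻¹ * cImg θ * g1) :=
              congrArg (g1⁻¹ * (v.1 : G) * g1 * ·) ea
          _ = g1⁻¹ * ((v.1 : G) * cImg θ) * g1 := by group
          _ = g1⁻¹ * (cImg θ * (v.1 : G)) * g1 := by rw [hv]
          _ = g1⁻¹ * cImg θ * g1 * (g1⁻¹ * (v.1 : G) * g1) := by group
          _ = a * (g1⁻¹ * (v.1 : G) * g1) := congrArg (· * (g1⁻¹ * (v.1 : G) * g1)) ea.symm
      · rw [Subgroup.mem_subgroupOf, Subgroup.mem_centralizer_singleton_iff]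
        show g1⁻¹ * (v.1 : G) * g1 * e = e * (g1⁻¹ * (v.1 : G) * g1)
        calc g1⁻¹ * (v.1 : G) * g1 * e = g1⁻¹ * ((v.1 : G) * a) * g1 := by rw [hee]; group
          _ = g1⁻¹ * (a * (v.1 : G)) * g1 := by rw [mem_C.1 v.1.2]
          _ = e * (g1⁻¹ * (v.1 : G) * g1) := by rw [hee]; group
      · intro v w h
        have h' := congrArg (fun t : ↥K => (t.1 : G)) h
        exact Subtype.ext (Subtype.ext (mul_left_cancel (mul_right_cancel h')))
    set ψ : ↥K →* Perm (Fin 9) := f.comp K.subtype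
    have hr : Nat.card ↥ψ.range ≤ 480 := by
      refine le_trans (Nat.card_le_card_of_injective
        (fun t : ↥ψ.range => (⟨t.1, ?_⟩ : {τ : Perm (Fin 9) // Perm.sign τ = 1 ∧ τ * f E = f E * τ})) ?_)
        (hσ.card_centralizer (Fintype.card_fin 9))
      · obtain ⟨v, hv⟩ := t.2
        rw [← hv]
        refine ⟨Perm.mem_alternatingGroup.1 (hf ▸ ⟨v.1, rfl⟩), ?_⟩
        show f v.1 * f E = f E * f v.1
        rw [← map_mul, ← map_mul, show v.1 * E = E * v.1 from Subtype.ext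
          (Subgroup.mem_centralizer_singleton_iff.1 (Subgroup.mem_subgroupOf.1 v.2))]
      · intro t t' h; simp only [Subtype.mk.injEq] at h; exact Subtype.ext h
    have hk : Nat.card ↥ψ.ker ≤ 512 := by
      haveI : Finite ↥Q := Nat.finite_of_card_ne_zero (by rw [S.card]; norm_num)
      rw [← S.card]
      refine Nat.card_le_card_of_injective (fun t : ↥ψ.ker => (⟨((t.1.1 : ↥(Subgroup.centralizer ({a} : Set G))) : G),
        ?_⟩ : ↥Q)) ?_
      · have : (t.1.1 : ↥(Subgroup.centralizer ({a} : Set G))) ∈ f.ker := t.2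
        rwa [hker, Subgroup.mem_subgroupOf] at this
      · intro t t' h
        simp only [Subtype.mk.injEq] at h
        have h' : ((t.1.1 : ↥(Subgroup.centralizer ({a} : Set G))) : G) = t'.1.1 := h
        exact Subtype.ext (Subtype.ext (Subtype.ext h'))
    have h := Subgroup.card_eq_card_quotient_mul_card_subgroup ψ.ker
    rw [Nat.card_congr (QuotientGroup.quotientKerEquivRange ψ).toEquiv] at h
    have := Nat.mul_le_mul hr hk
    omega
  obtain ⟨y2, hy2, hy2c⟩ := sing F heQ he2 he1 hea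
  refine ⟨g1 * y2⁻¹, ?_, ?_⟩
  · rw [← hg1]
    calc g1 * y2⁻¹ * a * (g1 * y2⁻¹)⁻¹ = g1 * (y2⁻¹ * (a * y2)) * g1⁻¹ := by group
      _ = _ := by rw [← mem_C.1 hy2, inv_mul_cancel_left]
  · rw [← hy2c, ← hge]
    group

/-- The pairs from the normal subgroup. -/
def graph : Subgroup ↥(rels a θ) where
  carrier := {p | ∃ q : ↥Q0, (pr1 p : Cfsg.Spor.Th) = q ∧ (pr2 p : G) = θ q}
  mul_mem' := fun ⟨q, h1, h2⟩ ⟨r, h3, h4⟩ => ⟨q * r, by simp [h1, h3], by simp [h2, h4]⟩
  one_mem' := ⟨1, by simp, by simp⟩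
  inv_mem' := fun ⟨q, h1, h2⟩ => ⟨q⁻¹, by simp [h1], by simp [h2]⟩

instance graph_normal : (graph (a := a) (θ := θ)).Normal where
  conj_mem n hn p := by
    obtain ⟨q, h1, h2⟩ := hn
    refine ⟨⟨_, conj_mem_Q0 (pr1 p).2 q.2⟩, ?_, ?_⟩
    · simp [h1]
    · rw [pair_rel p q ⟨_, conj_mem_Q0 (pr1 p).2 q.2⟩ rfl]
      simp [h2]

theorem pQ_mem (S : Setup a Q) (q : ↥Q0) : pQ (θ := θ) S q ∈ graph := ⟨q, rfl, rfl⟩

theorem zA_not_mem (S : Setup a Q) : zA (θ := θ) S ∉ graph := by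
  rintro ⟨q, h1, h2⟩
  rw [show q = 1 from Subtype.ext h1.symm, map_one] at h2
  exact S.a_ne h2

theorem nine_zero {p : ↥(rels a θ)} (hp : p ∈ graph) : nine9 (pr1 p) = 1 := by
  obtain ⟨q, h1, -⟩ := hp
  exact mem_Q0_iff.1 (h1 ▸ q.2)

/-- The double cover of the alternating group. -/
abbrev Hq (a : G) (θ : ↥Q0 ≃* ↥Q) := ↥(rels a θ) ⧸ graph (a := a) (θ := θ)

/-- Its projection. -/
def piH : Hq a θ →* Perm (Fin 9) :=
  QuotientGroup.lift graph (nine9.comp pr1) fun _ hp => nine_zero hp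

theorem piH_mk (p : ↥(rels a θ)) : piH (QuotientGroup.mk p : Hq a θ) = nine9 (pr1 p) := rfl

/-- The image of the central pair. -/
def zH (S : Setup a Q) : Hq a θ := QuotientGroup.mk (zA S)

theorem zH_ne (S : Setup a Q) : zH (θ := θ) S ≠ 1 := fun e =>
  zA_not_mem S ((QuotientGroup.eq_one_iff _).1 e)

theorem zH_sq (S : Setup a Q) : zH (θ := θ) S * zH S = 1 := by
  rw [zH, ← QuotientGroup.mk_mul, zA_sq S, QuotientGroup.mk_one]

theorem zH_comm (S : Setup a Q) (h : Hq a θ) : h * zH S = zH S * h := by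
  obtain ⟨p, rfl⟩ := QuotientGroup.mk_surjective h
  rw [zH, ← QuotientGroup.mk_mul, ← QuotientGroup.mk_mul, zA_comm]

theorem piH_ker (S : Setup a Q) (F : Frame a Q θ) {h : Hq a θ} (e : piH h = 1) : h = 1 ∨ h = zH S := by
  obtain ⟨p, rfl⟩ := QuotientGroup.mk_surjective h
  rw [piH_mk] at e
  have hk : (pr1 ((pQ S ⟨(pr1 p : Cfsg.Spor.Th), mem_Q0_iff.2 e⟩)⁻¹ * p) : Cfsg.Spor.Th) = 1 :=
    inv_mul_cancel _
  have hmem := pQ_mem (θ := θ) S ⟨(pr1 p : Cfsg.Spor.Th), mem_Q0_iff.2 e⟩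
  rcases ker_pr1 S F hk with h' | h'
  · left
    exact (QuotientGroup.eq_one_iff _).2 ((inv_mul_eq_one.1 h') ▸ hmem)
  · right
    refine (QuotientGroup.eq.2 ?_).symm
    rw [inv_mul_eq_iff_eq_mul.1 h', zA_comm, inv_mul_cancel_left]
    exact hmem

theorem piH_sign (h : Hq a θ) : Perm.sign (piH h) = 1 := by
  obtain ⟨p, rfl⟩ := QuotientGroup.mk_surjective h
  exact nine9_sign _

theorem exists_piH (F : Frame a Q θ) {σ : Perm (Fin 9)} (h : Perm.sign σ = 1) : ∃ x : Hq a θ, piH x = σ := by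
  obtain ⟨x, hx⟩ := exists_nine9 h
  obtain ⟨p, hp⟩ := exists_pair (a := a) F x.2
  exact ⟨QuotientGroup.mk p, by rw [piH_mk, ← hx, show pr1 p = x from Subtype.ext hp]⟩

/-- The squares of the lifts of the involutions of one class agree. -/
theorem sq_class (S : Setup a Q) (F : Frame a Q θ) {h h' : Hq a θ} (e : EvenInv (piH h)) (e' : EvenInv (piH h'))
    (hs : (piH h).support.card = (piH h').support.card) : h * h = h' * h' := by
  obtain ⟨g, hg, hgg⟩ := e'.conj e hs
  obtain ⟨x, hx⟩ := exists_piH F hg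
  have h1 : piH (h'⁻¹ * (x * h * x⁻¹)) = 1 := by
    rw [map_mul, map_inv, map_mul, map_mul, map_inv, hx, hgg, inv_mul_cancel]
  have hh : piH (h * h) = 1 := by rw [map_mul]; exact e.1
  have hcen : ∀ y, y * (h * h) = h * h * y := fun y => by
    rcases piH_ker S F hh with k | k <;> rw [k]
    · rw [mul_one, one_mul]
    · exact zH_comm S y
  have key : x * h * x⁻¹ * (x * h * x⁻¹) = h * h := by
    rw [show x * h * x⁻¹ * (x * h * x⁻¹) = x * (h * h) * x⁻¹ by group, hcen, mul_inv_cancel_right]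
  rcases piH_ker S F h1 with k | k <;> rw [inv_mul_eq_iff_eq_mul] at k <;> rw [k] at key
  · rw [← key, mul_one]
  · rw [← key]
    calc h' * zH S * (h' * zH S) = h' * (zH S * h') * zH S := by group
      _ = h' * h' * (zH S * zH S) := by rw [← zH_comm S h']; group
      _ = h' * h' := by rw [zH_sq, mul_one]

/-- Seven square roots of one involution among the products of three elements. -/
theorem seven {H : Type*} [Group H] {A B C ε : H} (hε : ε * ε = 1) (hc : ∀ h : H, h * ε = ε * h)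
    (hA : A * A = ε) (hB : B * B = ε) (hC : C * C = ε) (hAB : A * B * (A * B) = ε)
    (hAC : A * C * (A * C) = ε) (hBC : B * C * (B * C) = ε) (hABC : A * B * C * (A * B * C) = ε) : ε = 1 := by
  have key : ∀ {X Y : H}, X * X = ε → Y * Y = ε → X * Y * (X * Y) = ε → Y * X = ε * (X * Y) := by
    intro X Y hX hY hXY
    have h1 : ε * (X * Y) * (X * Y) = 1 := by rw [mul_assoc, hXY, hε]
    calc Y * X = ε * (X * Y) * (X * Y) * (Y * X) := by rw [h1, one_mul]
      _ = ε * (X * Y) * (X * (Y * Y) * X) := by group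
      _ = ε * (X * Y) * (ε * (X * X)) := by rw [hY, hc X, mul_assoc ε X X]
      _ = _ := by rw [hX, hε, mul_one]
  have eBA := key hA hB hAB
  have eCA := key hA hC hAC
  rw [← hABC]
  calc A * B * C * (A * B * C) = A * B * (C * A) * B * C := by group
    _ = (A * B * ε) * (A * C) * B * C := by rw [eCA]; group
    _ = ε * (A * (B * A) * C * B * C) := by rw [hc]; group
    _ = ε * (A * ε) * (A * B * C * B * C) := by rw [eBA]; group
    _ = ε * ε * (A * A * (B * C * (B * C))) := by rw [hc A]; group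
    _ = (A * A) * (B * C * (B * C)) := by rw [hε, one_mul]
    _ = 1 := by rw [hA, hBC, hε]

/-- Lifts of the involutions with one fixed point square to one. -/
theorem eight_sq (S : Setup a Q) (F : Frame a Q θ) {h : Hq a θ} (e : EvenInv (piH h))
    (hs : (piH h).support.card = 8) : h * h = 1 := by
  have E := List.all_eq_true.1 eight_spec
  obtain ⟨A, hA⟩ := exists_piH F (evenChk_spec (E eightA (by simp))).1.2.2
  obtain ⟨B, hB⟩ := exists_piH F (evenChk_spec (E eightB (by simp))).1.2.2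
  obtain ⟨C, hC⟩ := exists_piH F (evenChk_spec (E eightC (by simp))).1.2.2
  have sq : ∀ {X : Hq a θ} {σ : Perm (Fin 9)}, piH X = σ → evenChk σ 8 = true → X * X = h * h := by
    intro X σ hX hchk
    have h2 := evenChk_spec hchk
    exact sq_class S F (hX ▸ h2.1) e (by rw [hX, h2.2, hs])
  have hh : piH (h * h) = 1 := by rw [map_mul]; exact e.1
  refine seven ?_ ?_ (sq hA (E _ (by simp))) (sq hB (E _ (by simp))) (sq hC (E _ (by simp)))
    (sq (by rw [map_mul, hA, hB]) (E (eightA * eightB) (by simp)))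
    (sq (by rw [map_mul, hA, hC]) (E (eightA * eightC) (by simp)))
    (sq (by rw [map_mul, hB, hC]) (E (eightB * eightC) (by simp)))
    (sq (by rw [map_mul, map_mul, hA, hB, hC]) (E (eightA * eightB * eightC) (by simp)))
  · rcases piH_ker S F hh with k | k <;> rw [k]
    · rw [mul_one]
    · exact zH_sq S
  · intro y
    rcases piH_ker S F hh with k | k <;> rw [k]
    · rw [mul_one, one_mul]
    · exact zH_comm S y

theorem u_sq : g11 9 * g11 9 = (acQ : Cfsg.Spor.Th) := by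
  have := eqS_eq model_words.1
  simpa [wv_cons, wv_nil] using this

/-- The twisted case: a square root of `a` commuting with the image of `c` lies in `Q`. -/
theorem sqrt_mem (S : Setup a Q) (F : Frame a Q θ) {X Y : G} (hX2 : X * X = a) (hXc : X * cImg θ = cImg θ * X)
    (hY : Y ∈ Subgroup.centralizer ({a} : Set G)) (hr : Rel θ (g11 9) Y) (hY2 : Y * Y = cImg θ) : X ∈ Q := by
  have hX : X ∈ Subgroup.centralizer ({a} : Set G) := mem_C.2 (by rw [← hX2]; group)
  obtain ⟨p, hp⟩ := exists_pre S F hX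
  set x : ↥CA := pr1 p with hx
  have hrX : Rel θ (x : Cfsg.Spor.Th) X := hp ▸ pair_rel p
  by_contra hn
  have hx1 : nine9 x ≠ 1 := by
    intro e
    have hxQ : (x : Cfsg.Spor.Th) ∈ Q0 := mem_Q0_iff.2 e
    rcases rel_unique S F x.2 (S.le (θ ⟨_, hxQ⟩).2) hX (rel_Q0 ⟨_, hxQ⟩) hrX with h | h
    · exact hn (h ▸ (θ _).2)
    · exact hn (h ▸ mul_mem (θ _).2 (F.theta_a ▸ (θ _).2))
  have hxx : (x : Cfsg.Spor.Th) * x = 1 ∨ (x : Cfsg.Spor.Th) * x = g11 0 := by
    have h1 := rel_mul x.2 hrX hrX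
    rw [hX2] at h1
    have h0 : Rel θ (g11 0) a := by
      have := rel_Q0 (θ := θ) ⟨g11 0, a0_mem_Q0⟩
      rwa [F.theta_a] at this
    have hC0' := Q0_le a0_mem_Q0
    have h2 := rel_mul (inv_mem hC0') h1 (rel_inv h0)
    rw [mul_inv_cancel] at h2
    rcases rel_left (mul_mem (mul_mem x.2 x.2) (inv_mem hC0')) h2 with h | h
    · exact Or.inr (mul_inv_eq_one.1 h)
    · left
      rw [mul_inv_eq_iff_eq_mul] at h
      rw [h, sq_one 0 (by norm_num)]
  have hxxQ : (x : Cfsg.Spor.Th) * x ∈ Q0 := by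
    rcases hxx with h | h <;> rw [h]
    exacts [one_mem _, a0_mem_Q0]
  have hev : EvenInv (nine9 x) := by
    refine ⟨?_, hx1, nine9_sign x⟩
    rw [← map_mul]
    exact mem_Q0_iff.1 hxxQ
  have hxc : (x : Cfsg.Spor.Th) * g11 2 = g11 2 * x := by
    have h := hrX ⟨g11 2, c0_mem_Q0⟩ ⟨_, conj_mem_Q0 x.2 c0_mem_Q0⟩ rfl
    rw [show (θ ⟨g11 2, c0_mem_Q0⟩ : G) = cImg θ from rfl, hXc, mul_inv_cancel_right] at h
    exact mul_inv_eq_iff_eq_mul.1 (congrArg Subtype.val (θ.injective (Subtype.ext h)))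
  rcases hev.support_card (Fintype.card_fin 9) with hs | hs
  · -- the class of the image of `u`
    have h9 := evenChk_spec p9_supports.1
    obtain ⟨g, hg, hgg⟩ := hev.conj h9.1 (h9.2.trans hs.symm)
    obtain ⟨z, hz⟩ := exists_nine9 hg
    obtain ⟨Z, hZC, hZ⟩ := F.act z z.2
    set u9 : ↥CA := ⟨g11 9, letter_mem (by norm_num) (by norm_num)⟩
    have hu9 : nine9 u9 = (p9 9 : Perm (Fin 9)) := nine9_letter (by norm_num) (by norm_num)
    have hq : ((u9⁻¹ * (z⁻¹ * x * z) : ↥CA) : Cfsg.Spor.Th) ∈ Q0 := by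
      rw [mem_Q0_iff]
      show nine9 _ = (1 : Perm (Fin 9))
      rw [map_mul, map_inv, map_mul, map_mul, map_inv]
      rw [hz, hu9, ← hgg]
      simp [mul_assoc]
      exact inv_mul_eq_one.2 (inv_mul_cancel_left g _).symm
    obtain ⟨q, hqv⟩ : ∃ q : ↥Q0, (q : Cfsg.Spor.Th) = ((u9⁻¹ * (z⁻¹ * x * z) : ↥CA) : Cfsg.Spor.Th) :=
      ⟨⟨_, hq⟩, rfl⟩
    have hx' : (z : Cfsg.Spor.Th)⁻¹ * x * z = g11 9 * q := by
      rw [hqv]
      simp [u9]
    have h1 : Rel θ ((z : Cfsg.Spor.Th)⁻¹ * x * z) (Z⁻¹ * X * Z) :=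
      rel_mul z.2 (rel_mul x.2 (rel_inv hZ) hrX) hZ
    have h2 : Rel θ (g11 9 * q) (Y * (θ q : G)) := rel_mul (Q0_le q.2) hr (rel_Q0 q)
    rw [hx'] at h1
    have hYq : Y * (θ q : G) ∈ Subgroup.centralizer ({a} : Set G) := mul_mem hY (S.le (θ q).2)
    have hsq : Y * (θ q : G) * (Y * (θ q : G)) = a := by
      have e : Z⁻¹ * X * Z * (Z⁻¹ * X * Z) = a := by
        calc Z⁻¹ * X * Z * (Z⁻¹ * X * Z) = Z⁻¹ * (X * X * Z) := by group
          _ = a := by rw [hX2, ← mem_C.1 hZC, inv_mul_cancel_left]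
      rcases rel_unique S F (mul_mem u9.2 (Q0_le q.2)) hYq (mul_mem (mul_mem (inv_mem hZC) hX) hZC) h2 h1
        with h | h <;> rw [h] at e
      · exact e
      · refine Eq.trans ?_ e
        calc Y * (θ q : G) * (Y * (θ q : G)) = Y * (θ q : G) * (Y * (θ q : G)) * (a * a) := by
              rw [S.a_sq, mul_one]
          _ = Y * (θ q : G) * (Y * (θ q : G) * a) * a := by group
          _ = Y * (θ q : G) * (a * (Y * (θ q : G))) * a :=
              congrArg (Y * (θ q : G) * · * a) (mem_C.1 hYq)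
          _ = _ := by group
    obtain ⟨r, hrv⟩ : ∃ r : ↥Q0, (r : Cfsg.Spor.Th) = (g11 9)⁻¹ * q * g11 9 := by
      have h := conj_mem_Q0 (inv_mem u9.2) q.2
      exact ⟨⟨_, h⟩, by simp [u9]⟩
    have hθr : (θ r : G) = Y⁻¹ * θ q * Y := by
      have := rel_inv hr q r (by rw [hrv, inv_inv])
      rwa [inv_inv] at this
    have h3 : (⟨g11 2, c0_mem_Q0⟩ : ↥Q0) * r * q = ⟨g11 0, a0_mem_Q0⟩ := θ.injective (Subtype.ext (by
      rw [map_mul, map_mul, Subgroup.coe_mul, Subgroup.coe_mul, hθr, F.theta_a, ← hsq]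
      show cImg θ * _ * _ = _
      rw [← hY2]
      group))
    refine u_none q.2 ?_
    calc g11 9 * (q : Cfsg.Spor.Th) * (g11 9 * q)
        = g11 9 * g11 9 * ((g11 9)⁻¹ * q * g11 9) * q := by group
      _ = g11 0 * (g11 2 * r * q) := by rw [u_sq, ← hrv]; simp [mul_assoc]
      _ = 1 := by
        rw [show g11 2 * (r : Cfsg.Spor.Th) * q = g11 0 from congrArg Subtype.val h3, sq_one 0 (by norm_num)]
  · -- the class of the image of `e`
    have h4 := evenChk_spec p9_supports.2.1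
    obtain ⟨g, hg, hgg⟩ := hev.conj h4.1 (h4.2.trans hs.symm)
    obtain ⟨z, hz⟩ := exists_nine9 hg
    have hsq : (x : Cfsg.Spor.Th) * x = g11 0 := by
      have h := eight_sq S F (h := (QuotientGroup.mk p : Hq a θ)) hev hs
      rw [← QuotientGroup.mk_mul, QuotientGroup.eq_one_iff] at h
      obtain ⟨q, h1, h2⟩ := h
      rw [map_mul, Subgroup.coe_mul, hp, hX2, ← F.theta_a] at h2
      rw [map_mul, Subgroup.coe_mul, ← hx] at h1
      rw [h1, ← θ.injective (Subtype.ext h2)]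
    set e4 : ↥CA := ⟨g11 4, letter_mem (by norm_num) (by norm_num)⟩
    have he4 : nine9 e4 = (p9 4 : Perm (Fin 9)) := nine9_letter (by norm_num) (by norm_num)
    have hq : ((e4⁻¹ * (z⁻¹ * x * z) : ↥CA) : Cfsg.Spor.Th) ∈ Q0 := by
      rw [mem_Q0_iff]
      show nine9 _ = (1 : Perm (Fin 9))
      rw [map_mul, map_inv, map_mul, map_mul, map_inv]
      rw [hz, he4, ← hgg]
      simp [mul_assoc]
      exact inv_mul_eq_one.2 (inv_mul_cancel_left g _).symm
    obtain ⟨q, hqQ, hqv⟩ : ∃ q ∈ Q0, (z : Cfsg.Spor.Th)⁻¹ * x * z = g11 4 * q :=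
      ⟨_, hq, by simp [e4]⟩
    refine e_none hqQ ?_ (r := (z : Cfsg.Spor.Th)⁻¹ * g11 2 * z) ?_ ?_ ?_ ?_ ?_
    · rw [← hqv]
      calc (z : Cfsg.Spor.Th)⁻¹ * x * z * ((z : Cfsg.Spor.Th)⁻¹ * x * z)
          = (z : Cfsg.Spor.Th)⁻¹ * ((x : Cfsg.Spor.Th) * x * z) := by group
        _ = g11 0 := by rw [hsq, a0_central z.2, inv_mul_cancel_left]
    · have := conj_mem_Q0 (inv_mem z.2) c0_mem_Q0
      rwa [inv_inv] at this
    · rw [show (z : Cfsg.Spor.Th)⁻¹ * g11 2 * z * ((z : Cfsg.Spor.Th)⁻¹ * g11 2 * z) =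
        (z : Cfsg.Spor.Th)⁻¹ * (g11 2 * g11 2) * z by group, sq_one 2 (by norm_num), mul_one, inv_mul_cancel]
    · intro h
      refine a0_ne.2.1 ?_
      calc g11 2 = (z : Cfsg.Spor.Th) * ((z : Cfsg.Spor.Th)⁻¹ * g11 2 * z) * (z : Cfsg.Spor.Th)⁻¹ := by group
        _ = 1 := by rw [h, mul_one, mul_inv_cancel]
    · intro h
      refine a0_ne.2.2 ?_
      calc g11 2 = (z : Cfsg.Spor.Th) * ((z : Cfsg.Spor.Th)⁻¹ * g11 2 * z) * (z : Cfsg.Spor.Th)⁻¹ := by group
        _ = g11 0 := by rw [h, ← a0_central z.2, mul_inv_cancel_right]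
    · rw [← hqv]
      calc (z : Cfsg.Spor.Th)⁻¹ * x * z * ((z : Cfsg.Spor.Th)⁻¹ * g11 2 * z)
          = (z : Cfsg.Spor.Th)⁻¹ * ((x : Cfsg.Spor.Th) * g11 2) * z := by group
        _ = _ := by rw [hxc]; group

theorem acQ_val (S : Setup a Q) (F : Frame a Q θ) : (θ acQ : G) = a * cImg θ ∧ (θ acQ : G) * a = cImg θ := by
  have h : (θ acQ : G) = a * cImg θ := by rw [map_mul, Subgroup.coe_mul, F.theta_a]
  refine ⟨h, ?_⟩
  rw [h, ← mem_C.1 (cImg_mem_C S θ), mul_assoc, S.a_sq, mul_one]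

/-- **The cover is not twisted**: the lifts of `u` square to the image of `ac`. -/
theorem untwisted (S : Setup a Q) (F : Frame a Q θ) (hf : Fused a Q) :
    ∃ Y ∈ Subgroup.centralizer ({a} : Set G), Rel θ (g11 9) Y ∧ Y * Y = θ acQ := by
  have hu := letter_mem (l := 9) (by norm_num) (by norm_num)
  obtain ⟨Y, hY, hr⟩ := F.act _ hu
  have h2 : Rel θ (g11 9 * g11 9) (θ acQ : G) := by rw [u_sq]; exact rel_Q0 acQ
  rcases rel_unique S F (mul_mem hu hu) (S.le (θ acQ).2) (mul_mem hY hY) h2 (rel_mul hu hr hr) with h | h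
  · exact ⟨Y, hY, hr, h⟩
  exfalso
  rw [(acQ_val S F).2] at h
  obtain ⟨g, hga, hgc⟩ := exists_swap S F hf
  set X := g * Y * g⁻¹ with hXd
  have hX2 : X * X = a := by rw [hXd, conj_mul, h, hgc]
  have hXc : X * cImg θ = cImg θ * X := by
    rw [hXd, ← hga, conj_mul, conj_mul, mem_C.1 hY]
  have hXQ := sqrt_mem S F hX2 hXc hY hr h
  have ht := letter_mem (l := 7) (by norm_num) (by norm_num)
  have et := eqS_eq model_words.2.2.2.1
  simp only [wv_cons, wv_nil, mul_one] at et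
  obtain ⟨T0, hT0, hrT0⟩ := F.act _ ht
  obtain ⟨T, hT, hrT, hT3⟩ : ∃ T ∈ Subgroup.centralizer ({a} : Set G), Rel θ (g11 7) T ∧ T * T * T = 1 := by
    have h3 : Rel θ 1 (T0 * T0 * T0) := by
      have := rel_mul ht (rel_mul ht hrT0 hrT0) hrT0
      rwa [mul_assoc, et] at this
    rcases rel_central S F (mul_mem (mul_mem hT0 hT0) hT0) h3 with e | e
    · exact ⟨T0, hT0, hrT0, e⟩
    · refine ⟨T0 * a, mul_mem hT0 S.a_mem_C, ?_, ?_⟩
      · have := rel_mul (one_mem CA) hrT0 (rel_a S)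
        rwa [mul_one] at this
      · have ca : Commute T0 a := mem_C.1 hT0
        have : T0 * a * (T0 * a) * (T0 * a) = T0 * T0 * T0 * (a * a * a) := by
          calc _ = T0 * (a * T0) * a * T0 * a := by group
            _ = T0 * T0 * (a * a * T0) * a := by rw [← ca.eq]; group
            _ = T0 * T0 * T0 * (a * a * a) := by rw [S.a_sq, one_mul, one_mul]
        rw [this, e, S.a_sq, one_mul, S.a_sq]
  have hconj : Y * T * Y⁻¹ = T⁻¹ := by
    have e := eqS_eq model_words.2.2.1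
    simp only [wv_cons, wv_nil, mul_one] at e
    rw [show g11 10 = (g11 9)⁻¹ from g11_inv 9, show g11 8 = (g11 7)⁻¹ from g11_inv 7, ← mul_assoc] at e
    have h1 := rel_mul (inv_mem hu) (rel_mul ht hr hrT) (rel_inv hr)
    rw [e] at h1
    rcases rel_unique S F (inv_mem ht) (inv_mem hT) (mul_mem (mul_mem hY hT) (inv_mem hY)) (rel_inv hrT) h1
      with k | k
    · exact k
    · exfalso
      refine S.a_ne ?_
      have c3 : Y * T * Y⁻¹ * (Y * T * Y⁻¹) * (Y * T * Y⁻¹) = 1 := by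
        rw [conj_mul, conj_mul, hT3, mul_one, mul_inv_cancel]
      have ca : Commute T⁻¹ a := (show Commute T a from mem_C.1 hT).inv_left
      rw [k] at c3
      have h3' : (T⁻¹ * a) ^ 3 = 1 := by rw [pow_three, ← mul_assoc]; exact c3
      rw [ca.mul_pow, inv_pow, pow_three T, ← mul_assoc, hT3, inv_one, one_mul, pow_three, S.a_sq, mul_one] at h3'
      exact h3'
  have hTc : T * cImg θ = cImg θ * T := by
    have e := eqS_eq model_words.2.2.2.2
    simp only [wv_cons, wv_nil, mul_one] at e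
    have := hrT ⟨g11 2, c0_mem_Q0⟩ ⟨g11 2, c0_mem_Q0⟩ (by rw [e, mul_inv_cancel_right])
    exact (mul_inv_eq_iff_eq_mul.1 this.symm)
  set T2 := g * T * g⁻¹ with hT2d
  have hT2C : T2 ∈ Subgroup.centralizer ({a} : Set G) :=
    mem_C.2 (by rw [hT2d, ← hgc, conj_mul, conj_mul, hTc])
  have hT23 : T2 * T2 * T2 = 1 := by rw [hT2d, conj_mul, conj_mul, hT3, mul_one, mul_inv_cancel]
  have hXT : X * T2 * X⁻¹ = T2⁻¹ := by
    rw [hXd, hT2d]
    calc g * Y * g⁻¹ * (g * T * g⁻¹) * (g * Y * g⁻¹)⁻¹ = g * (Y * T * Y⁻¹) * g⁻¹ := by group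
      _ = _ := by rw [hconj]; group
  have hT2Q : T2 ∈ Q := by
    have h1 : X * (T2 * X⁻¹ * T2⁻¹) ∈ Q := mul_mem hXQ (S.norm _ hT2C _ (inv_mem hXQ))
    have h2 : X * (T2 * X⁻¹ * T2⁻¹) = T2 := by
      calc X * (T2 * X⁻¹ * T2⁻¹) = X * T2 * X⁻¹ * T2⁻¹ := by group
        _ = T2⁻¹ * T2⁻¹ * (T2 * T2 * T2) := by rw [hXT, hT23, mul_one]
        _ = T2 := by group
    rwa [h2] at h1
  have hT21 : T2 = 1 := by
    have h512 : T2 ^ 512 = 1 := by
      have := pow_card_eq_one' (x := (⟨T2, hT2Q⟩ : ↥Q))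
      rw [S.card] at this
      exact congrArg Subtype.val this
    have h3 : T2 ^ 3 = 1 := by rw [pow_three, ← mul_assoc, hT23]
    exact pow_eq_one_iff_of_coprime (by norm_num : Nat.Coprime 512 3) |>.1 ⟨h512, h3⟩
  have hT1 : T = 1 := by
    calc T = g⁻¹ * T2 * g := by rw [hT2d]; group
      _ = 1 := by rw [hT21, mul_one, inv_mul_cancel]
  rw [hT1] at hrT
  have hne := p9_supports.2.2
  rw [decide_eq_false_iff_not] at hne
  refine hne ?_
  rw [← nine9_letter (l := 7) (by norm_num) (by norm_num)]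
  rcases rel_left ht hrT with e | e
  · rw [show (⟨g11 7, _⟩ : ↥CA) = 1 from Subtype.ext e]; exact map_one nine9
  · exact mem_Q0_iff.1 (show g11 7 ∈ Q0 from e ▸ a0_mem_Q0)

/-- Lifts of the double transpositions square to one. -/
theorem four_sq (S : Setup a Q) (F : Frame a Q θ) (hf : Fused a Q) {h : Hq a θ} (e : EvenInv (piH h))
    (hs : (piH h).support.card = 4) : h * h = 1 := by
  obtain ⟨Y, hY, hr, hY2⟩ := untwisted S F hf
  set p := mkP (letter_mem (l := 9) (by norm_num) (by norm_num)) hY hr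
  have hu : piH (QuotientGroup.mk p : Hq a θ) = (p9 9 : Perm (Fin 9)) :=
    nine9_letter (l := 9) (by norm_num) (by norm_num)
  have h9 := evenChk_spec p9_supports.1
  rw [sq_class S F e (hu ▸ h9.1) (by rw [hu, hs, h9.2]), ← QuotientGroup.mk_mul, QuotientGroup.eq_one_iff]
  exact ⟨acQ, u_sq, hY2⟩

theorem alt_comm : ⁅alternatingGroup (Fin 9), alternatingGroup (Fin 9)⁆ = alternatingGroup (Fin 9) := by
  conv_lhs => rw [← Subgroup.range_subtype (alternatingGroup (Fin 9)), MonoidHom.range_eq_map]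
  rw [← Subgroup.map_commutator, ← commutator_def, commutator_alternatingGroup_eq_top (by simp),
    ← MonoidHom.range_eq_map, Subgroup.range_subtype]

theorem map_commutator_Hq (F : Frame a Q θ) :
    (commutator (Hq a θ)).map piH = alternatingGroup (Fin 9) := by
  have hr : (piH (a := a) (θ := θ)).range = alternatingGroup (Fin 9) := by
    refine le_antisymm ?_ fun σ hσ => exists_piH F (Perm.mem_alternatingGroup.1 hσ)
    rintro _ ⟨h, rfl⟩
    exact Perm.mem_alternatingGroup.2 (piH_sign h)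
  rw [commutator_def, Subgroup.map_commutator, ← MonoidHom.range_eq_map, hr, alt_comm]

/-- **The cover splits.** -/
theorem zH_not_mem (S : Setup a Q) (F : Frame a Q θ) (hf : Fused a Q) :
    zH (θ := θ) S ∉ commutator (Hq a θ) := by
  intro hz
  haveI := finite_CA
  haveI := finite_C S
  have htop : commutator (Hq a θ) = ⊤ := by
    refine eq_top_iff.2 fun h _ => ?_
    obtain ⟨k, hk, hkh⟩ := Subgroup.mem_map.1
      ((map_commutator_Hq F).symm ▸ Perm.mem_alternatingGroup.2 (piH_sign h) : piH h ∈ (commutator (Hq a θ)).map piH)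
    rcases piH_ker S F (h := k⁻¹ * h) (by rw [map_mul, map_inv, hkh, inv_mul_cancel]) with e | e
    · rwa [← inv_mul_eq_one.1 e]
    · rw [inv_mul_eq_iff_eq_mul.1 e]
      exact mul_mem hk hz
  have E : AltMult.Ext (piH (a := a) (θ := θ)) := by
    refine ⟨fun h hh => ?_, htop ▸ le_top, fun σ hσ => exists_piH F hσ, piH_sign⟩
    rw [Subgroup.mem_center_iff]
    intro y
    rcases piH_ker S F hh with e | e <;> rw [e]
    · rw [mul_one, one_mul]
    · exact zH_comm S y
  have C4 := List.all_eq_true.1 four_spec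
  have hAB : ∀ A B : Hq a θ, piH A = AltMult.mgen 9 2 → piH B = AltMult.bgen 9 → Commute A B := by
    intro A B hA hB
    have sq : ∀ {X : Hq a θ} {σ : Perm (Fin 9)}, piH X = σ → evenChk σ 4 = true → X * X = 1 := by
      intro X σ hX hchk
      have h2 := evenChk_spec hchk
      exact four_sq S F hf (hX ▸ h2.1) (by rw [hX, h2.2])
    have hA2 := sq hA (C4 _ (by simp))
    have hB2 := sq hB (C4 _ (by simp))
    have hAB2 := sq (X := A * B) (by rw [map_mul, hA, hB]) (C4 (AltMult.mgen 9 2 * AltMult.bgen 9) (by simp))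
    calc A * B = A * B * (A * B) * (B⁻¹ * A⁻¹) := by group
      _ = B * A := by
        rw [hAB2, one_mul, inv_eq_of_mul_eq_one_left hB2, inv_eq_of_mul_eq_one_left hA2]
  have hle := E.card_le hAB (by norm_num) (by norm_num)
  have hsurj : (piH (a := a) (θ := θ)).range = alternatingGroup (Fin 9) := by
    rw [← map_commutator_Hq F, htop, ← MonoidHom.range_eq_map]
  have h := Subgroup.card_eq_card_quotient_mul_card_subgroup (piH (a := a) (θ := θ)).ker
  rw [Nat.card_congr (QuotientGroup.quotientKerEquivRange _).toEquiv, hsurj, nat_card_alternatingGroup,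
    Nat.card_fin] at h
  have h2 : 2 ≤ Nat.card ↥(piH (a := a) (θ := θ)).ker := by
    haveI : Nontrivial ↥(piH (a := a) (θ := θ)).ker :=
      ⟨⟨1, ⟨zH S, by show piH (zH S) = 1; exact (map_one nine9)⟩,
        fun e => zH_ne S (congrArg Subtype.val e).symm⟩⟩
    exact Finite.one_lt_card
  rw [show Nat.factorial 9 = 362880 by decide] at hle h
  omega

/-- **The centraliser of `a` is a copy of the model.** -/
theorem exists_model (S : Setup a Q) (F : Frame a Q θ) (hf : Fused a Q) :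
    ∃ φ : ↥CA →* G, Model a φ ∧ ∀ (q : ↥Q0) (x : ↥CA), (x : Cfsg.Spor.Th) = q → φ x = θ q := by
  set K : Subgroup ↥(rels a θ) := (commutator (Hq a θ)).comap (QuotientGroup.mk' graph) with hK
  have hmemK : ∀ p : ↥(rels a θ), p ∈ K ↔ (QuotientGroup.mk p : Hq a θ) ∈ commutator (Hq a θ) :=
    fun _ => Iff.rfl
  have hgr : ∀ p ∈ (graph : Subgroup ↥(rels a θ)), p ∈ K := fun p hp => by
    rw [hmemK, (QuotientGroup.eq_one_iff p).2 hp]
    exact one_mem _
  have hcases : ∀ p : ↥(rels a θ), p ∈ K ∨ p * zA S ∈ K := by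
    intro p
    obtain ⟨k, hk, hkh⟩ := Subgroup.mem_map.1
      ((map_commutator_Hq F).symm ▸ Perm.mem_alternatingGroup.2 (piH_sign _) :
        piH (QuotientGroup.mk p : Hq a θ) ∈ (commutator (Hq a θ)).map piH)
    rcases piH_ker S F (h := k⁻¹ * QuotientGroup.mk p) (by rw [map_mul, map_inv, hkh, inv_mul_cancel]) with e | e
    · left; rwa [hmemK, ← inv_mul_eq_one.1 e]
    · right
      rw [hmemK, QuotientGroup.mk_mul, inv_mul_eq_iff_eq_mul.1 e, ← zH, mul_assoc, zH_sq, mul_one]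
      exact hk
  have hinj : Function.Injective (pr1.comp K.subtype) := by
    rw [injective_iff_map_eq_one]
    intro v hv
    rcases ker_pr1 S F (p := v.1) (congrArg Subtype.val hv) with e | e
    · exact Subtype.ext e
    · refine absurd ?_ (zH_not_mem S F hf)
      have := (hmemK _).1 v.2
      rwa [e] at this
  have hsurj : Function.Surjective (pr1.comp K.subtype) := by
    intro x
    obtain ⟨p, hp⟩ := exists_pair (a := a) F x.2
    rcases hcases p with h | h
    · exact ⟨⟨p, h⟩, Subtype.ext hp⟩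
    · refine ⟨⟨_, h⟩, Subtype.ext ?_⟩
      show (pr1 (p * zA S) : Cfsg.Spor.Th) = x
      rw [map_mul, pr1_zA, mul_one, hp]
  let e := MulEquiv.ofBijective (pr1.comp K.subtype) ⟨hinj, hsurj⟩
  let φ : ↥CA →* G := (Subgroup.centralizer ({a} : Set G)).subtype.comp
    ((pr2.comp K.subtype).comp e.symm.toMonoidHom)
  have hφ : ∀ v : ↥K, φ (pr1 v.1) = (pr2 v.1 : G) := fun v => by
    show (pr2 ((e.symm (e v)).1) : G) = _
    rw [e.symm_apply_apply]
  have hQ : ∀ (q : ↥Q0) (x : ↥CA), (x : Cfsg.Spor.Th) = q → φ x = θ q := fun q x hx => by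
    have h := hφ ⟨pQ S q, hgr _ (pQ_mem S q)⟩
    rw [show x = pr1 (pQ (θ := θ) S q) from Subtype.ext hx]
    exact h
  refine ⟨φ, ⟨?_, ?_, fun x hx => (hQ ⟨g11 0, a0_mem_Q0⟩ x hx).trans F.theta_a⟩, hQ⟩
  · rw [injective_iff_map_eq_one]
    intro x hx
    obtain ⟨v, rfl⟩ := hsurj x
    rw [show (pr1.comp K.subtype) v = pr1 v.1 from rfl, hφ v] at hx
    have hr := pair_rel v.1
    rw [hx] at hr
    rcases rel_left (pr1 v.1).2 hr with h | h
    · exact Subtype.ext h
    · exfalso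
      refine zH_not_mem S F hf ?_
      have h0 := hgr _ (pQ_mem (θ := θ) S ⟨g11 0, a0_mem_Q0⟩)
      have := (hmemK _).1 (mul_mem (inv_mem v.2) h0)
      rwa [show v.1⁻¹ * pQ S ⟨g11 0, a0_mem_Q0⟩ = zA S from pair_ext
        (by
          show ((pr1 v.1 : Cfsg.Spor.Th))⁻¹ * g11 0 = 1
          rw [h, inv_mul_cancel])
        (by
          show ((pr2 v.1 : G))⁻¹ * (θ ⟨g11 0, a0_mem_Q0⟩ : G) = a
          rw [hx, F.theta_a, inv_one, one_mul])] at this
  · refine le_antisymm ?_ fun y hy => ?_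
    · rintro _ ⟨x, rfl⟩
      exact ((pr2.comp K.subtype).comp e.symm.toMonoidHom x).2
    · obtain ⟨p, hp⟩ := exists_pre S F hy
      rcases hcases p with h | h
      · exact ⟨_, (hφ ⟨p, h⟩).trans hp⟩
      · refine ⟨_, (hφ ⟨_, mul_mem h (hgr _ (pQ_mem (θ := θ) S ⟨g11 0, a0_mem_Q0⟩))⟩).trans ?_⟩
        show (pr2 p : G) * a * (θ ⟨g11 0, a0_mem_Q0⟩ : G) = y
        rw [F.theta_a, mul_assoc, S.a_sq, mul_one, hp]

end

end Cfsg.Agent.ThRec
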