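import Cfsg.Agent.Lib.ThRec.LocalBase
import Cfsg.Agent.Lib.ThRec.CertADUCheck
import Cfsg.Agent.Lib.ThRec.CertADFCheck

/-!
The involution `b` commutes with the image of `d` rather than with that of `ad`: the other case collapses.
-/

set_option autoImplicit false
set_option maxRecDepth 100000
set_option maxHeartbeats 1000000
set_option Elab.async false

namespace Cfsg.Agent.ThRec

open Cfsg.Agent.HN Cfsg.Agent.Th Cfsg.Agent.ThOut

noncomputable section

variable {G : Type*} [Group G] {φ : ↥CA →* G} {b : G}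

/-- The relators used in the collapse, with either alternative for `u`. -/
def relBad (uX : List ℕ) : List (List ℕ) :=
  (relTh.filter fun r => !(r.any fun l => Nat.beq l 1)) ++
    [[1, 1], [0, 1, 0, 1, 0, 1], [1, 2, 1, 2, 1, 2], [8, 1, 7, 1], [1, 0, 3, 1, 0, 3], eWord, xWord, uX]

theorem relBad_rels : okRels CertADU.cert (relBad uTrue) = true ∧ noB CertADU.cert = true ∧
    okRels CertADF.cert (relBad uFalse) = true ∧ noB CertADF.cert = true := by
  decide +kernel

theorem collapse_pair (hbb : b * b = 1) (hnab : b * gB φ b 0 ≠ gB φ b 0 * b)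
    {C : TC.Cert} {N : ℕ} {refs : List ℕ} {H : List (List ℕ)}
    (hiv : ∀ l, C.k ≤ l → C.iv l = l) (hgood : ∀ n < N, TC.okFact C n = true)
    (htr : TC.okTrace C N [1] refs = true) (hrel : okRels C H = true) (hs : noB C = true)
    (hG : ∀ r ∈ H, wv (gB φ b) r = 1) : False := by
  have R : TC.Rules C (fun l => gB φ b (to11C l)) φ.range :=
    cert_rules (gB_inv φ b hbb) hiv hG hrel hs _ (fun l hl => by rw [gB_of_ne φ b hl]; exact ⟨_, rfl⟩)
  obtain ⟨x, hx⟩ := TC.trace_mem R (TC.all_good R hgood) htr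
  rw [wv_to11C, show List.map to11C [1] = [1] from rfl, wv_singleton, gB_one] at hx
  refine hnab ?_
  rw [gB_of_ne φ b (by norm_num : (0 : ℕ) ≠ 1), ← hx, ← map_mul, ← map_mul]
  exact congrArg φ (Subtype.ext (Subgroup.mem_centralizer_singleton_iff.1 x.2))

/-- **The case of `ad` is impossible.** -/
theorem bad_false (hbb : b * b = 1) (hnab : b * gB φ b 0 ≠ gB φ b 0 * b)
    (hab : (gB φ b 0 * b) ^ 3 = 1) (hbc : (b * gB φ b 2) ^ 3 = 1)
    (hbd : b * (gB φ b 0 * gB φ b 3) = gB φ b 0 * gB φ b 3 * b)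
    (hbt : b * gB φ b 7 = gB φ b 7 * b) (hwe : wv (gB φ b) eWord = 1) (hwx : wv (gB φ b) xWord = 1)
    (hwu : wv (gB φ b) uTrue = 1 ∨ wv (gB φ b) uFalse = 1) : False := by
  have hbase : ∀ uX : List ℕ, wv (gB φ b) uX = 1 → ∀ r ∈ relBad uX, wv (gB φ b) r = 1 := by
    intro uX hu r hr
    rw [relBad, List.mem_append] at hr
    rcases hr with hr | hr
    · rw [List.mem_filter] at hr
      simp only [Bool.not_eq_true', List.any_eq_false] at hr
      have h1 : ∀ l ∈ r, l ≠ 1 := fun l hl e => hr.2 l hl (by rw [e]; rfl)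
      obtain ⟨h, e⟩ := wv_gB φ b h1
      rw [e, show (⟨wv g11 r, h⟩ : ↥CA) = 1 from Subtype.ext (relTh_one hr.1), map_one]
    · simp only [List.mem_cons, List.not_mem_nil, or_false] at hr
      have h8 : gB φ b 8 = (gB φ b 7)⁻¹ := gB_inv φ b hbb 7
      rcases hr with rfl | rfl | rfl | rfl | rfl | rfl | rfl | rfl
      · simp only [wv, mul_one, gB_one]; exact hbb
      · simp only [wv, mul_one, gB_one]
        rw [← hab, pow_three]
        simp [mul_assoc]
      · simp only [wv, mul_one, gB_one]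
        rw [← hbc, pow_three]
        simp [mul_assoc]
      · simp only [wv, mul_one, gB_one, h8]
        rw [← mul_assoc b, hbt, mul_assoc (gB φ b 7) b b, hbb, mul_one, inv_mul_cancel]
      · simp only [wv, mul_one, gB_one]
        have e : gB φ b 0 * gB φ b 3 * (gB φ b 0 * gB φ b 3) = 1 := by
          rw [gB_of_ne φ b (by norm_num : (0 : ℕ) ≠ 1), gB_of_ne φ b (by norm_num : (3 : ℕ) ≠ 1), ← map_mul,
            ← map_mul, ← map_one φ]
          refine congrArg φ (Subtype.ext ?_)
          have h := eqS_eq (sd := true) (u := [0, 3, 0, 3]) (v := []) (by decide +kernel)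
          simp only [wv_cons, wv_nil, mul_one] at h
          simpa [mul_assoc] using h
        calc b * (gB φ b 0 * (gB φ b 3 * (b * (gB φ b 0 * gB φ b 3))))
            = b * (gB φ b 0 * gB φ b 3) * (b * (gB φ b 0 * gB φ b 3)) := by simp [mul_assoc]
          _ = gB φ b 0 * gB φ b 3 * b * (b * (gB φ b 0 * gB φ b 3)) := by nth_rw 1 [hbd]
          _ = gB φ b 0 * gB φ b 3 * (b * b) * (gB φ b 0 * gB φ b 3) := by simp [mul_assoc]
          _ = 1 := by rw [hbb, mul_one, e]
      · exact hwe
      · exact hwx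
      · exact hu
  obtain ⟨r1, r2, r3, r4⟩ := relBad_rels
  rcases hwu with hu | hu
  · exact collapse_pair hbb hnab (C := CertADU.cert)
      (fun l hl => by simp only [CertADU.cert] at hl; obtain ⟨m, rfl⟩ : ∃ m, l = m + 9 := ⟨l - 9, by omega⟩
                      simp [CertADU.cert, CertADU.ivl])
      CertADU.ok_all CertADU.trace0 r1 r2 (hbase _ hu)
  · exact collapse_pair hbb hnab (C := CertADF.cert)
      (fun l hl => by simp only [CertADF.cert] at hl; obtain ⟨m, rfl⟩ : ∃ m, l = m + 9 := ⟨l - 9, by omega⟩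
                      simp [CertADF.cert, CertADF.ivl])
      CertADF.ok_all CertADF.trace0 r3 r4 (hbase _ hu)

end

end Cfsg.Agent.ThRec
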