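import Cfsg.Agent.Lib.ThRec.FixCert
import Cfsg.Agent.Lib.ThRec.FixDataNineteen
import Cfsg.Agent.Lib.ThRep.MatNineteen6

/-! The fixed space of an element of order 19 has dimension 14. -/

set_option autoImplicit false
set_option maxRecDepth 100000
set_option Elab.async false

namespace Cfsg.Agent.ThRec

open Cfsg.Agent.ThRep

theorem nineteen_bound : boundOK 14 nineteenMat6 nineteenL nineteenR nineteenY = true := by decide +kernel

theorem nineteen_basis : basisOK 14 nineteenMat6 nineteenL nineteenR = true := by decide +kernel

theorem nineteen_pow : Nat.beq (powN nineteenMat6 19) one = true := by decide +kernel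

theorem nineteen_ne : Nat.beq nineteenMat6 one = false := by decide +kernel

end Cfsg.Agent.ThRec
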