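import Cfsg.Agent.Lib.ThRec.FixCert
import Cfsg.Agent.Lib.ThRec.FixDataThirtyone
import Cfsg.Agent.Lib.ThRep.MatThirtyone7

/-! The fixed space of an element of order 31 has dimension at most 8. -/

set_option autoImplicit false
set_option maxRecDepth 100000
set_option Elab.async false

namespace Cfsg.Agent.ThRec

open Cfsg.Agent.ThRep

theorem thirtyone_bound : boundOK 8 thirtyoneMat7 thirtyoneL thirtyoneR thirtyoneY = true := by decide +kernel

theorem thirtyone_pow : Nat.beq (powN thirtyoneMat7 31) one = true := by decide +kernel

theorem thirtyone_ne : Nat.beq thirtyoneMat7 one = false := by decide +kernel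

end Cfsg.Agent.ThRec
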