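import Cfsg.Agent.Lib.Th.Final
import Cfsg.Agent.Lib.ThRec.FixCheckThirtyone
import Cfsg.Agent.Lib.ThRec.FixCheckNineteen
import Cfsg.Agent.Lib.ThRep.StepsThirtyone
import Cfsg.Agent.Lib.ThRep.StepsNineteen

/-! Elements of orders 31 and 19 of the Thompson group do not commute. -/

set_option autoImplicit false
set_option maxRecDepth 100000

namespace Cfsg.Agent.ThRec

open Cfsg.Agent.ThRep Cfsg.Agent.Th Matrix

noncomputable section

section
variable {n : Type*} [Fintype n] [DecidableEq n] {S : Type*} [CommRing S] (v : n → S) (a b : (Matrix n n S)ˣ)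

theorem vm_mul : v ᵥ* ((a * b : (Matrix n n S)ˣ) : Matrix n n S) = (v ᵥ* (a : Matrix n n S)) ᵥ* (b : Matrix n n S) := by
  rw [Units.val_mul, Matrix.vecMul_vecMul]

theorem vm_one : v ᵥ* ((1 : (Matrix n n S)ˣ) : Matrix n n S) = v := by
  rw [Units.val_one, Matrix.vecMul_one]

theorem vm_inv_cancel : (v ᵥ* (a : Matrix n n S)) ᵥ* ((a⁻¹ : (Matrix n n S)ˣ) : Matrix n n S) = v := by
  rw [← vm_mul, mul_inv_cancel, vm_one]

theorem vm_cancel_inv : (v ᵥ* ((a⁻¹ : (Matrix n n S)ˣ) : Matrix n n S)) ᵥ* (a : Matrix n n S) = v := by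
  rw [← vm_mul, inv_mul_cancel, vm_one]

end

attribute [local irreducible] Matrix.vecMul

theorem exists_of_cert {A p k : ℕ} (hp : p.Prime) (hA : InImg A) (h1 : Nat.beq (powN A p) one = true)
    (h0 : Nat.beq A one = false) {L R Y : ℕ} (hb : boundOK k A L R Y = true) (hk : k ≤ 248) :
    ∃ g : Cfsg.Spor.Th, orderOf g = p ∧ IsMat A (hom g) ∧ Nat.card (fixSpace (hom g)) ≤ 3 ^ k := by
  obtain ⟨g, hg⟩ := hA
  refine ⟨g, ?_, hg, card_fixSpace_le hb hk hg⟩
  have := Fact.mk hp
  refine orderOf_eq_prime (hom_injective ?_) fun e => ?_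
  · rw [map_pow, map_one]
    have h := isMat_powN hg p
    rw [Nat.eq_of_beq_eq_true h1] at h
    exact h.unique isMat_one
  · exact hg.ne_of_ne isMat_one h0 (by rw [e, map_one])

theorem fixSpace_le_of_mem {x z : Cfsg.Spor.Th} (h : z ∈ Subgroup.zpowers x) :
    fixSpace (hom x) ≤ fixSpace (hom z) := by
  intro v hv
  rw [mem_fixSpace] at hv ⊢
  let S : Subgroup M248ˣ :=
    { carrier := {u | v ᵥ* (u : M248) = v}
      one_mem' := vm_one v
      mul_mem' := fun {a b} ha hb => by
        show v ᵥ* ((a * b : M248ˣ) : M248) = v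
        rw [vm_mul, ha, hb]
      inv_mem' := fun {a} ha => by
        show v ᵥ* ((a⁻¹ : M248ˣ) : M248) = v
        conv_lhs => rw [← (ha : v ᵥ* (a : M248) = v), vm_inv_cancel] }
  have : Subgroup.zpowers x ≤ S.comap hom := Subgroup.zpowers_le.2 hv
  exact this h

theorem card_fixSpace_conj (u w : M248ˣ) :
    Nat.card (fixSpace (u * w * u⁻¹)) = Nat.card (fixSpace w) := by
  refine Nat.card_congr
    { toFun := fun v => ⟨v.1 ᵥ* (u : M248), ?_⟩
      invFun := fun v => ⟨v.1 ᵥ* ((u⁻¹ : M248ˣ) : M248), ?_⟩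
      left_inv := fun v => Subtype.ext (vm_inv_cancel _ _)
      right_inv := fun v => Subtype.ext (vm_cancel_inv _ _) }
  · rw [mem_fixSpace]
    have h : v.1 ᵥ* ((u * w * u⁻¹ : M248ˣ) : M248) = v.1 := v.2
    conv_rhs => rw [← h]
    rw [vm_mul, vm_mul, vm_cancel_inv]
  · rw [mem_fixSpace, vm_mul, vm_mul, vm_cancel_inv, (v.2 : v.1 ᵥ* (w : M248) = v.1)]

/-- All elements of an order dividing the group order just once have fixed spaces of one size. -/
theorem card_fixSpace_eq {p : ℕ} [Fact p.Prime] {g x : Cfsg.Spor.Th} (hg : orderOf g = p)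
    (hx : orderOf x = p) (hfac : (Nat.card Cfsg.Spor.Th).factorization p = 1) :
    Nat.card (fixSpace (hom x)) = Nat.card (fixSpace (hom g)) := by
  haveI : Finite Cfsg.Spor.Th := Nat.finite_of_card_ne_zero (by rw [card_th]; norm_num)
  let P : Sylow p Cfsg.Spor.Th := Sylow.ofCard (Subgroup.zpowers g) (by rw [Nat.card_zpowers, hg, hfac, pow_one])
  let Q : Sylow p Cfsg.Spor.Th := Sylow.ofCard (Subgroup.zpowers x) (by rw [Nat.card_zpowers, hx, hfac, pow_one])
  obtain ⟨c, hc⟩ := MulAction.exists_smul_eq Cfsg.Spor.Th P Q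
  have hz : c * g * c⁻¹ ∈ Subgroup.zpowers x := by
    have h := Subgroup.smul_mem_pointwise_smul g (MulAut.conj c) (P : Subgroup Cfsg.Spor.Th)
      (Subgroup.mem_zpowers g)
    have e : ((c • P : Sylow p Cfsg.Spor.Th) : Subgroup Cfsg.Spor.Th) = Subgroup.zpowers x := by rw [hc]; rfl
    rw [← e]
    exact h
  have hback : x ∈ Subgroup.zpowers (c * g * c⁻¹) := by
    have e : Subgroup.zpowers (c * g * c⁻¹) = Subgroup.zpowers x := by
      refine Subgroup.eq_of_le_of_card_ge (Subgroup.zpowers_le.2 hz) (le_of_eq ?_)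
      rw [Nat.card_zpowers, Nat.card_zpowers, hx,
        show orderOf (c * g * c⁻¹) = orderOf g from
          orderOf_injective (MulAut.conj c).toMonoidHom (MulAut.conj c).injective g, hg]
    rw [e]
    exact Subgroup.mem_zpowers x
  rw [le_antisymm (fixSpace_le_of_mem hz) (fixSpace_le_of_mem hback), map_mul, map_mul, map_inv,
    card_fixSpace_conj]

/-- **Elements of orders 31 and 19 do not commute.** -/
theorem not_commute {x y : Cfsg.Spor.Th} (hx : orderOf x = 31) (hy : orderOf y = 19)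
    (hxy : Commute x y) : False := by
  haveI : Fact (Nat.Prime 31) := ⟨by norm_num⟩
  haveI : Fact (Nat.Prime 19) := ⟨by norm_num⟩
  have f31 : (90745943887872000 : ℕ).factorization 31 = 1 := by
    rw [show (90745943887872000 : ℕ) = 31 ^ 1 * 2927288512512000 by norm_num,
      Nat.factorization_mul (by norm_num) (by norm_num), Finsupp.add_apply,
      Nat.Prime.factorization_pow (by norm_num), Finsupp.single_eq_same,
      Nat.factorization_eq_zero_of_not_dvd (by norm_num), add_zero]
  have f19 : (90745943887872000 : ℕ).factorization 19 = 1 := by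
    rw [show (90745943887872000 : ℕ) = 19 ^ 1 * 4776102309888000 by norm_num,
      Nat.factorization_mul (by norm_num) (by norm_num), Finsupp.add_apply,
      Nat.Prime.factorization_pow (by norm_num), Finsupp.single_eq_same,
      Nat.factorization_eq_zero_of_not_dvd (by norm_num), add_zero]
  obtain ⟨g, hg, hMg, hgle⟩ := exists_of_cert (p := 31) (by norm_num) inImg_thirtyoneMat7 thirtyone_pow
    thirtyone_ne thirtyone_bound (by norm_num)
  obtain ⟨h, hh, hMh, hhle⟩ := exists_of_cert (p := 19) (by norm_num) inImg_nineteenMat6 nineteen_pow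
    nineteen_ne nineteen_bound (by norm_num)
  have hxle : Nat.card (fixSpace (hom x)) ≤ 3 ^ 8 := by
    rw [card_fixSpace_eq hg hx (by rw [card_th]; exact f31)]; exact hgle
  have hyeq : Nat.card (fixSpace (hom y)) = 3 ^ 14 := by
    rw [card_fixSpace_eq hh hy (by rw [card_th]; exact f19)]
    exact le_antisymm hhle (card_fixSpace_ge nineteen_bound nineteen_basis (by norm_num) hMh)
  -- the group generated by `x` acts on the fixed space of `y`
  have hstep : ∀ z ∈ Subgroup.zpowers x, ∀ v ∈ fixSpace (hom y),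
      v ᵥ* ((hom z : M248ˣ) : M248) ∈ fixSpace (hom y) := by
    intro z hz v hv
    obtain ⟨i, rfl⟩ := Subgroup.mem_zpowers_iff.1 hz
    rw [mem_fixSpace] at hv ⊢
    rw [← vm_mul, ← map_mul, (hxy.zpow_left i).eq, map_mul, vm_mul, hv]
  letI : MulAction (Subgroup.zpowers x) (fixSpace (hom y)) :=
    { smul := fun z v => ⟨v.1 ᵥ* ((hom (z : Cfsg.Spor.Th)⁻¹ : M248ˣ) : M248),
        hstep _ (Subgroup.inv_mem _ z.2) _ v.2⟩
      one_smul := fun v => Subtype.ext ((congrArg (fun z : M248ˣ => v.1 ᵥ* (z : M248))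
        ((congrArg hom (by rw [Subgroup.coe_one, inv_one])).trans (map_one hom))).trans (vm_one _))
      mul_smul := fun a b v => Subtype.ext ((congrArg (fun z : M248ˣ => v.1 ᵥ* (z : M248))
        ((congrArg hom (by rw [Subgroup.coe_mul, _root_.mul_inv_rev])).trans (map_mul hom _ _))).trans (vm_mul _ _ _)) }
  have hP : IsPGroup 31 (Subgroup.zpowers x) :=
    IsPGroup.of_card (n := 1) (by rw [Nat.card_zpowers, hx, pow_one])
  haveI : Finite Cfsg.Spor.Th := Nat.finite_of_card_ne_zero (by rw [card_th]; norm_num)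
  have hmod := hP.card_modEq_card_fixedPoints (fixSpace (hom y))
  have hfix : Nat.card (MulAction.fixedPoints (Subgroup.zpowers x) (fixSpace (hom y))) =
      Nat.card (fixSpace (hom x) ⊓ fixSpace (hom y) : AddSubgroup V248) := by
    refine Nat.card_congr
      { toFun := fun v => ⟨v.1.1, ?_, v.1.2⟩
        invFun := fun v => ⟨⟨v.1, v.2.2⟩, ?_⟩
        left_inv := fun _ => rfl
        right_inv := fun _ => rfl }
    · have e := congrArg Subtype.val (v.2 ⟨x⁻¹, Subgroup.inv_mem _ (Subgroup.mem_zpowers x)⟩)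
      show v.1.1 ∈ fixSpace (hom x)
      rw [mem_fixSpace]
      simpa using (show v.1.1 ᵥ* ((hom (x⁻¹)⁻¹ : M248ˣ) : M248) = v.1.1 from e)
    · intro z
      refine Subtype.ext ?_
      exact fixSpace_le_of_mem (Subgroup.inv_mem _ z.2) v.2.1
  rw [hfix, hyeq] at hmod
  have hdvd := AddSubgroup.card_addSubgroup_dvd_card (fixSpace (hom x) ⊓ fixSpace (hom y) : AddSubgroup V248)
  rw [show Nat.card V248 = 3 ^ 248 by simp] at hdvd
  obtain ⟨j, -, hj⟩ := (Nat.dvd_prime_pow (by norm_num)).1 hdvd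
  have hle : 3 ^ j ≤ 3 ^ 8 := hj ▸ (Nat.card_mono (Set.toFinite _) inf_le_left).trans hxle
  have hj8 : j ≤ 8 := (Nat.pow_le_pow_iff_right (by norm_num)).1 hle
  rw [hj] at hmod
  interval_cases j <;> norm_num [Nat.ModEq] at hmod

end

end Cfsg.Agent.ThRec
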