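import Cfsg.Agent.Lib.ThRec.Setup
import Cfsg.Agent.Lib.ThRec.FixSpaces
import Cfsg.Agent.Lib.ThOut.AutC
import Cfsg.Agent.Lib.Solvable.Hall
import Cfsg.Agent.S0205
import Cfsg.Agent.S1225

/-!
The recognition of the Thompson group, last step: an embedded copy which contains the centraliser of one of its
involutions is everything.  Otherwise it would be strongly embedded and an odd subgroup of it would be transitive
on 976841775 involutions, so that elements of orders 31 and 19 would commute.
-/

set_option autoImplicit false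
set_option maxRecDepth 100000

namespace Cfsg.Agent.ThRec

open Cfsg.Agent.HN Cfsg.Agent.Th Cfsg.Agent.ThOut

noncomputable section

theorem isConj_th {x y : Cfsg.Spor.Th} (hx : orderOf x = 2) (hy : orderOf y = 2) : IsConj x y := by
  have key : ∀ z : Cfsg.Spor.Th, orderOf z = 2 → IsConj (g11 0) z := fun z hz => by
    refine fused ?_ ?_
    · rw [← pow_two, ← hz, pow_orderOf_eq_one]
    · rintro rfl; simp at hz
  exact (key x hx).symm.trans (key y hy)

theorem orderOf_a : orderOf (g11 0) = 2 := orderOf_eq_prime (by rw [pow_two, a_invol.1]) a_invol.2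

/-- An odd subgroup cannot be transitive on the involutions. -/
theorem not_transitive (D : Subgroup Cfsg.Spor.Th) (hodd : Odd (Nat.card D))
    (htr : ∀ g : Cfsg.Spor.Th, ∃ d ∈ D, d * g11 0 * d⁻¹ = g * g11 0 * g⁻¹) : False := by
  haveI := finite_spor
  haveI : Fact (Nat.Prime 31) := ⟨by norm_num⟩
  haveI : Fact (Nat.Prime 19) := ⟨by norm_num⟩
  have hidx : CA.index = 976841775 := by
    have h := CA.card_mul_index
    rw [hcard0, card_th] at h
    omega
  have hrel : CA.relIndex D = CA.index := by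
    show Nat.card (↥D ⧸ CA.subgroupOf D) = Nat.card (Cfsg.Spor.Th ⧸ CA)
    refine Nat.card_eq_of_bijective (Quotient.map' (fun d : ↥D => (d : Cfsg.Spor.Th)) ?_) ⟨?_, ?_⟩
    · intro a b hab
      rw [QuotientGroup.leftRel_apply] at hab ⊢
      exact hab
    · rintro ⟨a⟩ ⟨b⟩ hab
      refine Quotient.sound' ?_
      have h := Quotient.exact' hab
      rw [QuotientGroup.leftRel_apply] at h ⊢
      exact h
    · rintro ⟨g⟩
      obtain ⟨d, hd, e⟩ := htr g
      refine ⟨Quotient.mk'' ⟨d, hd⟩, Quotient.sound' ?_⟩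
      rw [QuotientGroup.leftRel_apply, Subgroup.mem_centralizer_singleton_iff]
      calc d⁻¹ * g * g11 0 = d⁻¹ * (g * g11 0 * g⁻¹) * g := by group
        _ = d⁻¹ * (d * g11 0 * d⁻¹) * g := by rw [e]
        _ = g11 0 * (d⁻¹ * g) := by group
  have hdvd : 589 ∣ Nat.card D := dvd_trans (by norm_num) (hidx ▸ hrel ▸ Subgroup.relIndex_dvd_card CA D)
  obtain ⟨m, hm⟩ := hdvd
  have hcop : Nat.Coprime 589 m := by
    have hle : 589 * m ∣ 90745943887872000 := by
      rw [← hm, ← card_th]; exact Subgroup.card_subgroup_dvd_card D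
    rw [show (589 : ℕ) = 19 * 31 by norm_num, Nat.coprime_mul_iff_left]
    constructor <;> refine (Nat.Prime.coprime_iff_not_dvd (by norm_num)).2 fun hp => ?_
    · exact absurd (dvd_trans (Nat.mul_dvd_mul_left 589 hp) hle) (by norm_num)
    · exact absurd (dvd_trans (Nat.mul_dvd_mul_left 589 hp) hle) (by norm_num)
  haveI : Group.IsSolvable ↥D := Cfsg.Agent.S0205.result hodd
  obtain ⟨K, hK⟩ := Cfsg.Agent.HallSolv.exists_hall (G := ↥D) hm hcop
  obtain ⟨x, hx⟩ := exists_prime_orderOf_dvd_card' (G := ↥K) 31 (by rw [hK]; norm_num)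
  obtain ⟨y, hy⟩ := exists_prime_orderOf_dvd_card' (G := ↥K) 19 (by rw [hK]; norm_num)
  have hnormal : ∀ (p q : ℕ) [Fact p.Prime], p * q = 589 → (∀ n ∈ q.divisors, n % p = 1 → n = 1) →
      ∀ z : ↥K, orderOf z = p → (Subgroup.zpowers z).Normal := by
    intro p q _ hpq hn z hz
    have hq : ¬ p ∣ q := fun h => by
      have hsq : Squarefree (589 : ℕ) := by
        rw [show (589 : ℕ) = 19 * 31 by norm_num, Nat.squarefree_mul (by norm_num)]
        exact ⟨(by norm_num : Nat.Prime 19).squarefree, (by norm_num : Nat.Prime 31).squarefree⟩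
      exact (Fact.out : p.Prime).not_isUnit (hsq p (hpq ▸ Nat.mul_dvd_mul_left p h))
    have hfac : (Nat.card ↥K).factorization p = 1 := by
      rw [hK, ← hpq, Nat.factorization_mul (Fact.out : p.Prime).ne_zero (by rintro rfl; simp at hpq),
        Finsupp.add_apply, (Fact.out : p.Prime).factorization_self, Nat.factorization_eq_zero_of_not_dvd hq]
    let P : Sylow p ↥K := Sylow.ofCard (Subgroup.zpowers z) (by rw [Nat.card_zpowers, hz, hfac, pow_one])
    have hdvd : Nat.card (Sylow p ↥K) ∣ q := by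
      have h := Sylow.card_dvd_index P
      have h2 := (P : Subgroup ↥K).card_mul_index
      rw [hK, ← hpq, show Nat.card (P : Subgroup ↥K) = p from (Nat.card_zpowers z).trans hz] at h2
      rwa [Nat.eq_of_mul_eq_mul_left (Fact.out : p.Prime).pos h2] at h
    have h1 : Nat.card (Sylow p ↥K) = 1 :=
      hn _ (Nat.mem_divisors.2 ⟨hdvd, by rintro rfl; simp at hpq⟩) (Eq.trans (card_sylow_modEq_one p ↥K)
        (Nat.mod_eq_of_lt (Fact.out : p.Prime).one_lt))
    haveI : Subsingleton (Sylow p ↥K) := (Nat.card_eq_one_iff_unique.1 h1).1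
    exact Sylow.normal_of_subsingleton P
  have nx := hnormal 31 19 (by norm_num) (by decide) x hx
  have ny := hnormal 19 31 (by norm_num) (by decide) y hy
  have hdis : Disjoint (Subgroup.zpowers x) (Subgroup.zpowers y) := by
    rw [disjoint_iff]
    refine Subgroup.inf_eq_bot_of_coprime ?_
    rw [Nat.card_zpowers, Nat.card_zpowers, hx, hy]
    norm_num
  have hc : Commute x y := Subgroup.commute_of_normal_of_disjoint _ _ nx ny hdis x y
    (Subgroup.mem_zpowers x) (Subgroup.mem_zpowers y)
  let ι : ↥K →* Cfsg.Spor.Th := D.subtype.comp K.subtype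
  have hι : Function.Injective ι := Subtype.val_injective.comp Subtype.val_injective
  exact not_commute (x := ι x) (y := ι y) (by rw [orderOf_injective ι hι, hx])
    (by rw [orderOf_injective ι hι, hy]) (hc.map ι)

variable {G : Type*} [Group G] [Finite G]

/-- An embedded copy which contains the centraliser of one of its involutions is the whole group. -/
theorem range_eq_top (f : Cfsg.Spor.Th →* G) (hf : Function.Injective f)
    (hC : Subgroup.centralizer ({f (g11 0)} : Set G) ≤ f.range) : f.range = ⊤ := by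
  classical
  by_contra hH
  set H := f.range with hHdef
  have htH : f (g11 0) ∈ H := ⟨_, rfl⟩
  have ho : ∀ z, orderOf (f z) = orderOf z := orderOf_injective f hf
  have conjH : ∀ x y : G, x ∈ H → y ∈ H → orderOf x = 2 → orderOf y = 2 → ∃ h ∈ H, h * x * h⁻¹ = y := by
    rintro _ _ ⟨x, rfl⟩ ⟨y, rfl⟩ ox oy
    rw [ho] at ox oy
    obtain ⟨c, hc⟩ := isConj_iff.1 (isConj_th ox oy)
    exact ⟨f c, ⟨c, rfl⟩, by rw [← map_inv, ← map_mul, ← map_mul, hc]⟩
  have embedded : ∀ g x : G, x ∈ H → orderOf x = 2 → g * x * g⁻¹ ∈ H → g ∈ H := by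
    intro g x hx ox hy
    have oy : orderOf (g * x * g⁻¹) = 2 := by
      rw [← ox]; exact orderOf_injective (MulAut.conj g).toMonoidHom (MulAut.conj g).injective x
    obtain ⟨h, hh, e⟩ := conjH _ x hy hx oy ox
    obtain ⟨a, ha, ea⟩ := conjH x _ hx htH ox (by rw [ho]; exact orderOf_a)
    have hm : a * (h * g) * a⁻¹ ∈ H := hC (Subgroup.mem_centralizer_singleton_iff.2 (by
      have e1 : h * g * x = x * (h * g) := by
        calc h * g * x = h * (g * x * g⁻¹) * h⁻¹ * (h * g) := by group
          _ = x * (h * g) := by rw [e]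
      rw [← ea]
      calc a * (h * g) * a⁻¹ * (a * x * a⁻¹) = a * (h * g * x) * a⁻¹ := by group
        _ = a * (x * (h * g)) * a⁻¹ := by rw [e1]
        _ = a * x * a⁻¹ * (a * (h * g) * a⁻¹) := by group))
    have := H.mul_mem (H.mul_mem (H.inv_mem hh) (H.mul_mem (H.mul_mem (H.inv_mem ha) hm) ha)) H.one_mem
    simpa [mul_assoc] using this
  have hse : Cfsg.IsStronglyEmbedded H := by
    refine ⟨hH, ?_, fun g hg => ?_⟩
    · rw [even_iff_two_dvd, ← orderOf_a, ← ho]
      exact Subgroup.orderOf_dvd_natCard _ htH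
    · rw [← Nat.not_even_iff_odd, even_iff_two_dvd]
      intro h2
      obtain ⟨z, hz⟩ := exists_prime_orderOf_dvd_card' (G := ↥(H ⊓ H.map (MulAut.conj g).toMonoidHom)) 2 h2
      obtain ⟨h1, w, hw, e⟩ := z.2
      refine hg (embedded g w hw ?_ ?_)
      · rw [← Subgroup.orderOf_coe] at hz
        rw [← e, orderOf_injective (MulAut.conj g).toMonoidHom (MulAut.conj g).injective] at hz
        exact hz
      · have e' : g * w * g⁻¹ = (z : G) := by simpa using e
        rw [e']; exact h1
  obtain ⟨u, hu, huH⟩ : ∃ u : G, orderOf u = 2 ∧ u ∉ H := by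
    by_contra hall
    push Not at hall
    refine hH (eq_top_iff.2 fun g _ => embedded g _ htH (by rw [ho]; exact orderOf_a) (hall _ ?_))
    rw [show g * f (g11 0) * g⁻¹ = (MulAut.conj g).toMonoidHom (f (g11 0)) from rfl,
      orderOf_injective (MulAut.conj g).toMonoidHom (MulAut.conj g).injective, ho, orderOf_a]
  refine not_transitive ((H ⊓ H.map (MulAut.conj u).toMonoidHom).comap f) ?_ fun g => ?_
  · have e : Nat.card ((H ⊓ H.map (MulAut.conj u).toMonoidHom).comap f) =
        Nat.card ↥(H ⊓ H.map (MulAut.conj u).toMonoidHom) := by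
      rw [← Subgroup.card_map_of_injective hf,
        Subgroup.map_comap_eq_self (show H ⊓ H.map (MulAut.conj u).toMonoidHom ≤ f.range from inf_le_left)]
    rw [e]
    exact hse.2.2 u huH
  · have og : orderOf (g * g11 0 * g⁻¹) = 2 := by
      rw [show g * g11 0 * g⁻¹ = (MulAut.conj g).toMonoidHom (g11 0) from rfl,
        orderOf_injective (MulAut.conj g).toMonoidHom (MulAut.conj g).injective, orderOf_a]
    obtain ⟨⟨d, hd, e⟩, -⟩ := Cfsg.Agent.S1225.result H hse u hu huH (f (g11 0)) (f (g * g11 0 * g⁻¹))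
      (by rw [ho, orderOf_a]) htH (by rw [ho, og]) ⟨_, rfl⟩
    obtain ⟨d', rfl⟩ := (Subgroup.mem_inf.1 hd).1
    refine ⟨d', hd, hf ?_⟩
    simpa only [map_mul, map_inv] using e

/-- All involutions are conjugate. -/
theorem conj_involutions (f : Cfsg.Spor.Th →* G) (hf : Function.Injective f)
    (hC : Subgroup.centralizer ({f (g11 0)} : Set G) ≤ f.range) :
    ∀ x y : G, orderOf x = 2 → orderOf y = 2 → IsConj x y := by
  intro x y hx hy
  have h := range_eq_top f hf hC
  obtain ⟨a, rfl⟩ : x ∈ f.range := h ▸ Subgroup.mem_top x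
  obtain ⟨b, rfl⟩ : y ∈ f.range := h ▸ Subgroup.mem_top y
  rw [orderOf_injective f hf] at hx hy
  exact f.map_isConj (isConj_th hx hy)

end

end Cfsg.Agent.ThRec
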