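import Cfsg.Agent.Lib.ThRep.Sylow
import Mathlib.Data.Matrix.Mul

/-!
Certificates for the dimension of the fixed space of a packed matrix: with `A Y + L R = Y + 1` every
fixed vector is `(v L) R`, so it is determined by the rows of `R` that are not zero.
-/

set_option autoImplicit false
set_option maxRecDepth 20000

namespace Cfsg.Agent.ThRec

open Cfsg.Agent.ThRep Matrix

noncomputable section

/-- The sum. -/
def addP (A B : ℕ) : ℕ := reduce (Nat.add A B)

theorem addP_eq {A B : ℕ} (hA : matOK A = true) (hB : matOK B = true) :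
    addP A B = pk (fun q => (lane A q + lane B q) % 3) entries := by
  obtain ⟨hA1, hA2⟩ := matOK_spec hA
  obtain ⟨hB1, hB2⟩ := matOK_spec hB
  show reduce (A + B) = _
  conv_lhs => rw [eq_pk_lane hA1, eq_pk_lane hB1, pk_add]
  exact reduce_eq rfl fun q _ => by have := hA2 q; have := hB2 q; omega

theorem addP_matOK {A B : ℕ} (hA : matOK A = true) (hB : matOK B = true) : matOK (addP A B) = true := by
  rw [addP_eq hA hB]
  exact matOK_pk fun q _ => Nat.mod_lt _ (by norm_num)

theorem toM_addP {A B : ℕ} (hA : matOK A = true) (hB : matOK B = true) :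
    toM (addP A B) = toM A + toM B := by
  ext i j
  have hq : i.1 * 248 + j.1 < entries := by rw [entries_eq]; have := i.2; have := j.2; omega
  show (lane (addP A B) (i.1 * 248 + j.1) : ZMod 3) = (lane A _ : ZMod 3) + (lane B _ : ZMod 3)
  rw [addP_eq hA hB, lane_pk (fun q _ => (Nat.mod_lt _ (by norm_num : 3 > 0)).trans (by norm_num)) hq,
    ZMod.natCast_mod, Nat.cast_add]

/-- The check of the upper bound. -/
def boundOK (k A L R Y : ℕ) : Bool :=
  matOK A && matOK L && matOK R && matOK Y && Nat.beq (Nat.shiftRight R (Nat.mul 2480 k)) 0 &&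
    Nat.beq (addP (mulP A Y) (mulP L R)) (addP Y one)

/-- The check of the lower bound. -/
def basisOK (k A L R : ℕ) : Bool :=
  Nat.beq (mulP R A) R && allLt (fun r => Nat.beq (rowAt (mulP R L) r) (rowAt one r)) k

/-- The row vectors of length 248. -/
abbrev V248 : Type := Fin 248 → ZMod 3

/-- The fixed space. -/
def fixSpace (u : M248ˣ) : AddSubgroup V248 where
  carrier := {v | v ᵥ* (u : M248) = v}
  zero_mem' := Matrix.zero_vecMul _
  add_mem' {v w} hv hw := by
    show (v + w) ᵥ* _ = v + w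
    rw [Matrix.add_vecMul, hv, hw]
  neg_mem' {v} hv := by
    show (-v) ᵥ* _ = -v
    rw [Matrix.neg_vecMul, hv]

theorem mem_fixSpace {u : M248ˣ} {v : V248} : v ∈ fixSpace u ↔ v ᵥ* (u : M248) = v := Iff.rfl

variable {k A L R Y : ℕ} {u : M248ˣ}

theorem boundOK_spec (h : boundOK k A L R Y = true) :
    matOK A = true ∧ matOK L = true ∧ matOK R = true ∧ matOK Y = true ∧
      (∀ i j : Fin 248, k ≤ i.1 → toM R i j = 0) ∧ toM A * toM Y + toM L * toM R = toM Y + 1 := by
  simp only [boundOK, Bool.and_eq_true, Nat.beq_eq] at h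
  obtain ⟨⟨⟨⟨⟨hA, hL⟩, hR⟩, hY⟩, hz⟩, he⟩ := h
  refine ⟨hA, hL, hR, hY, ?_, ?_⟩
  · intro i j hi
    show (lane R (i.1 * 248 + j.1) : ZMod 3) = 0
    have hlt : R < 2 ^ (2480 * k) := by
      have : R >>> (2480 * k) = 0 := hz
      rw [Nat.shiftRight_eq_div_pow, Nat.div_eq_zero_iff] at this
      exact this.resolve_left (by positivity)
    rw [lane, Nat.div_eq_of_lt (lt_of_lt_of_le hlt (Nat.pow_le_pow_right (by norm_num) (by omega)))]
    simp
  · rw [← toM_mulP hA hY, ← toM_mulP hL hR, ← toM_addP (mulP_matOK hA hY) (mulP_matOK hL hR), he,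
      toM_addP hY one_matOK, toM_one]

theorem fix_eq (h : boundOK k A L R Y = true) (hM : IsMat A u) {v : V248} (hv : v ∈ fixSpace u) :
    v = (v ᵥ* toM L) ᵥ* toM R := by
  obtain ⟨-, -, -, -, -, he⟩ := boundOK_spec h
  have e := congrArg (fun X : M248 => v ᵥ* X) he
  simp only [Matrix.vecMul_add, Matrix.vecMul_one, ← Matrix.vecMul_vecMul] at e
  rw [hM.2, mem_fixSpace.1 hv] at e
  exact (add_left_cancel e).symm

theorem card_fixSpace_le (h : boundOK k A L R Y = true) (hk : k ≤ 248) (hM : IsMat A u) :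
    Nat.card (fixSpace u) ≤ 3 ^ k := by
  obtain ⟨-, -, -, -, hz, -⟩ := boundOK_spec h
  let ψ : fixSpace u → (Fin k → ZMod 3) := fun v r => (v.1 ᵥ* toM L) (Fin.castLE hk r)
  have hinj : Function.Injective ψ := by
    intro v w e
    apply Subtype.ext
    rw [fix_eq h hM v.2, fix_eq h hM w.2]
    funext j
    show ∑ r, (v.1 ᵥ* toM L) r * toM R r j = ∑ r, (w.1 ᵥ* toM L) r * toM R r j
    refine Finset.sum_congr rfl fun r _ => ?_
    by_cases hr : r.1 < k
    · have := congrFun e ⟨r.1, hr⟩
      simp only [ψ] at this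
      exact congrArg (· * _) this
    · rw [hz r j (not_lt.1 hr), mul_zero, mul_zero]
  have := Nat.card_le_card_of_injective ψ hinj
  simpa using this

theorem card_fixSpace_ge (h : boundOK k A L R Y = true) (hb : basisOK k A L R = true) (hk : k ≤ 248)
    (hM : IsMat A u) : 3 ^ k ≤ Nat.card (fixSpace u) := by
  obtain ⟨hA, hL, hR, -, -, -⟩ := boundOK_spec h
  rw [basisOK, Bool.and_eq_true, Nat.beq_eq] at hb
  obtain ⟨h1, h2⟩ := hb
  have e1 : toM R * (u : M248) = toM R := by rw [← hM.2, ← toM_mulP hR hA, h1]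
  have e2 : ∀ r : Fin 248, r.1 < k → (toM R * toM L) r = (1 : M248) r := by
    intro r hr
    have := allLt_spec h2 r.1 hr
    rw [Nat.beq_eq, rowAt_iff (mulP_matOK hR hL) one_matOK r r, toM_mulP hR hL, toM_one] at this
    exact this
  let up : (Fin k → ZMod 3) → V248 := fun c r => if hr : r.1 < k then c ⟨r.1, hr⟩ else 0
  have hmem : ∀ c, up c ᵥ* toM R ∈ fixSpace u := fun c => by rw [mem_fixSpace, Matrix.vecMul_vecMul, e1]
  have key : ∀ c, (up c ᵥ* toM R) ᵥ* toM L = up c := by
    intro c
    rw [Matrix.vecMul_vecMul]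
    conv_rhs => rw [← Matrix.vecMul_one (up c)]
    funext j
    show ∑ r, up c r * (toM R * toM L) r j = ∑ r, up c r * (1 : M248) r j
    refine Finset.sum_congr rfl fun r _ => ?_
    by_cases hr : r.1 < k
    · rw [e2 r hr]
    · simp [up, dif_neg hr]
  have hup : ∀ c d, up c = up d → c = d := by
    intro c d e
    funext r
    have := congrFun e (Fin.castLE hk r)
    simpa [up] using this
  clear_value up
  have := Nat.card_le_card_of_injective (fun c => (⟨up c ᵥ* toM R, hmem c⟩ : fixSpace u)) fun c d e => by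
    refine hup c d ?_
    rw [← key c, ← key d]
    rw [Subtype.mk.injEq] at e
    rw [e]
  simpa using this

end

end Cfsg.Agent.ThRec
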