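import Cfsg.Agent.Lib.ThRec.ModuleLin

/-!
Seven operators with `x^2 = x + 1` and `x y + y x = 1 + x + y` in characteristic two act as on the spin
module: the sums of one with the other six generate a Clifford algebra.
-/

set_option autoImplicit false
set_option maxRecDepth 100000

namespace Cfsg.Agent.ThRec.Eight

variable {R : Type*} [Ring R]

/-- A scalar. -/
def bit (b : Bool) : R := cond b 1 0

/-- The parity of the first bits. -/
def par : ℕ → ℕ → Bool
  | 0, _ => false
  | n + 1, d => odd d ^^ par n (Nat.div d 2)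

/-- The polar form of a sum of anticommuting square roots of one. -/
def bf : ℕ → ℕ → ℕ → Bool
  | 0, _, _ => false
  | n + 1, c, d => ((odd c && par n (Nat.div d 2)) ^^ (odd d && par n (Nat.div c 2))) ^^
      bf n (Nat.div c 2) (Nat.div d 2)

/-- The square of such a sum. -/
def qf : ℕ → ℕ → Bool
  | 0, _ => false
  | n + 1, c => (odd c ^^ (odd c && par n (Nat.div c 2))) ^^ qf n (Nat.div c 2)

theorem bit_xor (h2 : ∀ x : R, x + x = 0) (a b : Bool) : (bit (a ^^ b) : R) = bit a + bit b := by
  cases a <;> cases b <;> simp [bit, h2]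

theorem bit_mul (b : Bool) (x : R) : cond b x 0 = bit b * x := by cases b <;> simp [bit]

theorem bit_and (a b : Bool) : (bit (a && b) : R) = bit a * bit b := by cases a <;> cases b <;> simp [bit]

theorem bit_sq (a : Bool) : (bit a * bit a : R) = bit a := by cases a <;> simp [bit]

theorem bit_comm (a : Bool) (x : R) : x * bit a = bit a * x := by cases a <;> simp [bit]

theorem comm_lin {t : R} (h2 : ∀ x : R, x + x = 0) : ∀ (L : List R), (∀ g ∈ L, t * g + g * t = 1) →
    ∀ d, t * lin L d + lin L d * t = bit (par L.length d)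
  | [], _, d => by simp [lin, par, bit]
  | g :: L, h, d => by
    have ih := comm_lin h2 L (fun x hx => h x (List.mem_cons_of_mem _ hx)) (d / 2)
    have hg := h g List.mem_cons_self
    rw [lin_cons, List.length_cons, par, bit_xor h2, bit_mul]
    show _ = bit (odd d) + bit (par L.length (d / 2))
    rw [← ih]
    calc _ = bit (odd d) * (t * g + g * t) + (t * lin L (d / 2) + lin L (d / 2) * t) := by
          rw [mul_add t, add_mul, mul_add (bit (odd d)), ← mul_assoc t, bit_comm (odd d) t]
          simp only [mul_assoc]; abel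
      _ = _ := by rw [hg, mul_one]

theorem anti_lin (h2 : ∀ x : R, x + x = 0) : ∀ (L : List R), L.Pairwise (fun g k => g * k + k * g = 1) →
    ∀ c d, lin L c * lin L d + lin L d * lin L c = bit (bf L.length c d)
  | [], _, c, d => by simp [lin, bf, bit]
  | g :: L, h, c, d => by
    rw [List.pairwise_cons] at h
    have ih := anti_lin h2 L h.2 (c / 2) (d / 2)
    have hc := comm_lin (t := g) h2 L h.1 (c / 2)
    have hd := comm_lin (t := g) h2 L h.1 (d / 2)
    rw [lin_cons, lin_cons, List.length_cons, bf, bit_xor h2, bit_xor h2, bit_and, bit_and]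
    show _ = bit (odd c) * bit (par L.length (d / 2)) + bit (odd d) * bit (par L.length (c / 2)) +
      bit (bf L.length (c / 2) (d / 2))
    rw [← ih, ← hc, ← hd]
    cases odd c <;> cases odd d <;> simp only [bit, cond_true, cond_false, one_mul, zero_mul, zero_add, add_zero]
    · simp only [mul_add, add_mul]; abel
    · simp only [mul_add, add_mul]; abel
    · calc _ = (g * g + g * g) + (g * lin L (d / 2) + lin L (d / 2) * g + (g * lin L (c / 2) +
            lin L (c / 2) * g) + (lin L (c / 2) * lin L (d / 2) + lin L (d / 2) * lin L (c / 2))) := by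
            simp only [mul_add, add_mul]; abel
        _ = _ := by rw [h2, zero_add]

theorem sq_lin (h2 : ∀ x : R, x + x = 0) : ∀ (L : List R), L.Pairwise (fun g k => g * k + k * g = 1) →
    (∀ g ∈ L, g * g = 1) → ∀ c, lin L c * lin L c = bit (qf L.length c)
  | [], _, _, c => by simp [lin, qf, bit]
  | g :: L, h, hs, c => by
    rw [List.pairwise_cons] at h
    have ih := sq_lin h2 L h.2 (fun x hx => hs x (List.mem_cons_of_mem _ hx)) (c / 2)
    have hc := comm_lin (t := g) h2 L h.1 (c / 2)
    rw [lin_cons, List.length_cons, qf, bit_xor h2, bit_xor h2, bit_and]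
    show _ = bit (odd c) + bit (odd c) * bit (par L.length (c / 2)) + bit (qf L.length (c / 2))
    rw [← ih, ← hc]
    cases odd c <;> simp only [bit, cond_true, cond_false, one_mul, zero_mul, zero_add]
    rw [← hs g List.mem_cons_self]
    simp only [mul_add, add_mul]
    abel

/-- A list of anticommutation values. -/
theorem shift_lin {t : R} (h2 : ∀ x : R, x + x = 0) : ∀ (L : List R), (∀ g ∈ L, t * g + g * t = 1 + g) →
    ∀ d, t * lin L d + lin L d * t = bit (par L.length d) + lin L d
  | [], _, d => by simp [lin, par, bit]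
  | g :: L, h, d => by
    have ih := shift_lin h2 L (fun x hx => h x (List.mem_cons_of_mem _ hx)) (d / 2)
    have hg := h g List.mem_cons_self
    rw [lin_cons, List.length_cons, par, bit_xor h2, bit_mul]
    show _ = bit (odd d) + bit (par L.length (d / 2)) + _
    calc _ = bit (odd d) * (t * g + g * t) + (t * lin L (d / 2) + lin L (d / 2) * t) := by
          rw [mul_add t, add_mul, mul_add (bit (odd d)), ← mul_assoc t, bit_comm (odd d) t]
          simp only [mul_assoc]; abel
      _ = _ := by rw [hg, ih, mul_add, mul_one]; abel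

section Action

variable {V : Type*} [AddCommGroup V]

theorem end_two (h2 : ∀ x : V, x + x = 0) (r : AddMonoid.End V) : r + r = 0 :=
  AddMonoidHom.ext fun x => h2 (r x)

/-- The six generators. -/
def vgen (X : ℕ → AddMonoid.End V) : List (AddMonoid.End V) :=
  (List.range 6).map fun i => X (i + 1) + X 0

theorem data_ok :
    ([(eS.getD 0 0), (eS.getD 1 0), (eS.getD 2 0), (fS.getD 0 0), (fS.getD 1 0), (fS.getD 2 0)].map (qf 6) =
      [false, false, false, false, false, false]) ∧
    ((List.range 6).all fun i => (List.range 6).all fun j =>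
      bf 6 ((eS ++ fS).getD i 0) ((eS ++ fS).getD j 0) == (Nat.beq (i + 3) j || Nat.beq (j + 3) i)) = true ∧
    ((List.range 6).all fun i => Nat.beq (ap (eS ++ fS) (vS.getD i 0)) (2 ^ i)) = true ∧
    ((List.range 6).all fun i => allV fun m =>
      Nat.beq (ap ((eM ++ fM).map fun M => ap M m) (vS.getD i 0)) (ap (vMat.getD i []) m)) = true := by
  decide +kernel

/-- A vector killed by the three commuting nilpotents reaches the top. -/
theorem top_ok : allV (fun m => Nat.beq m 0 || (List.range 8).any fun S =>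
    Nat.beq 1 ((List.range 3).foldl (fun v k => cond (odd (Nat.shiftRight S k)) (ap (eM.getD k []) v) v) m))
    = true := by decide +kernel

theorem col_ok : allV (fun c => !((List.range 3).all fun k =>
    Nat.beq (ap (eM.getD k []) c) (cond (par 6 (eS.getD k 0)) 1 0)) || Nat.beq c 6 || Nat.beq c 7) = true ∧
    (xA.getD 0 0 = 6 ∧ xB.getD 0 0 = 7) ∧
    ([xA, xB].all fun T => (List.range 7).all fun S' =>
      let S := S' + 1
      let k := Nat.log2 S
      let W := S - 2 ^ k
      Nat.beq (T.getD S 0) (Nat.xor (Nat.xor (ap (fM.getD k []) (T.getD W 0))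
        (cond (par 6 (fS.getD k 0)) (2 ^ W) 0)) (2 ^ S))) = true ∧
    allV (fun m => Nat.beq (Nat.xor (ap xB m) m) (ap xA m)) = true := by decide +kernel

theorem sx_ok : ((List.range 6).all fun i => allV fun m =>
    Nat.beq (ap (gen sX (i + 1)) m) (Nat.xor (ap (vMat.getD i []) m) (ap xA m))) = true ∧
    allV (fun m => Nat.beq (ap (gen sX 0) m) (ap xA m)) = true := by decide +kernel

variable {X : ℕ → AddMonoid.End V}

theorem vgen_rel (h2 : ∀ x : V, x + x = 0) (hsq : ∀ i < 7, X i * X i = X i + 1)
    (hanti : ∀ i < 7, ∀ j < 7, i ≠ j → X i * X j + X j * X i = 1 + X i + X j) :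
    (vgen X).Pairwise (fun g k => g * k + k * g = 1) ∧ (∀ g ∈ vgen X, g * g = 1) ∧
      ∀ g ∈ vgen X, X 0 * g + g * X 0 = 1 + g := by
  have e2 := end_two h2
  refine ⟨?_, ?_, ?_⟩
  · rw [vgen, List.pairwise_map]
    refine List.Pairwise.imp_of_mem (fun {i j} hi hj hij => ?_) (List.nodup_range (n := 6))
    rw [List.mem_range] at hi hj
    have a := hanti (i + 1) (by omega) (j + 1) (by omega) (by omega)
    have b := hanti (i + 1) (by omega) 0 (by omega) (by omega)
    have c := hanti 0 (by omega) (j + 1) (by omega) (by omega)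
    have d := hsq 0 (by omega)
    calc (X (i + 1) + X 0) * (X (j + 1) + X 0) + (X (j + 1) + X 0) * (X (i + 1) + X 0)
        = (X (i + 1) * X (j + 1) + X (j + 1) * X (i + 1)) + (X (i + 1) * X 0 + X 0 * X (i + 1)) +
          (X 0 * X (j + 1) + X (j + 1) * X 0) + (X 0 * X 0 + X 0 * X 0) := by
          simp only [mul_add, add_mul]; abel
      _ = 1 + ((X (i + 1) + X (i + 1)) + (X 0 + X 0) + (X (j + 1) + X (j + 1)) + (1 + 1)) := by
          rw [a, b, c, e2 (X 0 * X 0)]; abel
      _ = 1 := by simp only [e2, add_zero]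
  · intro g hg
    obtain ⟨i, hi, rfl⟩ := List.mem_map.1 hg
    rw [List.mem_range] at hi
    have a := hanti (i + 1) (by omega) 0 (by omega) (by omega)
    calc (X (i + 1) + X 0) * (X (i + 1) + X 0)
        = X (i + 1) * X (i + 1) + (X (i + 1) * X 0 + X 0 * X (i + 1)) + X 0 * X 0 := by
          simp only [mul_add, add_mul]; abel
      _ = 1 + ((X (i + 1) + X (i + 1)) + (X 0 + X 0) + (1 + 1)) := by
          rw [hsq (i + 1) (by omega), hsq 0 (by omega), a]; abel
      _ = 1 := by simp only [e2, add_zero]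
  · intro g hg
    obtain ⟨i, hi, rfl⟩ := List.mem_map.1 hg
    rw [List.mem_range] at hi
    have a := hanti 0 (by omega) (i + 1) (by omega) (by omega)
    calc X 0 * (X (i + 1) + X 0) + (X (i + 1) + X 0) * X 0
        = (X 0 * X (i + 1) + X (i + 1) * X 0) + (X 0 * X 0 + X 0 * X 0) := by
          simp only [mul_add, add_mul]; abel
      _ = _ := by rw [a, e2 (X 0 * X 0)]; abel

/-- **The spin basis.** -/
theorem spin (h2 : ∀ x : V, x + x = 0) [Nontrivial V] (hsq : ∀ i < 7, X i * X i = X i + 1)
    (hanti : ∀ i < 7, ∀ j < 7, i ≠ j → X i * X j + X j * X i = 1 + X i + X j) :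
    ∃ L : List V, (∀ m < 256, lin L m = 0 → m = 0) ∧
      ((∀ z, ∃ m < 256, z = lin L m) →
        ((∀ i < 7, ∀ m < 256, X i (lin L m) = lin L (ap (gen sX i) m)) ∨
         (∀ i < 7, ∀ m < 256, X i (X i (lin L m)) = lin L (ap (gen sX i) m)))) := by
  have e2 := end_two h2
  obtain ⟨hpw, hsqv, hsh⟩ := vgen_rel h2 hsq hanti
  obtain ⟨dq, db, dv, dm⟩ := data_ok
  have hlen : (vgen X).length = 6 := by simp [vgen]
  set E : ℕ → AddMonoid.End V := fun i => lin (vgen X) ((eS ++ fS).getD i 0) with hE
  have hsq0 : ∀ i < 6, E i * E i = 0 := fun i hi => by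
    rw [hE, sq_lin e2 _ hpw hsqv, hlen]
    have : qf 6 ((eS ++ fS).getD i 0) = false := by
      have key : ∀ i : Fin 6, qf 6 ((eS ++ fS).getD i.val 0) = false := by decide +kernel
      exact key ⟨i, hi⟩
    rw [this]; rfl
  have hpair : ∀ i < 6, ∀ j < 6, E i * E j + E j * E i =
      bit (Nat.beq (i + 3) j || Nat.beq (j + 3) i) := fun i hi j hj => by
    rw [hE, anti_lin e2 _ hpw, hlen]
    congr 1
    exact beq_iff_eq.1 (List.all_eq_true.1 (List.all_eq_true.1 db i (List.mem_range.2 hi)) j
      (List.mem_range.2 hj))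
  have hcomm : ∀ i < 6, ∀ j < 6, (Nat.beq (i + 3) j || Nat.beq (j + 3) i) = false →
      ∀ w, E i (E j w) = E j (E i w) := fun i hi j hj hf w => by
    have := congrArg (fun r : AddMonoid.End V => r w) (hpair i hi j hj)
    rw [hf] at this
    have h0 : E i (E j w) + E j (E i w) = 0 := this
    calc E i (E j w) = E i (E j w) + (E j (E i w) + E j (E i w)) := by rw [h2, add_zero]
      _ = _ := by rw [← add_assoc, h0, zero_add]
  have hkk : ∀ i < 6, ∀ w, E i (E i w) = 0 := fun i hi w =>
    congrArg (fun r : AddMonoid.End V => r w) (hsq0 i hi)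
  have hef : ∀ k < 3, ∀ w, E k (E (k + 3) w) = w + E (k + 3) (E k w) := fun k hk w => by
    have := congrArg (fun r : AddMonoid.End V => r w) (hpair k (by omega) (k + 3) (by omega))
    rw [show Nat.beq (k + 3) (k + 3) = true from Nat.beq_refl _, Bool.true_or] at this
    have h0 : E k (E (k + 3) w) + E (k + 3) (E k w) = w := this
    calc E k (E (k + 3) w) = E k (E (k + 3) w) + (E (k + 3) (E k w) + E (k + 3) (E k w)) := by
          rw [h2, add_zero]
      _ = _ := by rw [← add_assoc, h0]
  obtain ⟨u, hu, hu0, hu1, hu2⟩ : ∃ u : V, u ≠ 0 ∧ E 0 u = 0 ∧ E 1 u = 0 ∧ E 2 u = 0 := by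
    obtain ⟨a, ha⟩ := exists_ne (0 : V)
    obtain ⟨b, hb, hb0⟩ : ∃ b : V, b ≠ 0 ∧ E 0 b = 0 := by
      by_cases e : E 0 a = 0
      · exact ⟨a, ha, e⟩
      · exact ⟨_, e, hkk 0 (by omega) a⟩
    obtain ⟨c, hc, hc0, hc1⟩ : ∃ c : V, c ≠ 0 ∧ E 0 c = 0 ∧ E 1 c = 0 := by
      by_cases e : E 1 b = 0
      · exact ⟨b, hb, hb0, e⟩
      · refine ⟨_, e, ?_, hkk 1 (by omega) b⟩
        rw [hcomm 0 (by omega) 1 (by omega) rfl, hb0, map_zero]
    by_cases e : E 2 c = 0
    · exact ⟨c, hc, hc0, hc1, e⟩
    · refine ⟨_, e, ?_, ?_, hkk 2 (by omega) c⟩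
      · rw [hcomm 0 (by omega) 2 (by omega) rfl, hc0, map_zero]
      · rw [hcomm 1 (by omega) 2 (by omega) rfl, hc1, map_zero]
  set L : List V := [u, E 3 u, E 4 u, E 4 (E 3 u), E 5 u, E 5 (E 3 u), E 5 (E 4 u), E 5 (E 4 (E 3 u))] with hL
  have hlin0 : lin L 0 = 0 := lin_zero L
  have hadd := lin_xor h2 L
  have hop : ∀ k < 6, ∀ m, E k (lin L m) = lin L (ap ((eM ++ fM).getD k []) m) := by
    intro k hk m
    refine (map_lin (E k : V →+ V) L m).trans ?_
    rw [lin_ap (f := lin L) hlin0 hadd]
    congr 1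
    have c34 := hcomm 3 (by omega) 4 (by omega) rfl
    have c35 := hcomm 3 (by omega) 5 (by omega) rfl
    have c45 := hcomm 4 (by omega) 5 (by omega) rfl
    have c04 := hcomm 0 (by omega) 4 (by omega) rfl
    have c05 := hcomm 0 (by omega) 5 (by omega) rfl
    have c13 := hcomm 1 (by omega) 3 (by omega) rfl
    have c15 := hcomm 1 (by omega) 5 (by omega) rfl
    have c23 := hcomm 2 (by omega) 3 (by omega) rfl
    have c24 := hcomm 2 (by omega) 4 (by omega) rfl
    have a0 : ∀ w, E 0 (E 3 w) = w + E 3 (E 0 w) := hef 0 (by omega)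
    have a1 : ∀ w, E 1 (E 4 w) = w + E 4 (E 1 w) := hef 1 (by omega)
    have a2 : ∀ w, E 2 (E 5 w) = w + E 5 (E 2 w) := hef 2 (by omega)
    have k3 := hkk 3 (by omega)
    have k4 := hkk 4 (by omega)
    have k5 := hkk 5 (by omega)
    have g0 : lin L 1 = u := lin_two_pow L 0
    have g1 : lin L 2 = E 3 u := lin_two_pow L 1
    have g2 : lin L 4 = E 4 u := lin_two_pow L 2
    have g3 : lin L 8 = E 4 (E 3 u) := lin_two_pow L 3
    have g4 : lin L 16 = E 5 u := lin_two_pow L 4
    have g5 : lin L 32 = E 5 (E 3 u) := lin_two_pow L 5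
    have g6 : lin L 64 = E 5 (E 4 u) := lin_two_pow L 6
    have g7 : lin L 128 = E 5 (E 4 (E 3 u)) := lin_two_pow L 7
    change L.map (fun z => E k z) = _
    conv_lhs => rw [hL]
    interval_cases k <;>
      simp [eM, fM, hlin0, g0, g1, g2, g3, g4, g5, g6, g7, c34, c35, c45, c04, c05, c13, c15, c23, c24, a0, a1,
        a2, k3, k4, k5, hu0, hu1, hu2]
  have hinj : ∀ m < 256, lin L m = 0 → m = 0 := by
    intro m hm h0
    by_contra hne
    have := allV_spec top_ok hm
    rw [show Nat.beq m 0 = false by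
      rw [← Bool.not_eq_true]; exact fun e => hne (Nat.eq_of_beq_eq_true e), Bool.false_or] at this
    obtain ⟨S, -, hS⟩ := List.any_eq_true.1 this
    have key : ∀ (ks : List ℕ) (v : ℕ), (∀ k ∈ ks, k < 3) → lin L v = 0 →
        lin L (ks.foldl (fun v k => cond (odd (Nat.shiftRight S k)) (ap (eM.getD k []) v) v) v) = 0 := by
      intro ks
      induction ks with
      | nil => exact fun v _ h => h
      | cons k ks ih =>
        intro v hks hv
        refine ih _ (fun j hj => hks j (List.mem_cons_of_mem _ hj)) ?_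
        show lin L (cond (odd (Nat.shiftRight S k)) (ap (eM.getD k []) v) v) = 0
        cases odd (Nat.shiftRight S k)
        · exact hv
        · have hk := hks k List.mem_cons_self
          have := hop k (by omega) v
          rw [hv, map_zero, List.getD_append _ _ _ _ (by simp [eM]; omega)] at this
          exact this.symm
    have h1 := key (List.range 3) m (fun k hk => List.mem_range.1 hk) h0
    rw [← Nat.eq_of_beq_eq_true hS] at h1
    exact hu ((lin_two_pow L 0).symm.trans h1)
  refine ⟨L, hinj, fun hsurj => ?_⟩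
  have hinj2 : ∀ m < 256, ∀ n < 256, lin L m = lin L n → m = n := fun m hm n hn e => by
    have := hinj _ (xor_lt hm hn) (by rw [hadd, e, h2])
    exact Nat.xor_eq_zero_iff.1 this
  have hX0 : ∀ k < 6, ∀ w, X 0 (E k w) =
      E k (X 0 w) + (bit (par 6 ((eS ++ fS).getD k 0)) : AddMonoid.End V) w + E k w := fun k hk w => by
    have := congrArg (fun r : AddMonoid.End V => r w) (shift_lin (t := X 0) e2 (vgen X) hsh ((eS ++ fS).getD k 0))
    rw [hlen] at this
    change X 0 (E k w) + E k (X 0 w) = (bit (par 6 ((eS ++ fS).getD k 0)) : AddMonoid.End V) w + E k w at this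
    calc X 0 (E k w) = X 0 (E k w) + (E k (X 0 w) + E k (X 0 w)) := by rw [h2, add_zero]
      _ = _ := by rw [← add_assoc, this]; abel
  have hbit : ∀ (b : Bool) (W : ℕ), (bit b : AddMonoid.End V) (lin L W) = lin L (cond b W 0) := fun b W => by
    cases b
    · exact hlin0.symm
    · rfl
  obtain ⟨c, hc, hxc⟩ := hsurj (X 0 u)
  have hu' : lin L 1 = u := lin_two_pow L 0
  have hT : ∃ T, (T = xA ∨ T = xB) ∧ c = T.getD 0 0 := by
    have hk : ∀ k < 3, ap (eM.getD k []) c = cond (par 6 (eS.getD k 0)) 1 0 := by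
      intro k hk
      have hlt : ap (eM.getD k []) c < 256 := ap_lt (n := 8) (fun d hd => by
        have key : ∀ k : Fin 3, ∀ d ∈ eM.getD k.val [], d < 2 ^ 8 := by decide +kernel
        exact key ⟨k, hk⟩ d hd) c
      refine hinj2 _ hlt _ (by cases par 6 (eS.getD k 0) <;> simp) ?_
      have := hop k (by omega) c
      rw [← hxc, List.getD_append _ _ _ _ (by simp [eM]; omega)] at this
      rw [← this]
      have h := hX0 k (by omega) u
      have hek : E k u = 0 := by interval_cases k <;> assumption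
      rw [hek, map_zero, add_zero, List.getD_append _ _ _ _ (by simp [eS]; omega), ← hu', hbit, hu'] at h
      calc E k (X 0 u) = E k (X 0 u) +
            (lin L (cond (par 6 (eS.getD k 0)) 1 0) + lin L (cond (par 6 (eS.getD k 0)) 1 0)) := by
              rw [h2, add_zero]
        _ = _ := by rw [← add_assoc, ← h, zero_add]
    have := allV_spec col_ok.1 hc
    rw [show ((List.range 3).all fun k => Nat.beq (ap (eM.getD k []) c) (cond (par 6 (eS.getD k 0)) 1 0)) = true from
      List.all_eq_true.2 fun k hk' => by rw [hk k (List.mem_range.1 hk')]; exact Nat.beq_refl _,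
      Bool.not_true, Bool.false_or, Bool.or_eq_true] at this
    rcases this with e | e
    · exact ⟨xA, Or.inl rfl, by rw [col_ok.2.1.1]; exact Nat.eq_of_beq_eq_true e⟩
    · exact ⟨xB, Or.inr rfl, by rw [col_ok.2.1.2]; exact Nat.eq_of_beq_eq_true e⟩
  obtain ⟨T, hT, rfl⟩ := hT
  have hcol : ∀ S < 8, X 0 (lin L (2 ^ S)) = lin L (T.getD S 0) := by
    have hstep : ∀ S' < 7, ∀ k W, k < 3 → Nat.log2 (S' + 1) = k → S' + 1 - 2 ^ k = W →
        E (k + 3) (lin L (2 ^ W)) = lin L (2 ^ (S' + 1)) → X 0 (lin L (2 ^ W)) = lin L (T.getD W 0) →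
        X 0 (lin L (2 ^ (S' + 1))) = lin L (T.getD (S' + 1) 0) := by
      intro S' hS' k W hk hlog hW hE' hih
      have hrec := List.all_eq_true.1 (List.all_eq_true.1 col_ok.2.2.1 T (by rcases hT with rfl | rfl <;> simp))
        S' (List.mem_range.2 hS')
      simp only [hlog, hW] at hrec
      rw [← hE', hX0 (k + 3) (by omega), hih, hop (k + 3) (by omega), hbit, hE',
        List.getD_append_right _ _ _ _ (by simp [eM]), List.getD_append_right _ _ _ _ (by simp [eS]),
        ← hadd, ← hadd]
      congr 1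
      simp only [eM, eS, List.length_cons, List.length_nil, Nat.add_sub_cancel]
      exact (Nat.eq_of_beq_eq_true hrec).symm
    have h0 : X 0 (lin L (2 ^ 0)) = lin L (T.getD 0 0) := by rw [pow_zero, hu']; exact hxc
    have hE' : ∀ k < 3, ∀ W, W < 2 ^ k → E (k + 3) (lin L (2 ^ W)) = lin L (2 ^ (W + 2 ^ k)) := by
      intro k hk W hW
      rw [hop (k + 3) (by omega)]
      congr 1
      interval_cases k <;> interval_cases W <;> rfl
    have h1 := hstep 0 (by omega) 0 0 (by omega) rfl rfl (hE' 0 (by omega) 0 (by omega)) h0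
    have h2' := hstep 1 (by omega) 1 0 (by omega) rfl rfl (hE' 1 (by omega) 0 (by omega)) h0
    have h3 := hstep 2 (by omega) 1 1 (by omega) rfl rfl (hE' 1 (by omega) 1 (by omega)) h1
    have h4 := hstep 3 (by omega) 2 0 (by omega) rfl rfl (hE' 2 (by omega) 0 (by omega)) h0
    have h5 := hstep 4 (by omega) 2 1 (by omega) rfl rfl (hE' 2 (by omega) 1 (by omega)) h1
    have h6 := hstep 5 (by omega) 2 2 (by omega) rfl rfl (hE' 2 (by omega) 2 (by omega)) h2'
    have h7 := hstep 6 (by omega) 2 3 (by omega) rfl rfl (hE' 2 (by omega) 3 (by omega)) h3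
    intro S hS
    interval_cases S <;> assumption
  have hx : ∀ m, X 0 (lin L m) = lin L (ap T m) := fun m => by
    refine (map_lin (X 0 : V →+ V) L m).trans ?_
    rw [lin_ap (f := lin L) hlin0 hadd]
    congr 1
    have hT8 : T.length = 8 := by rcases hT with rfl | rfl <;> rfl
    refine List.ext_getElem (by simp [hL, hT8]) fun S hS hS' => ?_
    simp only [List.getElem_map]
    rw [List.length_map] at hS hS'
    have := hcol S (hT8 ▸ hS')
    rw [List.getD_eq_getElem _ _ hS'] at this
    refine Eq.trans ?_ this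
    rw [lin_two_pow, List.getD_eq_getElem _ _ hS]; rfl
  have hv : ∀ i < 6, ∀ m < 256, (X (i + 1) + X 0) (lin L m) = lin L (ap (vMat.getD i []) m) := by
    intro i hi m hm
    have e1 : X (i + 1) + X 0 = lin ((eS ++ fS).map (lin (vgen X))) (vS.getD i 0) := by
      rw [← lin_ap (f := lin (vgen X)) (lin_zero _) (lin_xor e2 _),
        Nat.eq_of_beq_eq_true (List.all_eq_true.1 dv i (List.mem_range.2 hi))]
      rw [lin_two_pow]
      interval_cases i <;> rfl
    have e3 := map_lin (AddMonoidHom.eval (lin L m) : (V →+ V) →+ V) ((eS ++ fS).map (lin (vgen X))) (vS.getD i 0)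
    rw [e1]
    refine e3.trans ?_
    rw [List.map_map, ← Nat.eq_of_beq_eq_true (allV_spec (List.all_eq_true.1 dm i (List.mem_range.2 hi)) hm),
      lin_ap (f := lin L) hlin0 hadd, List.map_map]
    congr 1
    refine List.ext_getElem (by rfl) fun k h1 h2 => ?_
    simp only [List.getElem_map, Function.comp]
    rw [List.length_map] at h1 h2
    have := hop k (by simpa [eM, fM] using h2) m
    rw [List.getD_eq_getElem _ _ h2] at this
    refine Eq.trans ?_ this
    rw [hE]
    simp only [List.getD_eq_getElem _ _ h1]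
    rfl
  rcases hT with rfl | rfl
  · left
    intro i hi m hm
    rcases i with _ | i
    · rw [Nat.eq_of_beq_eq_true (allV_spec sx_ok.2 hm)]; exact hx m
    · rw [Nat.eq_of_beq_eq_true (allV_spec (List.all_eq_true.1 sx_ok.1 i (List.mem_range.2 (by omega))) hm),
        show Nat.xor (ap (vMat.getD i []) m) (ap xA m) = ap (vMat.getD i []) m ^^^ ap xA m from rfl, hadd,
        ← hv i (by omega) m hm, ← hx m]
      show _ = X (i + 1) (lin L m) + X 0 (lin L m) + X 0 (lin L m)
      rw [add_assoc, h2, add_zero]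
  · right
    intro i hi m hm
    have hxx : X i (X i (lin L m)) = X i (lin L m) + lin L m :=
      congrArg (fun r : AddMonoid.End V => r (lin L m)) (hsq i hi)
    rw [hxx]
    have hA : lin L (ap xA m) = X 0 (lin L m) + lin L m := by
      rw [← Nat.eq_of_beq_eq_true (allV_spec col_ok.2.2.2 hm),
        show Nat.xor (ap xB m) m = ap xB m ^^^ m from rfl, hadd, ← hx m]
    rcases i with _ | i
    · rw [Nat.eq_of_beq_eq_true (allV_spec sx_ok.2 hm), hA]
    · rw [Nat.eq_of_beq_eq_true (allV_spec (List.all_eq_true.1 sx_ok.1 i (List.mem_range.2 (by omega))) hm),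
        show Nat.xor (ap (vMat.getD i []) m) (ap xA m) = ap (vMat.getD i []) m ^^^ ap xA m from rfl, hadd,
        ← hv i (by omega) m hm, hA]
      show _ = X (i + 1) (lin L m) + X 0 (lin L m) + (X 0 (lin L m) + lin L m)
      rw [← add_assoc, add_assoc (X (i + 1) (lin L m)), h2, add_zero]

end Action

end Cfsg.Agent.ThRec.Eight
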