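import Cfsg.Agent.Lib.ThRec.ModulePerm
import Cfsg.Agent.Lib.ThRec.ModuleSpin

/-!
A nontrivial action of the alternating group of degree nine on a group of order 256 of exponent two is the
spin module, possibly twisted by a transposition, or the permutation module.
-/

set_option autoImplicit false
set_option maxRecDepth 100000

namespace Cfsg.Agent.ThRec.Eight

open Equiv

namespace Rep

variable {V : Type*} [AddCommGroup V] (r : Rep V)

theorem words_fix {v : V} (h : ∀ i < 7, r.R (cx i) v = v) : ∀ w, r.R (permW w) v = v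
  | [] => by rw [permW, r.one]; rfl
  | i :: w => by
    rw [permW, r.mul_apply (sign_cx i) (sign_permW w), words_fix h w]
    have : cx i = cx (i % 7) := by simp [cx, third]
    rw [this]
    exact h _ (Nat.mod_lt _ (by norm_num))

theorem triple_fix {v : V} (h : ∀ i < 7, r.R (cx i) v = v) {g : Perm (Fin 9)} (hg : Perm.sign g = 1) :
    r.R g v = v := by
  obtain ⟨w, rfl⟩ := exists_word hg
  exact r.words_fix h w

theorem cx_eq (i : ℕ) : cx i = cy 0 1 (third i) := rfl

theorem third_ne (i : ℕ) : (0 : Fin 9) ≠ 1 ∧ (1 : Fin 9) ≠ third i ∧ (0 : Fin 9) ≠ third i := by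
  refine ⟨by decide, fun h => ?_, fun h => ?_⟩ <;> · have := congrArg Fin.val h; simp [third] at this

theorem prod_triple (i j : Fin 7) (h : i ≠ j) :
    ∃ a b c : Fin 9, a ≠ b ∧ b ≠ c ∧ a ≠ c ∧ cx i.val * cx j.val * cx j.val = cy a b c := by
  have key : ((List.finRange 7).all fun i => (List.finRange 7).all fun j => decide (i = j) ||
      (List.finRange 9).any fun a => (List.finRange 9).any fun b => (List.finRange 9).any fun c =>
        !(decide (a = b)) && !(decide (b = c)) && !(decide (a = c)) &&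
          (List.finRange 9).all fun x => decide ((cx i.val * cx j.val * cx j.val) x = cy a b c x)) = true := by
    decide +kernel
  have := List.all_eq_true.1 (List.all_eq_true.1 key i (List.mem_finRange i)) j (List.mem_finRange j)
  simp only [h, decide_false, Bool.false_or, List.any_eq_true, Bool.and_eq_true, Bool.not_eq_true',
    decide_eq_false_iff_not, List.all_eq_true, decide_eq_true_eq, List.mem_finRange, forall_const,
    true_and] at this
  obtain ⟨a, b, c, ⟨⟨h1, h2⟩, h3⟩, h4⟩ := this
  exact ⟨a, b, c, h1, h2, h3, Equiv.ext h4⟩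

/-- The relations of the three-cycles on a quotient where all of them are fixed point free. -/
theorem quot_rels {U : Type*} [AddCommGroup U] (π : V →+ U) (hπ : Function.Surjective π)
    (X : ℕ → AddMonoid.End U) (hX : ∀ i, i < 7 → ∀ v, X i (π v) = π (r.R (cx i) v))
    (hfree : ∀ a b c : Fin 9, a ≠ b → b ≠ c → a ≠ c → ∀ v,
      π (r.R (cy a b c) (r.R (cy a b c) v)) = π (r.R (cy a b c) v) + π v) :
    (∀ i < 7, X i * X i = X i + 1) ∧ ∀ i < 7, ∀ j < 7, i ≠ j → X i * X j + X j * X i = 1 + X i + X j := by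
  have hsq : ∀ i < 7, X i * X i = X i + 1 := fun i hi => AddMonoidHom.ext fun u => by
    obtain ⟨v, rfl⟩ := hπ u
    show X i (X i (π v)) = X i (π v) + π v
    rw [hX i hi, hX i hi, cx_eq]
    exact hfree _ _ _ (third_ne i).1 (third_ne i).2.1 (third_ne i).2.2 v
  refine ⟨hsq, fun i hi j hj hij => ?_⟩
  have e2 : ∀ y : AddMonoid.End U, y + y = 0 := fun y => AddMonoidHom.ext fun u => by
    obtain ⟨v, rfl⟩ := hπ u
    obtain ⟨w, hw⟩ := hπ (y (π v))
    show y (π v) + y (π v) = 0
    rw [← hw, ← map_add, r.two, map_zero]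
  have hcube : ∀ k < 7, X k * X k * X k = 1 := fun k hk => by
    calc X k * X k * X k = (X k + 1) * X k := by rw [hsq k hk]
      _ = X k * X k + X k := by rw [add_mul, one_mul]
      _ = X k + 1 + X k := by rw [hsq k hk]
      _ = (X k + X k) + 1 := by abel
      _ = 1 := by rw [e2, zero_add]
  obtain ⟨a, b, c, hab, hbc, hac, hz⟩ := prod_triple ⟨i, hi⟩ ⟨j, hj⟩ (fun e => hij (congrArg Fin.val e))
  set Z := X i * X j * X j with hZdef
  have hZ : Z * Z = Z + 1 := AddMonoidHom.ext fun u => by
    obtain ⟨v, rfl⟩ := hπ u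
    show X i (X j (X j (X i (X j (X j (π v)))))) = X i (X j (X j (π v))) + π v
    simp only [hX i hi, hX j hj]
    have e : ∀ v, r.R (cx i) (r.R (cx j) (r.R (cx j) v)) = r.R (cy a b c) v := fun v => by
      rw [← r.mul_apply (sign_cx j) (sign_cx j), ← r.mul_apply (sign_cx i) (by simp [sign_cx]), ← mul_assoc, hz]
    rw [e, e]
    exact hfree a b c hab hbc hac v
  have hZ3 : Z * Z * Z = 1 := by
    calc Z * Z * Z = (Z + 1) * Z := by rw [hZ]
      _ = Z * Z + Z := by rw [add_mul, one_mul]
      _ = (Z + Z) + 1 := by rw [hZ]; abel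
      _ = 1 := by rw [e2, zero_add]
  have hinv : X j * X i * X i = Z * Z := by
    have h1 : Z * (X j * X i * X i) = 1 := by
      calc _ = X i * (X j * X j * X j) * X i * X i := by simp only [hZdef, mul_assoc]
        _ = X i * X i * X i := by rw [hcube j hj, mul_one]
        _ = 1 := hcube i hi
    calc X j * X i * X i = Z * Z * Z * (X j * X i * X i) := by rw [hZ3, one_mul]
      _ = Z * Z * (Z * (X j * X i * X i)) := by simp only [mul_assoc]
      _ = Z * Z := by rw [h1, mul_one]
  rw [hZ, hZdef, mul_assoc, hsq i hi, mul_assoc, hsq j hj, mul_add, mul_add, mul_one, mul_one] at hinv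
  calc X i * X j + X j * X i = X i * X j + ((X j * X i + X j) + X j) := by
        rw [add_assoc, e2, add_zero]
    _ = X i * X j + ((X i * X j + X i + 1) + X j) := by rw [hinv]
    _ = (X i * X j + X i * X j) + (1 + X i + X j) := by abel
    _ = _ := by rw [e2, zero_add]

theorem mv_const (i j k a b c : Fin 9) (hij : i ≠ j) (hjk : j ≠ k) (hik : i ≠ k) (hab : a ≠ b) (hbc : b ≠ c)
    (hac : a ≠ c) [Finite V] : Nat.card (r.mv (cy i j k)) ≤ Nat.card (r.mv (cy a b c)) := by
  obtain ⟨d, d1, d2, d3⟩ := exists_fresh3 i j k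
  obtain ⟨e, e1, e2, e3⟩ := exists_fresh3 a b c
  obtain ⟨g, hg, gi, gj, gk, -⟩ := exists_map4 hij hik (Ne.symm d1) hjk (Ne.symm d2) (Ne.symm d3) hab hac
    (Ne.symm e1) hbc (Ne.symm e2) (Ne.symm e3)
  have hmem : ∀ v ∈ r.mv (cy i j k), r.R g v ∈ r.mv (cy a b c) := fun v hv => by
    have := r.map_mv hg (sign_cy hij hjk) hv
    rwa [cy_conj, gi, gj, gk] at this
  exact Nat.card_le_card_of_injective (fun v => (⟨_, hmem v.1 v.2⟩ : r.mv (cy a b c))) fun v w e =>
    Subtype.ext (r.injective hg (congrArg Subtype.val e))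

variable [Finite V]

theorem not_sixteen (hcard : Nat.card V = 256)
    (h : ∀ i j k : Fin 9, i ≠ j → j ≠ k → i ≠ k → Nat.card (r.mv (cy i j k)) = 16) : False := by
  classical
  have triv : ∀ i j k a b c : Fin 9, i ≠ j → j ≠ k → i ≠ k → a ≠ b → b ≠ c → a ≠ i → a ≠ j → a ≠ k →
      b ≠ i → b ≠ j → b ≠ k → c ≠ i → c ≠ j → c ≠ k → ∀ w ∈ r.mv (cy i j k), r.R (cy a b c) w = w := by
    intro i j k a b c hij hjk hik hab hbc a1 a2 a3 b1 b2 b3 c1 c2 c3
    have hx := sign_cy hij hjk
    have hW : ∀ g, Perm.sign g = 1 → g i = i → g j = j → g k = k → ∀ w ∈ r.mv (cy i j k),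
        r.R g w ∈ r.mv (cy i j k) := fun g hg hi hj hk w hw => by
      have := r.map_mv hg hx hw
      rwa [cy_conj, hi, hj, hk] at this
    have hxm : ∀ w ∈ r.mv (cy i j k), r.R (cy i j k) w ∈ r.mv (cy i j k) := fun w hw => by
      have := r.map_mv hx hx hw
      rwa [mul_inv_cancel_right] at this
    have hcomm : ∀ g, Perm.sign g = 1 → g i = i → g j = j → g k = k → ∀ v,
        r.R g (r.R (cy i j k) v) = r.R (cy i j k) (r.R g v) := fun g hg hi hj hk v => by
      have := cy_conj g i j k
      rw [hi, hj, hk] at this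
      rw [← r.mul_apply hg hx, ← r.mul_apply hx hg]
      congr 2
      exact mul_inv_eq_iff_eq_mul.1 this
    haveI := Fintype.ofFinite V
    obtain ⟨u, hu, hu0⟩ : ∃ u ∈ r.mv (cy i j k), u ≠ 0 := by
      by_contra hc
      push Not at hc
      have h' := h i j k hij hjk hik
      rw [(AddSubgroup.eq_bot_iff_forall _).2 hc, AddSubgroup.card_bot] at h'
      omega
    set x := r.R (cy i j k) with hxdef
    have hcube := r.cube hij hjk hik
    rw [← hxdef] at hcube
    have hsq : ∀ z ∈ r.mv (cy i j k), x (x z) = x z + z := fun z hz => by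
      have hp := r.mv_poly hij hjk hik hz
      rw [← hxdef] at hp
      calc x (x z) = x (x z) + ((x z + z) + (x z + z)) := by rw [r.two, add_zero]
        _ = (x (x z) + x z + z) + (x z + z) := by abel
        _ = _ := by rw [hp, zero_add]
    let T : V → Bool × Bool → V := fun z p => cond p.1 z 0 + cond p.2 (x z) 0
    have Tmem : ∀ z ∈ r.mv (cy i j k), ∀ p, T z p ∈ r.mv (cy i j k) := fun z hz p => by
      obtain ⟨b1, b2⟩ := p
      cases b1 <;> cases b2 <;> simp only [T, cond_true, cond_false] <;>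
        first
          | exact add_mem (zero_mem _) (zero_mem _)
          | exact add_mem (zero_mem _) (hxm _ hz)
          | exact add_mem hz (zero_mem _)
          | exact add_mem hz (hxm _ hz)
    have Tx : ∀ z ∈ r.mv (cy i j k), ∀ p, x (T z p) = T z (p.2, p.1 ^^ p.2) := fun z hz p => by
      obtain ⟨b1, b2⟩ := p
      cases b1 <;> cases b2 <;> simp [T, hsq z hz]
      all_goals first
        | exact add_comm _ _
        | rw [← add_assoc, r.two, zero_add]
    have Tadd : ∀ z p q, T z p + T z q = T z (p.1 ^^ q.1, p.2 ^^ q.2) := fun z p q => by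
      obtain ⟨b1, b2⟩ := p
      obtain ⟨c1, c2⟩ := q
      calc T z (b1, b2) + T z (c1, c2) = (cond b1 z 0 + cond c1 z 0) + (cond b2 (x z) 0 + cond c2 (x z) 0) := by
            simp only [T]; abel
        _ = _ := by cases b1 <;> cases b2 <;> cases c1 <;> cases c2 <;> simp [T, r.two]
    have Tzero : ∀ z ∈ r.mv (cy i j k), z ≠ 0 → ∀ p, T z p = 0 → p = (false, false) := by
      intro z hz hz0 p e
      have hinj := r.injective hx
      rw [← hxdef] at hinj
      obtain ⟨b1, b2⟩ := p
      cases b1 <;> cases b2 <;> simp [T] at e ⊢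
      · exact hz0 (hinj (e.trans (map_zero _).symm))
      · exact hz0 e
      · refine hz0 (r.fx_mv_bot hij hjk hik (r.mem_fx.2 ?_) hz)
        rw [← hxdef]
        calc x z = (z + z) + x z := by rw [r.two, zero_add]
          _ = z := by rw [add_assoc, e, add_zero]
    obtain ⟨v, hv, hvs⟩ : ∃ v ∈ r.mv (cy i j k), ∀ p, v ≠ T u p := by
      by_contra hc
      push Not at hc
      choose f hf using hc
      have hle : Nat.card (r.mv (cy i j k)) ≤ Nat.card (Bool × Bool) :=
        Nat.card_le_card_of_injective (fun w => f w.1 w.2) fun p q e => Subtype.ext (by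
          have hp := hf p.1 p.2
          have hq := hf q.1 q.2
          change f p.1 p.2 = f q.1 q.2 at e
          rw [hp, hq, e])
      rw [h i j k hij hjk hik, Nat.card_prod, Nat.card_eq_fintype_card, Fintype.card_bool] at hle
      omega
    let F : (Bool × Bool) × (Bool × Bool) → ↥(r.mv (cy i j k)) := fun pq =>
      ⟨T u pq.1 + T v pq.2, add_mem (Tmem u hu _) (Tmem v hv _)⟩
    have hspan : ∀ p q, T v q = T u p → q = (false, false) := by
      intro p q e
      obtain ⟨b1, b2⟩ := q
      cases b1 <;> cases b2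
      · rfl
      · exfalso
        have := congrArg (fun z => x (x z)) e
        simp only [Tx u hu] at this
        refine hvs _ (Eq.trans ?_ this)
        simp [T, hcube]
      · exfalso
        exact hvs _ (by rw [← e]; simp [T])
      · exfalso
        have := congrArg (fun z => x z) e
        simp only [Tx u hu] at this
        refine hvs _ (Eq.trans ?_ this)
        simp [T, hsq v hv]
        calc v = (x v + x v) + v := by rw [r.two, zero_add]
          _ = _ := by abel
    have hF : Function.Injective F := by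
      rintro ⟨p, q⟩ ⟨p', q'⟩ e
      have e' : T u p + T v q = T u p' + T v q' := congrArg Subtype.val e
      have hq : T v q + T v q' = T u p + T u p' := by
        calc _ = (T u p + T u p) + (T v q + T v q') := by rw [r.two, zero_add]
          _ = T u p + ((T u p + T v q) + T v q') := by abel
          _ = T u p + ((T u p' + T v q') + T v q') := by rw [e']
          _ = _ := by rw [add_assoc (T u p'), r.two, add_zero]
      rw [Tadd, Tadd] at hq
      have hqq := hspan _ _ hq
      rw [Prod.mk.injEq] at hqq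
      obtain rfl : q = q' := Prod.ext (by simpa using hqq.1) (by simpa using hqq.2)
      have hp := add_right_cancel e'
      have hp2 : T u p + T u p' = 0 := by rw [hp, r.two]
      rw [Tadd] at hp2
      have := Tzero u hu hu0 _ hp2
      rw [Prod.mk.injEq] at this
      obtain rfl : p = p' := Prod.ext (by simpa using this.1) (by simpa using this.2)
      rfl
    have hbij : Function.Bijective F := by
      haveI := Fintype.ofFinite ↥(r.mv (cy i j k))
      refine (Fintype.bijective_iff_injective_and_card F).2 ⟨hF, ?_⟩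
      rw [← Nat.card_eq_fintype_card, ← Nat.card_eq_fintype_card, h i j k hij hjk hik]
      simp
    refine r.fixer_trivial hij hjk hik _ hW (α := ↥(r.mv (cy i j k)) × ↥(r.mv (cy i j k))) ?_
      (fun g => (if e : r.R g u ∈ r.mv (cy i j k) then ⟨_, e⟩ else 0,
        if e : r.R g v ∈ r.mv (cy i j k) then ⟨_, e⟩ else 0)) (fun g g' hg hgi hgj hgk hh hhi hhj hhk e w hw => ?_)
      (sign_cy hab hbc) (cy_apply_ne (Ne.symm a1) (Ne.symm b1) (Ne.symm c1))
      (cy_apply_ne (Ne.symm a2) (Ne.symm b2) (Ne.symm c2)) (cy_apply_ne (Ne.symm a3) (Ne.symm b3) (Ne.symm c3))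
    · rw [Nat.card_prod, h i j k hij hjk hik]; norm_num
    · simp only [Prod.mk.injEq, dif_pos (hW g hg hgi hgj hgk u hu), dif_pos (hW g' hh hhi hhj hhk u hu),
        dif_pos (hW g hg hgi hgj hgk v hv), dif_pos (hW g' hh hhi hhj hhk v hv), Subtype.mk.injEq] at e
      obtain ⟨⟨p, q⟩, hpq⟩ := hbij.2 ⟨w, hw⟩
      have hw' : T u p + T v q = w := congrArg Subtype.val hpq
      rw [← hw']
      have c1 := hcomm g hg hgi hgj hgk
      have c2 := hcomm g' hh hhi hhj hhk
      obtain ⟨p1, p2⟩ := p
      obtain ⟨q1, q2⟩ := q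
      cases p1 <;> cases p2 <;> cases q1 <;> cases q2 <;> simp [T, c1, c2, e.1, e.2]
  have hfx : ∀ i j k : Fin 9, i ≠ j → j ≠ k → i ≠ k → Nat.card (r.fx (cy i j k)) = 16 := fun i j k a b c => by
    have := r.card_mul (cy i j k)
    rw [hcard, h i j k a b c] at this
    omega
  have key : ∀ i j k a b c : Fin 9, i ≠ j → j ≠ k → i ≠ k → a ≠ b → b ≠ c → a ≠ c → a ≠ i → a ≠ j → a ≠ k →
      b ≠ i → b ≠ j → b ≠ k → c ≠ i → c ≠ j → c ≠ k → r.mv (cy a b c) = r.fx (cy i j k) := by
    intro i j k a b c hij hjk hik hab hbc hac a1 a2 a3 b1 b2 b3 c1 c2 c3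
    have hy := sign_cy hab hbc
    have hle : r.mv (cy a b c) ≤ r.fx (cy i j k) := fun z hz => by
      obtain ⟨v, rfl⟩ := r.mem_mv.1 hz
      obtain ⟨p, hp, q, hq, rfl⟩ := r.decomp hij hjk hik v
      rw [map_add, triv i j k a b c hij hjk hik hab hbc a1 a2 a3 b1 b2 b3 c1 c2 c3 q hq]
      have : r.R (cy a b c) p + q + (p + q) = (r.R (cy a b c) p + p) + (q + q) := by abel
      rw [this, r.two, add_zero]
      have hm := r.map_fx hy (sign_cy hij hjk) hp
      rw [cy_conj, cy_apply_ne (Ne.symm a1) (Ne.symm b1) (Ne.symm c1),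
        cy_apply_ne (Ne.symm a2) (Ne.symm b2) (Ne.symm c2), cy_apply_ne (Ne.symm a3) (Ne.symm b3) (Ne.symm c3)] at hm
      exact add_mem hm hp
    exact AddSubgroup.eq_of_le_of_card_ge hle (by rw [hfx i j k hij hjk hik, h a b c hab hbc hac])
  have e1 : r.mv (cy 6 7 8) = r.fx (cy 0 1 2) := key _ _ _ _ _ _ (by decide) (by decide) (by decide) (by decide)
    (by decide) (by decide) (by decide) (by decide) (by decide) (by decide) (by decide) (by decide) (by decide)
    (by decide) (by decide)
  have e2 : r.mv (cy 6 7 8) = r.fx (cy 3 4 5) := key _ _ _ _ _ _ (by decide) (by decide) (by decide) (by decide)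
    (by decide) (by decide) (by decide) (by decide) (by decide) (by decide) (by decide) (by decide) (by decide)
    (by decide) (by decide)
  have e3 : r.mv (cy 0 1 2) = r.fx (cy 3 4 5) := key _ _ _ _ _ _ (by decide) (by decide) (by decide) (by decide)
    (by decide) (by decide) (by decide) (by decide) (by decide) (by decide) (by decide) (by decide) (by decide)
    (by decide) (by decide)
  have heq : r.mv (cy 0 1 2) = r.fx (cy 0 1 2) := by rw [e3, ← e2, e1]
  have hbot : r.mv (cy 0 1 2) = ⊥ := (AddSubgroup.eq_bot_iff_forall _).2 fun v hv =>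
    r.fx_mv_bot (by decide) (by decide) (by decide) (heq ▸ hv) hv
  have := h 0 1 2 (by decide) (by decide) (by decide)
  rw [hbot, AddSubgroup.card_bot] at this
  omega

theorem not_sixtyfour (hcard : Nat.card V = 256)
    (h : ∀ i j k : Fin 9, i ≠ j → j ≠ k → i ≠ k → Nat.card (r.mv (cy i j k)) = 64) : False := by
  classical
  have hfx : ∀ i j k : Fin 9, i ≠ j → j ≠ k → i ≠ k → Nat.card (r.fx (cy i j k)) = 4 := fun i j k a b c => by
    have := r.card_mul (cy i j k)
    rw [hcard, h i j k a b c] at this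
    omega
  have key : ∀ i j k a b c : Fin 9, i ≠ j → j ≠ k → i ≠ k → a ≠ b → b ≠ c → a ≠ c → a ≠ i → a ≠ j → a ≠ k →
      b ≠ i → b ≠ j → b ≠ k → c ≠ i → c ≠ j → c ≠ k → r.fx (cy a b c) = r.fx (cy i j k) := by
    intro i j k a b c hij hjk hik hab hbc hac a1 a2 a3 b1 b2 b3 c1 c2 c3
    have hW : ∀ g, Perm.sign g = 1 → g i = i → g j = j → g k = k → ∀ w ∈ r.fx (cy i j k),
        r.R g w ∈ r.fx (cy i j k) := fun g hg hi hj hk w hw => by
      have := r.map_fx hg (sign_cy hij hjk) hw
      rwa [cy_conj, hi, hj, hk] at this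
    have htriv := r.fixer_trivial hij hjk hik _ hW (α := ↥(r.fx (cy i j k)) → ↥(r.fx (cy i j k))) (by
        rw [Nat.card_fun, hfx i j k hij hjk hik]; norm_num)
      (fun g w => if e : r.R g w.1 ∈ r.fx (cy i j k) then ⟨_, e⟩ else 0)
      (fun g g' hg hgi hgj hgk hh hhi hhj hhk e w hw => by
        have := congrFun e ⟨w, hw⟩
        simp only [dif_pos (hW g hg hgi hgj hgk w hw), dif_pos (hW g' hh hhi hhj hhk w hw)] at this
        exact congrArg Subtype.val this)
      (sign_cy hab hbc) (cy_apply_ne (Ne.symm a1) (Ne.symm b1) (Ne.symm c1))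
      (cy_apply_ne (Ne.symm a2) (Ne.symm b2) (Ne.symm c2)) (cy_apply_ne (Ne.symm a3) (Ne.symm b3) (Ne.symm c3))
    exact (AddSubgroup.eq_of_le_of_card_ge (fun z hz => r.mem_fx.2 (htriv z hz))
      (by rw [hfx i j k hij hjk hik, hfx a b c hab hbc hac])).symm
  have e1 : r.fx (cy 3 4 5) = r.fx (cy 6 7 8) := key _ _ _ _ _ _ (by decide) (by decide) (by decide) (by decide)
    (by decide) (by decide) (by decide) (by decide) (by decide) (by decide) (by decide) (by decide) (by decide)
    (by decide) (by decide)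
  have hall : ∀ i < 7, r.fx (cx i) = r.fx (cy 6 7 8) := fun i hi => by
    rw [cx_eq]
    interval_cases i <;>
      first
        | exact key _ _ _ _ _ _ (by decide) (by decide) (by decide) (by decide) (by decide) (by decide)
            (by decide) (by decide) (by decide) (by decide) (by decide) (by decide) (by decide) (by decide)
            (by decide)
        | exact (key 3 4 5 _ _ _ (by decide) (by decide) (by decide) (by decide) (by decide) (by decide)
            (by decide) (by decide) (by decide) (by decide) (by decide) (by decide) (by decide) (by decide)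
            (by decide)).trans e1
  set C0 := r.fx (cy 6 7 8) with hC0
  have hall2 : ∀ a b c : Fin 9, a ≠ b → b ≠ c → a ≠ c → r.fx (cy a b c) = C0 := fun a b c hab hbc hac =>
    (AddSubgroup.eq_of_le_of_card_ge (fun z hz => r.mem_fx.2
      (r.triple_fix (fun i hi => r.mem_fx.1 ((hall i hi).symm ▸ hz)) (sign_cy hab hbc)))
      (by rw [hC0, hfx a b c hab hbc hac, hfx 6 7 8 (by decide) (by decide) (by decide)])).symm
  let π : V →+ V ⧸ C0 := QuotientAddGroup.mk' C0
  have hπ : Function.Surjective π := QuotientAddGroup.mk'_surjective C0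
  have hmap : ∀ i, C0 ≤ C0.comap (r.R (cx i) : V →+ V) := fun i z hz => by
    show r.R (cx i) z ∈ C0
    have : cx i = cx (i % 7) := by simp [cx, third]
    rw [this, r.mem_fx.1 ((hall _ (Nat.mod_lt i (by norm_num))).symm ▸ hz)]
    exact hz
  let X : ℕ → AddMonoid.End (V ⧸ C0) := fun i => QuotientAddGroup.map C0 C0 (r.R (cx i) : V →+ V) (hmap i)
  have hX : ∀ i, i < 7 → ∀ v, X i (π v) = π (r.R (cx i) v) := fun i _ v => rfl
  have hfree : ∀ a b c : Fin 9, a ≠ b → b ≠ c → a ≠ c → ∀ v,
      π (r.R (cy a b c) (r.R (cy a b c) v)) = π (r.R (cy a b c) v) + π v := by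
    intro a b c hab hbc hac v
    rw [← map_add, ← sub_eq_zero, ← map_sub]
    refine (QuotientAddGroup.eq_zero_iff _).2 ?_
    rw [← hall2 a b c hab hbc hac, r.mem_fx]
    simp only [map_sub, map_add, r.cube hab hbc hac]
    have neg : ∀ x : V, -x = x := fun x => (eq_neg_of_add_eq_zero_left (r.two x)).symm
    simp only [sub_eq_add_neg, neg]
    abel
  obtain ⟨hsq, hanti⟩ := r.quot_rels π hπ X hX hfree
  have hU2 : ∀ u : V ⧸ C0, u + u = 0 := fun u => by
    obtain ⟨v, rfl⟩ := hπ u
    rw [← map_add, r.two, map_zero]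
  have hcardU : Nat.card (V ⧸ C0) = 64 := by
    have := AddSubgroup.card_eq_card_quotient_mul_card_addSubgroup C0
    have h4 : Nat.card ↥C0 = 4 := hfx 6 7 8 (by decide) (by decide) (by decide)
    rw [hcard, h4] at this
    omega
  haveI : Nontrivial (V ⧸ C0) := Finite.one_lt_card_iff_nontrivial.1 (by rw [hcardU]; norm_num)
  obtain ⟨L, hL, -⟩ := spin hU2 hsq hanti
  have hinj : Function.Injective fun m : Fin 256 => lin L m.val := fun m n e => by
    refine Fin.ext (Nat.xor_eq_zero_iff.1 (hL _ (xor_lt m.2 n.2) ?_))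
    rw [lin_xor hU2, show lin L m.val = lin L n.val from e, hU2]
  have := Nat.card_le_card_of_injective _ hinj
  rw [hcardU, Nat.card_eq_fintype_card, Fintype.card_fin] at this
  omega

/-- **The dichotomy**: coordinates in which the seven three-cycles act as on a model. -/
theorem coords (hcard : Nat.card V = 256) (hne : ∃ g, Perm.sign g = 1 ∧ r.R g ≠ 1) :
    ∃ (σ : Perm (Fin 9)) (md : Md) (L : List V), (md = mS ∨ md = mP) ∧
      (∀ m < 256, lin L m = 0 → m = 0) ∧
      ∀ w, ∀ m < 256, r.R (σ * permW w * σ⁻¹) (lin L m) = lin L (act md.X w m) := by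
  classical
  set K := Nat.card (r.mv (cy 0 1 2)) with hK
  have hc : ∀ i j k : Fin 9, i ≠ j → j ≠ k → i ≠ k → Nat.card (r.mv (cy i j k)) = K := fun i j k a b c =>
    le_antisymm (r.mv_const i j k 0 1 2 a b c (by decide) (by decide) (by decide))
      (r.mv_const 0 1 2 i j k (by decide) (by decide) (by decide) a b c)
  have hdvd : K ∣ 256 := ⟨Nat.card (r.fx (cy 0 1 2)), by rw [← hcard, ← r.card_mul (cy 0 1 2), hK]; ring⟩
  have hmod : K % 3 = 1 := r.card_mv_mod (by decide) (by decide) (by decide)
  have hKle : K ≤ 256 := Nat.le_of_dvd (by norm_num) hdvd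
  have hcases : K = 1 ∨ K = 4 ∨ K = 16 ∨ K = 64 ∨ K = 256 := by
    have key : ∀ k : Fin 257, k.val ∣ 256 → k.val % 3 = 1 →
        k.val = 1 ∨ k.val = 4 ∨ k.val = 16 ∨ k.val = 64 ∨ k.val = 256 := by decide +kernel
    exact key ⟨K, by omega⟩ hdvd hmod
  have lift : ∀ (σ : Perm (Fin 9)) (md : Md) (L : List V),
      md.X.all (fun M => M.all fun c => Nat.blt c 256) = true →
      (∀ i < 7, ∀ m < 256, r.R (σ * cx i * σ⁻¹) (lin L m) = lin L (ap (gen md.X i) m)) →
      ∀ w, ∀ m < 256, r.R (σ * permW w * σ⁻¹) (lin L m) = lin L (act md.X w m) := by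
    intro σ md L hX hgen w
    induction w with
    | nil => intro m _; rw [permW, mul_one, mul_inv_cancel, r.one]; rfl
    | cons i w ih =>
      intro m hm
      rw [permW, show σ * (cx i * permW w) * σ⁻¹ = σ * cx i * σ⁻¹ * (σ * permW w * σ⁻¹) by group,
        r.mul_apply (by simp [sign_cx]) (by simp [sign_permW]), ih m hm]
      have : cx i = cx (i % 7) := by simp [cx, third]
      rw [this, hgen _ (Nat.mod_lt _ (by norm_num)) _ (act_lt hX w hm), act]
      simp [gen, Nat.mod_mod]
  have hS : mS.X.all (fun M => M.all fun c => Nat.blt c 256) = true := by decide +kernel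
  have hP : mP.X.all (fun M => M.all fun c => Nat.blt c 256) = true := by decide +kernel
  rcases hcases with e | e | e | e | e
  · exfalso
    obtain ⟨g, hg, hgne⟩ := hne
    refine hgne (AddMonoidHom.ext fun v => ?_)
    show r.R g v = v
    refine r.triple_fix (fun i hi => r.mem_fx.1 ?_) hg
    obtain ⟨n1, n2, n3⟩ := third_ne i
    have hb : r.mv (cx i) = ⊥ := AddSubgroup.eq_bot_of_card_eq _ (by rw [cx_eq, hc _ _ _ n1 n2 n3, e])
    have hv : r.R (cx i) v + v ∈ r.mv (cx i) := r.mem_mv.2 ⟨v, rfl⟩
    rw [hb, AddSubgroup.mem_bot] at hv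
    exact hv
  · obtain ⟨L, hL, hL'⟩ := r.perm_coords (fun i j k a b c => (hc i j k a b c).trans e)
    refine ⟨1, mP, L, Or.inr rfl, hL, lift 1 mP L hP fun i hi m hm => ?_⟩
    rw [one_mul, inv_one, mul_one]
    exact hL' i hi m hm
  · exact (r.not_sixteen hcard (fun i j k a b c => (hc i j k a b c).trans e)).elim
  · exact (r.not_sixtyfour hcard (fun i j k a b c => (hc i j k a b c).trans e)).elim
  · have hfree : ∀ a b c : Fin 9, a ≠ b → b ≠ c → a ≠ c → ∀ v,
        AddMonoidHom.id V (r.R (cy a b c) (r.R (cy a b c) v)) =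
          AddMonoidHom.id V (r.R (cy a b c) v) + AddMonoidHom.id V v := by
      intro a b c hab hbc hac v
      have htop : r.mv (cy a b c) = ⊤ := AddSubgroup.eq_top_of_card_eq _ (by rw [hc a b c hab hbc hac, e, hcard])
      have := r.mv_poly hab hbc hac (htop.symm ▸ AddSubgroup.mem_top v : v ∈ r.mv (cy a b c))
      show r.R (cy a b c) (r.R (cy a b c) v) = r.R (cy a b c) v + v
      calc _ = r.R (cy a b c) (r.R (cy a b c) v) + ((r.R (cy a b c) v + v) + (r.R (cy a b c) v + v)) := by
            rw [r.two, add_zero]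
        _ = _ := by rw [← add_assoc, ← add_assoc (r.R (cy a b c) (r.R (cy a b c) v)), this, zero_add]
    obtain ⟨hsq, hanti⟩ := r.quot_rels (AddMonoidHom.id V) Function.surjective_id (fun i => r.R (cx i))
      (fun i _ v => rfl) hfree
    haveI : Nontrivial V := Finite.one_lt_card_iff_nontrivial.1 (by rw [hcard]; norm_num)
    obtain ⟨L, hL, hL'⟩ := spin r.two hsq hanti
    have hsurj : ∀ z, ∃ m < 256, z = lin L m := by
      haveI := Fintype.ofFinite V
      have hinj : Function.Injective fun m : Fin 256 => lin L m.val := fun m n e => by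
        refine Fin.ext (Nat.xor_eq_zero_iff.1 (hL _ (xor_lt m.2 n.2) ?_))
        rw [lin_xor r.two, show lin L m.val = lin L n.val from e, r.two]
      have hb := (Fintype.bijective_iff_injective_and_card _).2 ⟨hinj, by
        rw [Fintype.card_fin, ← Nat.card_eq_fintype_card, hcard]⟩
      exact fun z => (hb.2 z).elim fun m hm => ⟨m.val, m.2, hm.symm⟩
    rcases hL' hsurj with h1 | h2
    · refine ⟨1, mS, L, Or.inl rfl, hL, lift 1 mS L hS fun i hi m hm => ?_⟩
      rw [one_mul, inv_one, mul_one]
      exact h1 i hi m hm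
    · refine ⟨swap 0 1, mS, L, Or.inl rfl, hL, lift _ mS L hS fun i hi m hm => ?_⟩
      have hconj : swap (0 : Fin 9) 1 * cx i * (swap 0 1)⁻¹ = cx i * cx i := by
        have key : ∀ i : Fin 7, swap (0 : Fin 9) 1 * cx i.val * (swap 0 1)⁻¹ = cx i.val * cx i.val := by
          decide +kernel
        exact key ⟨i, hi⟩
      rw [hconj, r.mul_apply (sign_cx i) (sign_cx i)]
      exact h2 i hi m hm

end Rep

end Cfsg.Agent.ThRec.Eight
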