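import Cfsg.Agent.Lib.ThRec.FusionKey
import Cfsg.Agent.Lib.ThRec.ModuleDichotomy
import Cfsg.Agent.Lib.Extraspecial.NonSplit

/-!
Coordinates on the normal extraspecial subgroup of the centraliser: the quotient by the centre is one of the
two models.
-/

set_option autoImplicit false
set_option maxRecDepth 100000

namespace Cfsg.Agent.ThRec

open Eight Equiv
open scoped Classical

noncomputable section

universe u
variable {G : Type u} [Group G] {a : G} {Q : Subgroup G}

/-- A power of `a`. -/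
def zb (a : G) (b : Bool) : G := cond b a 1

/-- Two elements do not commute. -/
def cmb (x y : G) : Bool := decide (x * y ≠ y * x)

/-- An element is not its own inverse. -/
def sqb (x : G) : Bool := decide (x * x ≠ 1)

theorem fk_sq (S : Setup a Q) : a * a = 1 := by rw [← pow_two, ← S.ha, pow_orderOf_eq_one]

theorem fk_ne (S : Setup a Q) : a ≠ 1 := fun h => by
  have := S.ha
  rw [h, orderOf_one] at this
  omega

theorem mem_cent {x : G} : x ∈ Subgroup.centralizer ({a} : Set G) ↔ a * x = x * a :=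
  Subgroup.mem_centralizer_singleton_iff.trans ⟨Eq.symm, Eq.symm⟩

theorem a_mem (S : Setup a Q) : a ∈ Q :=
  S.self a (mem_cent.2 rfl) fun _ hq => mem_cent.1 (S.le hq)

theorem a_comm (S : Setup a Q) {x : G} (hx : x ∈ Q) : a * x = x * a := mem_cent.1 (S.le hx)

theorem exists_centre (S : Setup a Q) :
    XNonSplit.Setup (⟨a, a_mem S⟩ : ↥Q) ∧ ∀ c ∈ Subgroup.center ↥Q, (c : G) = 1 ∨ (c : G) = a := by
  obtain ⟨z, hz, hzc⟩ := XNonSplit.exists_setup S.extra
  have hac : (⟨a, a_mem S⟩ : ↥Q) ∈ Subgroup.center ↥Q :=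
    Subgroup.mem_center_iff.2 fun g => Subtype.ext (a_comm S g.2).symm
  haveI : Finite (Subgroup.center ↥Q) := Nat.finite_of_card_ne_zero (by rw [S.extra.2]; norm_num)
  obtain ⟨w, hw⟩ := (Nat.card_eq_two_iff' (1 : Subgroup.center ↥Q)).1 S.extra.2
  have hall : ∀ c ∈ Subgroup.center ↥Q, c ≠ 1 → c = w.1 := fun c hc hne =>
    congrArg Subtype.val (hw.2 ⟨c, hc⟩ fun e => hne (congrArg Subtype.val e))
  have h1 : z = w.1 := hall z hzc hz.one_ne
  have h2 : (⟨a, a_mem S⟩ : ↥Q) = w.1 := hall _ hac fun e => fk_ne S (congrArg Subtype.val e)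
  refine ⟨h2.trans h1.symm ▸ hz, fun c hc => ?_⟩
  by_cases e : c = 1
  · exact Or.inl (congrArg Subtype.val e)
  · exact Or.inr (congrArg Subtype.val ((hall c hc e).trans h2.symm))

theorem comm_or (S : Setup a Q) {x y : G} (hx : x ∈ Q) (hy : y ∈ Q) : x * y = y * x ∨ x * y = y * x * a := by
  rcases (exists_centre S).1.comm ⟨x, hx⟩ ⟨y, hy⟩ with h | h
  · exact Or.inl (congrArg Subtype.val h)
  · exact Or.inr (congrArg Subtype.val h)

theorem sq_or (S : Setup a Q) {x : G} (hx : x ∈ Q) : x * x = 1 ∨ x * x = a := by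
  rcases (exists_centre S).1.square ⟨x, hx⟩ with h | h
  · exact Or.inl (congrArg Subtype.val h)
  · exact Or.inr (congrArg Subtype.val h)

theorem centre_or (S : Setup a Q) {x : G} (hx : x ∈ Q) (h : ∀ q ∈ Q, x * q = q * x) : x = 1 ∨ x = a :=
  (exists_centre S).2 ⟨x, hx⟩ (Subgroup.mem_center_iff.2 fun g => Subtype.ext (h g g.2).symm)

theorem zb_mem (S : Setup a Q) (b : Bool) : zb a b ∈ Q := by
  cases b
  · exact one_mem Q
  · exact a_mem S

theorem zb_comm (S : Setup a Q) (b : Bool) {x : G} (hx : x ∈ Q) : zb a b * x = x * zb a b := by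
  cases b
  · simp [zb]
  · exact a_comm S hx

theorem zb_mul (S : Setup a Q) (b c : Bool) : zb a b * zb a c = zb a (b ^^ c) := by
  cases b <;> cases c <;> simp [zb, fk_sq S]

theorem zb_inj (S : Setup a Q) {b c : Bool} (h : zb a b = zb a c) : b = c := by
  cases b <;> cases c <;> simp [zb, fk_ne S, (fk_ne S).symm] at h ⊢

theorem sq_eq (S : Setup a Q) {x : G} (hx : x ∈ Q) : x * x = zb a (sqb x) := by
  rcases sq_or S hx with h | h <;> simp [sqb, h, zb, fk_ne S]

theorem comm_eq (S : Setup a Q) {x y : G} (hx : x ∈ Q) (hy : y ∈ Q) : x * y = y * x * zb a (cmb x y) := by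
  rcases comm_or S hx hy with h | h <;> simp [cmb, h, zb, fk_ne S]

theorem eq_of_zb (S : Setup a Q) {x : G} {b c : Bool} (h : x * zb a b = x * zb a c) : b = c :=
  zb_inj S (mul_left_cancel h)

theorem cmb_mul (S : Setup a Q) {x y w : G} (hx : x ∈ Q) (hy : y ∈ Q) (hw : w ∈ Q) :
    cmb (x * y) w = (cmb x w ^^ cmb y w) := by
  refine eq_of_zb S (x := w * (x * y)) ?_
  rw [← comm_eq S (mul_mem hx hy) hw]
  calc x * y * w = x * (w * y * zb a (cmb y w)) := by rw [mul_assoc, comm_eq S hy hw]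
    _ = x * w * y * zb a (cmb y w) := by simp only [mul_assoc]
    _ = w * x * (zb a (cmb x w) * y) * zb a (cmb y w) := by rw [comm_eq S hx hw]; simp only [mul_assoc]
    _ = w * (x * y) * (zb a (cmb x w) * zb a (cmb y w)) := by rw [zb_comm S _ hy]; simp only [mul_assoc]
    _ = _ := by rw [zb_mul S]

theorem sqb_mul (S : Setup a Q) {x y : G} (hx : x ∈ Q) (hy : y ∈ Q) :
    sqb (x * y) = ((sqb x ^^ sqb y) ^^ cmb y x) := by
  refine eq_of_zb S (x := (1 : G)) ?_
  rw [one_mul, one_mul, ← sq_eq S (mul_mem hx hy)]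
  calc x * y * (x * y) = x * (y * x) * y := by simp only [mul_assoc]
    _ = x * x * (y * (zb a (cmb y x) * y)) := by rw [comm_eq S hy hx]; simp only [mul_assoc]
    _ = zb a (sqb x) * (y * y * zb a (cmb y x)) := by
      rw [zb_comm S _ hy, sq_eq S hx, mul_assoc y y]
    _ = _ := by rw [sq_eq S hy, zb_mul S, zb_mul S, Bool.xor_assoc]

theorem sqb_zb (S : Setup a Q) (b : Bool) {x : G} (hx : x ∈ Q) : sqb (x * zb a b) = sqb x := by
  have h1 : sqb (zb a b) = false := by cases b <;> simp [sqb, zb, fk_sq S]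
  have h2 : cmb (zb a b) x = false := by simp [cmb, zb_comm S b hx]
  rw [sqb_mul S hx (zb_mem S b), h1, h2, Bool.xor_false, Bool.xor_false]

theorem cmb_zb (S : Setup a Q) (b : Bool) {x w : G} (hx : x ∈ Q) (hw : w ∈ Q) :
    cmb (x * zb a b) w = cmb x w := by
  have h2 : cmb (zb a b) w = false := by simp [cmb, zb_comm S b hw]
  rw [cmb_mul S hx (zb_mem S b) hw, h2, Bool.xor_false]

theorem cmb_symm (x y : G) : cmb x y = cmb y x := by simp [cmb, eq_comm]

/-- Two elements of `Q` with the same image. -/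
def Same (a x y : G) : Prop := y = x ∨ y = x * a

theorem same_iff {x y : G} : Same a x y ↔ ∃ b, y = x * zb a b := by
  constructor
  · rintro (h | h)
    · exact ⟨false, by simp [zb, h]⟩
    · exact ⟨true, h⟩
  · rintro ⟨b, h⟩
    cases b
    · exact Or.inl (by simpa [zb] using h)
    · exact Or.inr h

/-- **Coordinates**: the quotient by the centre is one of the two models. -/
theorem Setup.exists_coords (S : Setup a Q) :
    Nonempty (Coords a Q mS) ∨ Nonempty (Coords a Q mP) := by
  obtain ⟨f, hfr, hfk⟩ := S.quot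
  obtain ⟨-, hcen⟩ := exists_centre S
  let Z : Subgroup ↥Q := Subgroup.center ↥Q
  have hZ : ∀ x : ↥Q, x ∈ Z ↔ (x : G) = 1 ∨ (x : G) = a := fun x => by
    refine ⟨hcen x, fun h => Subgroup.mem_center_iff.2 fun g => Subtype.ext ?_⟩
    rcases h with h | h
    · show (g : G) * x = x * g; rw [h, one_mul, mul_one]
    · show (g : G) * x = x * g; rw [h]; exact (a_comm S g.2).symm
  have hsame : ∀ x y : ↥Q, (QuotientGroup.mk x : ↥Q ⧸ Z) = QuotientGroup.mk y ↔ Same a (x : G) y := by
    intro x y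
    rw [QuotientGroup.eq, hZ]
    show (x : G)⁻¹ * y = 1 ∨ (x : G)⁻¹ * y = a ↔ _
    rw [inv_mul_eq_iff_eq_mul, inv_mul_eq_iff_eq_mul, mul_one]
    rfl
  letI : CommGroup (↥Q ⧸ Z) :=
    { (inferInstance : Group (↥Q ⧸ Z)) with
      mul_comm := fun x y => by
        induction x using QuotientGroup.induction_on with
        | H x => induction y using QuotientGroup.induction_on with
          | H y =>
            show (QuotientGroup.mk (x * y) : ↥Q ⧸ Z) = QuotientGroup.mk (y * x)
            rw [hsame]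
            rcases comm_or S y.2 x.2 with h | h
            · exact Or.inl h
            · exact Or.inr h }
  let V := Additive (↥Q ⧸ Z)
  let π : ↥Q → V := fun x => Additive.ofMul (QuotientGroup.mk x : ↥Q ⧸ Z)
  have hπ : Function.Surjective π := fun v => by
    obtain ⟨x, hx⟩ := QuotientGroup.mk_surjective (Additive.toMul v)
    exact ⟨x, congrArg Additive.ofMul hx⟩
  have hπe : ∀ x y, π x = π y ↔ Same a (x : G) y := fun x y => Additive.ofMul.injective.eq_iff.trans (hsame x y)
  have hπm : ∀ x y, π (x * y) = π x + π y := fun x y => rfl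
  have h2 : ∀ v : V, v + v = 0 := fun v => by
    obtain ⟨x, rfl⟩ := hπ v
    rw [← hπm, show (0 : V) = π 1 from rfl, hπe]
    rcases sq_or S x.2 with h | h
    · exact Or.inl (show (1 : G) = (x : G) * x by rw [h])
    · exact Or.inr (show (1 : G) = (x : G) * x * a by rw [h, fk_sq S])
  let C := ↥(Subgroup.centralizer ({a} : Set G))
  let cj : C → (↥Q →* ↥Q) := fun h =>
    { toFun := fun x => ⟨(h : G) * x * (h : G)⁻¹, S.norm h h.2 x x.2⟩
      map_one' := Subtype.ext (by simp)
      map_mul' := fun x y => Subtype.ext (by simp [mul_assoc]) }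
  have hsm : ∀ (h : C) (x y : ↥Q), Same a (x : G) y → Same a (cj h x : G) (cj h y) := by
    intro h x y hxy
    rcases hxy with e | e
    · exact Or.inl (show (h : G) * y * (h : G)⁻¹ = h * x * (h : G)⁻¹ by rw [e])
    · refine Or.inr ?_
      show (h : G) * y * (h : G)⁻¹ = h * x * (h : G)⁻¹ * a
      rw [e]
      have := mem_cent.1 (inv_mem h.2)
      calc (h : G) * (x * a) * (h : G)⁻¹ = h * x * (a * (h : G)⁻¹) := by group
        _ = _ := by rw [this]; group
  let A : C → AddMonoid.End V := fun h =>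
    { toFun := fun v => π (cj h (Function.surjInv hπ v))
      map_zero' := by
        show π (cj h (Function.surjInv hπ 0)) = π 1
        refine (hπe _ _).2 ?_
        have := hsm h _ 1 ((hπe _ _).1 (Function.surjInv_eq hπ (π 1)))
        rw [map_one] at this
        exact this
      map_add' := fun u v => by
        rw [← hπm, ← map_mul]
        refine (hπe _ _).2 (hsm h _ _ ((hπe _ _).1 ?_))
        rw [Function.surjInv_eq hπ, hπm, Function.surjInv_eq hπ, Function.surjInv_eq hπ] }
  have hA : ∀ h x, A h (π x) = π (cj h x) := fun h x =>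
    (hπe _ _).2 (hsm h _ _ ((hπe _ _).1 (Function.surjInv_eq hπ _)))
  have hAm : ∀ h k, A (h * k) = A h * A k := fun h k => AddMonoidHom.ext fun v => by
    obtain ⟨x, rfl⟩ := hπ v
    show A (h * k) (π x) = A h (A k (π x))
    rw [hA, hA, hA]
    congr 1
    exact Subtype.ext (show (h : G) * k * x * ((h : G) * k)⁻¹ = h * (k * x * (k : G)⁻¹) * (h : G)⁻¹ by group)
  have hAQ : ∀ h : C, (h : G) ∈ Q → A h = 1 := fun h hh => AddMonoidHom.ext fun v => by
    obtain ⟨x, rfl⟩ := hπ v
    show A h (π x) = π x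
    rw [hA, hπe]
    have hm : (cj h x : G) = (h : G) * x * (h : G)⁻¹ := rfl
    refine same_iff.2 ⟨cmb (h : G) x, ?_⟩
    rw [hm, comm_eq S hh x.2, mul_assoc ((x : G) * h), zb_comm S _ (inv_mem hh), mul_assoc ((x : G) * h),
      mul_assoc (h : G)⁻¹, zb_mul S, Bool.xor_self]
    simp [zb]
  have hker : ∀ h : C, f h = 1 ↔ (h : G) ∈ Q := fun h => by
    rw [← MonoidHom.mem_ker, hfk, Subgroup.mem_subgroupOf]
  have hev : ∀ g, Perm.sign g = 1 → ∃ h, f h = g := fun g hg => by
    have : g ∈ f.range := hfr ▸ Perm.mem_alternatingGroup.2 hg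
    exact this
  let R : Perm (Fin 9) → AddMonoid.End V := fun g =>
    if hg : Perm.sign g = 1 then A (Classical.choose (hev g hg)) else 1
  have hR : ∀ h : C, R (f h) = A h := fun h => by
    have hs : Perm.sign (f h) = 1 := Perm.mem_alternatingGroup.1 (hfr ▸ ⟨h, rfl⟩)
    have hc := Classical.choose_spec (hev _ hs)
    show (if hg : Perm.sign (f h) = 1 then A (Classical.choose (hev (f h) hg)) else 1) = A h
    rw [dif_pos hs]
    set k := Classical.choose (hev _ hs)
    have hq : ((h⁻¹ * k : C) : G) ∈ Q := (hker _).1 (by rw [map_mul, map_inv, hc, inv_mul_cancel])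
    calc A k = A (h * (h⁻¹ * k)) := by rw [mul_inv_cancel_left]
      _ = A h := by rw [hAm, hAQ _ hq, mul_one]
  let r : Rep V :=
    { R := R
      mul := fun g g' hg hg' => by
        obtain ⟨h, rfl⟩ := hev g hg
        obtain ⟨k, rfl⟩ := hev g' hg'
        rw [← map_mul, hR, hR, hR, hAm]
      one := by rw [← map_one f, hR, hAQ _ (by simp)]
      two := h2 }
  haveI : Finite ↥Q := Nat.finite_of_card_ne_zero (by rw [S.card]; norm_num)
  haveI : Finite V := inferInstanceAs (Finite (↥Q ⧸ Z))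
  have hcardV : Nat.card V = 256 := by
    have := Subgroup.card_eq_card_quotient_mul_card_subgroup Z
    rw [S.card, show Nat.card ↥Z = 2 from S.extra.2] at this
    show Nat.card (↥Q ⧸ Z) = 256
    omega
  have hne : ∃ g, Perm.sign g = 1 ∧ r.R g ≠ 1 := by
    refine ⟨cy 0 1 2, sign_cy (by decide) (by decide), fun e => ?_⟩
    obtain ⟨h, hh⟩ := hev (cy 0 1 2) (sign_cy (by decide) (by decide))
    have hA1 : A h = 1 := by rw [← hR, hh]; exact e
    have hfix : ∀ q ∈ Q, (h : G) * q * (h : G)⁻¹ = q ∨ (h : G) * q * (h : G)⁻¹ = q * a := fun q hq => by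
      have := hA h ⟨q, hq⟩
      rw [hA1] at this
      exact (hπe ⟨q, hq⟩ _).1 this
    have h2 : ((h * h : C) : G) ∈ Q := by
      refine S.self _ (h * h).2 fun q hq => ?_
      have hca := mem_cent.1 h.2
      have e2 : (h : G) * ((h : G) * q * (h : G)⁻¹) * (h : G)⁻¹ = q := by
        rcases hfix q hq with e | e
        · rw [e, e]
        · rw [e]
          calc (h : G) * (q * a) * (h : G)⁻¹ = h * q * (a * (h : G)⁻¹) := by group
            _ = h * q * (h : G)⁻¹ * a := by rw [mem_cent.1 (inv_mem h.2)]; group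
            _ = q := by rw [e, mul_assoc, fk_sq S, mul_one]
      calc ((h * h : C) : G) * q = ((h : G) * ((h : G) * q * (h : G)⁻¹) * (h : G)⁻¹) * ((h * h : C) : G) := by
            rw [Subgroup.coe_mul]; group
        _ = _ := by rw [e2]
    have := (hker _).2 h2
    rw [map_mul, hh] at this
    exact absurd this (by decide +kernel)
  obtain ⟨σ, md, L, hmd, hinj, hact⟩ := r.coords hcardV hne
  have hadd := lin_xor r.two L
  have hinj2 : ∀ m < 256, ∀ n < 256, lin L m = lin L n → m = n := fun m hm n hn e =>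
    Nat.xor_eq_zero_iff.1 (hinj _ (xor_lt hm hn) (by rw [hadd, e, r.two]))
  have hsurj : ∀ z, ∃ m < 256, z = lin L m := by
    haveI := Fintype.ofFinite V
    have hb := (Fintype.bijective_iff_injective_and_card fun m : Fin 256 => lin L m.val).2
      ⟨fun m n e => Fin.ext (hinj2 _ m.2 _ n.2 e), by
        rw [Fintype.card_fin, ← Nat.card_eq_fintype_card, hcardV]⟩
    exact fun z => (hb.2 z).elim fun m hm => ⟨m.val, m.2, hm.symm⟩
  let F : ℕ → G := fun m => (Function.surjInv hπ (lin L m) : ↥Q)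
  have hF : ∀ m, π ⟨F m, (Function.surjInv hπ (lin L m)).2⟩ = lin L m := fun m => Function.surjInv_eq hπ _
  have hmem : ∀ m, F m ∈ Q := fun m => (Function.surjInv hπ (lin L m)).2
  let ν : C →* Perm (Fin 9) := (MulAut.conj σ⁻¹).toMonoidHom.comp f
  have hν : ∀ h, ν h = σ⁻¹ * f h * σ := fun h => by simp [ν, MulAut.conj_apply]
  have hactF : ∀ (w : List ℕ) (h : C), ν h = permW w → ∀ m < 256,
      Same a (F (act md.X w m)) ((h : G) * F m * (h : G)⁻¹) := by
    intro w h hh m hm
    refine (hπe ⟨_, hmem _⟩ (cj h ⟨F m, hmem m⟩)).1 ?_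
    rw [hF, ← hA, hF, ← hact w m hm, ← hR]
    rw [← hh, hν]
    have e : σ * (σ⁻¹ * f h * σ) * σ⁻¹ = f h := by group
    rw [e]
  have hmul : ∀ m n, Same a (F (m ^^^ n)) (F m * F n) := fun m n =>
    (hπe ⟨_, hmem _⟩ ⟨_, mul_mem (hmem m) (hmem n)⟩).1 (by
      rw [hF, hadd, ← hF m, ← hF n, ← hπm]; rfl)
  let qf : ℕ → Bool := fun m => sqb (F m)
  let bb : ℕ → ℕ → Bool := fun m n => cmb (F m) (F n)
  have hqm : ∀ m n, qf (m ^^^ n) = ((qf m ^^ qf n) ^^ bb n m) := fun m n => by
    obtain ⟨b, hb⟩ := same_iff.1 (hmul m n)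
    show sqb (F (m ^^^ n)) = _
    rw [← sqb_zb S b (hmem _), ← hb, sqb_mul S (hmem m) (hmem n)]
  have hbm : ∀ m n p, bb (m ^^^ n) p = (bb m p ^^ bb n p) := fun m n p => by
    obtain ⟨b, hb⟩ := same_iff.1 (hmul m n)
    show cmb (F (m ^^^ n)) (F p) = _
    rw [← cmb_zb S b (hmem _) (hmem p), ← hb, cmb_mul S (hmem m) (hmem n) (hmem p)]
  have hq0 : qf 0 = false := by
    have h := hπe ⟨F 0, hmem 0⟩ 1
    rw [hF, lin_zero] at h
    rcases h.1 rfl with e | e
    · have e' : (1 : G) = F 0 := e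
      simp [qf, sqb, ← e']
    · have e' : (1 : G) = F 0 * a := e
      have : F 0 = a := by
        calc F 0 = F 0 * (a * a) := by rw [fk_sq S, mul_one]
          _ = a := by rw [← mul_assoc, ← e', one_mul]
      simp [qf, sqb, this, fk_sq S]
  have hqi : ∀ i v, v < 256 → qf (ap (gen md.X i) v) = qf v := by
    intro i v hv
    obtain ⟨h, hh⟩ := hev (σ * cx i * σ⁻¹) (by simp [sign_cx])
    have hνh : ν h = permW [i] := by rw [hν, hh, permW, permW, mul_one]; group
    obtain ⟨b, hb⟩ := same_iff.1 (hactF [i] h hνh v hv)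
    show sqb (F (act md.X [i] v)) = sqb (F v)
    rw [← sqb_zb S b (hmem _), ← hb]
    simp only [sqb, decide_eq_decide]
    rw [show (h : G) * F v * (h : G)⁻¹ * ((h : G) * F v * (h : G)⁻¹) = h * (F v * F v) * (h : G)⁻¹ by group,
      ne_eq, ne_eq, not_iff_not, conj_eq_one_iff]
  have hcover : ∀ q ∈ Q, ∃ m < 256, Same a (F m) q := fun q hq => by
    obtain ⟨m, hm, e⟩ := hsurj (π ⟨q, hq⟩)
    exact ⟨m, hm, (hπe ⟨_, hmem m⟩ ⟨q, hq⟩).1 ((hF m).trans e.symm)⟩
  have hqne : ∃ v < 256, qf v = true := by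
    by_contra hc
    push Not at hc
    have hall : ∀ q ∈ Q, sqb q = false := fun q hq => by
      obtain ⟨m, hm, hs⟩ := hcover q hq
      obtain ⟨b, rfl⟩ := same_iff.1 hs
      rw [sqb_zb S b (hmem m)]
      simpa [qf] using hc m hm
    have htop : Subgroup.center ↥Q = ⊤ := (Subgroup.eq_top_iff' _).2 fun x =>
      Subgroup.mem_center_iff.2 fun y => Subtype.ext (by
        have := sqb_mul S y.2 x.2
        rw [hall _ (mul_mem y.2 x.2), hall _ y.2, hall _ x.2] at this
        simp [cmb] at this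
        exact this.symm)
    have h := S.extra.2
    rw [htop, Subgroup.card_top, S.card] at h
    omega
  have huniq : ∀ v < 256, qf v = md.q v := by
    have h3 : ∀ u v w, u < 256 → v < 256 → w < 256 → ((((((qf ((u ^^^ v) ^^^ w) ^^ qf (u ^^^ v)) ^^
        qf (u ^^^ w)) ^^ qf (v ^^^ w)) ^^ qf u) ^^ qf v) ^^ qf w) = false := by
      intro u v w _ _ _
      rw [hqm (u ^^^ v) w, hqm u v, hqm u w, hqm v w,
        show bb w (u ^^^ v) = (bb w u ^^ bb w v) by
          show cmb _ _ = (cmb _ _ ^^ cmb _ _)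
          rw [cmb_symm, cmb_symm (F w), cmb_symm (F w)]
          exact hbm u v w]
      cases qf u <;> cases qf v <;> cases qf w <;> cases bb v u <;> cases bb w u <;> cases bb w v <;> rfl
    rcases hmd with rfl | rfl
    · exact form_unique formS hq0 hqi h3 hqne
    · exact form_unique formP hq0 hqi h3 hqne
  have hm0 : md.X.all (fun M => M.all fun z => Nat.blt z 256) = true := by
    rcases hmd with rfl | rfl <;> decide +kernel
  let cc : G → ℕ := fun x => if hx : x ∈ Q then (hsurj (π ⟨x, hx⟩)).choose else 0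
  have hcc : ∀ x (hx : x ∈ Q), cc x < 256 ∧ π ⟨x, hx⟩ = lin L (cc x) := fun x hx => by
    simp only [cc, dif_pos hx]
    exact (hsurj (π ⟨x, hx⟩)).choose_spec
  have K : Coords a Q md := {
    π := ν
    sign_π := fun h => by
      rw [hν, map_mul, map_mul, show Perm.sign (f h) = 1 from Perm.mem_alternatingGroup.1 (hfr ▸ ⟨h, rfl⟩)]
      simp
    surj := fun g hg => by
      obtain ⟨h, hh⟩ := hev (σ * g * σ⁻¹) (by simp [hg])
      exact ⟨h, by rw [hν, hh]; group⟩
    ker := fun h => by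
      rw [hν, ← hker]
      constructor
      · intro e
        calc f h = σ * (σ⁻¹ * f h * σ) * σ⁻¹ := by group
          _ = 1 := by rw [e]; group
      · intro e; rw [e]; group
    c := cc
    c_lt := fun q hq => (hcc q hq).1
    c_mul := fun q hq r hr => hinj2 _ (hcc _ (mul_mem hq hr)).1 _ (xor_lt (hcc q hq).1 (hcc r hr).1) (by
      rw [hadd, ← (hcc _ (mul_mem hq hr)).2, ← (hcc q hq).2, ← (hcc r hr).2, ← hπm]; rfl)
    c_ker := fun q hq => by
      have h1 : cc q = 0 ↔ π 1 = π ⟨q, hq⟩ := by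
        refine ⟨fun e => ?_, fun e => hinj2 _ (hcc q hq).1 _ (by norm_num) ?_⟩
        · rw [(hcc q hq).2, e, lin_zero]; rfl
        · rw [← (hcc q hq).2, ← e, lin_zero]; rfl
      rw [h1, hπe]
      show (q = 1 ∨ q = 1 * a) ↔ _
      rw [one_mul]
    c_surj := fun v hv => by
      obtain ⟨x, hx⟩ := hπ (lin L v)
      exact ⟨x, x.2, hinj2 _ (hcc x x.2).1 _ hv ((hcc x x.2).2.symm.trans hx)⟩
    sq := fun q hq => by
      obtain ⟨b, hb⟩ := same_iff.1 ((hπe ⟨F (cc q), hmem _⟩ ⟨q, hq⟩).1 ((hF _).trans (hcc q hq).2.symm))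
      have hs : sqb q = md.q (cc q) := by
        rw [← huniq _ (hcc q hq).1]
        show sqb q = sqb (F (cc q))
        rw [show q = F (cc q) * zb a b from hb, sqb_zb S b (hmem _)]
        rw [← show q = F (cc q) * zb a b from hb]
      rw [sq_eq S hq, hs]
      rfl
    act := fun h w hw q hq => by
      have hm' : (h : G) * q * (h : G)⁻¹ ∈ Q := S.norm _ h.2 q hq
      refine hinj2 _ (hcc _ hm').1 _ (act_lt hm0 w (hcc q hq).1) ?_
      rw [← (hcc _ hm').2, ← hact w _ (hcc q hq).1, ← (hcc q hq).2, hw, hν,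
        show σ * (σ⁻¹ * f h * σ) * σ⁻¹ = f h by group]
      show _ = R (f h) (π ⟨q, hq⟩)
      rw [hR, hA]
      rfl }
  rcases hmd with rfl | rfl
  · exact Or.inl ⟨K⟩
  · exact Or.inr ⟨K⟩

end

end Cfsg.Agent.ThRec
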