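import Cfsg.Agent.Lib.ThRec.FusionPair
import Cfsg.Agent.Lib.ThRec.ModuleCoord

/-!
The fusion: `a` is conjugate to another element of its extraspecial group.
-/

set_option autoImplicit false

namespace Cfsg.Agent.ThRec

variable {G : Type*} [Group G] {a : G} {Q : Subgroup G}

/-- **Fusion**. -/
theorem fused [Finite G] (S : Setup a Q) : Fused a Q := by
  rcases S.exists_coords with ⟨⟨K⟩⟩ | ⟨⟨K⟩⟩
  · exact fused_spin S K
  · exact fused_perm S K

end Cfsg.Agent.ThRec
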