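import Cfsg.Agent.Lib.ThRec.FusionKey

/-!
The count in the fusion step, for the four kinds of involution on the two modules.
-/

set_option autoImplicit false
set_option maxRecDepth 100000

namespace Cfsg.Agent.ThRec.Pair

open Equiv Eight

variable {G : Type*} [Group G] {a : G} {Q : Subgroup G}
variable {md : Md} {iv : Inv} {g : G} (P : Pair a Q md iv g)

/-- The other extraspecial group. -/
def R : Subgroup G where
  carrier := {x | P.inR x}
  one_mem' := by show g⁻¹ * 1 * g ∈ Q; simp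
  mul_mem' := fun h h' => P.R_mul h h'
  inv_mem' := fun h => P.R_inv h

theorem mem_R {x : G} : x ∈ P.R ↔ P.inR x := Iff.rfl

/-- The meet. -/
def I : Subgroup G := Q ⊓ P.R

theorem I_Y {i : G} (h : i ∈ P.I) : i ∈ P.Y := P.mem_Y.2 ⟨h.1, P.R_comm h.2⟩

theorem I_comm {i y : G} (hi : i ∈ P.I) (hy : y ∈ P.Y) : y * i = i * y := by
  obtain ⟨hyQ, hyb⟩ := P.mem_Y.1 hy
  have h := P.K.swap_mul P.S hi.1 hyQ
  cases hB : md.B (P.K.c i) (P.K.c y) <;> rw [hB] at h
  · simpa [tw] using h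
  · exfalso
    refine P.a_not_R ?_
    have := P.R_mul (P.R_inv hi.2) (P.R_norm hyb hi.2)
    rwa [h, show tw a true = a from rfl, show i⁻¹ * (i * y * a * y⁻¹) = y * a * y⁻¹ by group,
      P.S.q_comm hyQ, mul_inv_cancel_right] at this

theorem I_B {i y : G} (hi : i ∈ P.I) (hy : y ∈ P.Y) : md.B (P.K.c i) (P.K.c y) = false := by
  have h := P.K.swap_mul P.S hi.1 (P.mem_Y.1 hy).1
  rw [P.I_comm hi hy, left_eq_mul] at h
  cases hB : md.B (P.K.c i) (P.K.c y)
  · rfl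
  · rw [hB] at h; simp [tw, P.S.fk_ne] at h

theorem I_q {i : G} (hi : i ∈ P.I) : md.q (P.K.c i) = false := by
  cases hq : md.q (P.K.c i)
  · rfl
  · exfalso
    refine P.a_not_R ?_
    have := P.R_mul hi.2 hi.2
    rwa [P.K.sq i hi.1, hq, show tw a true = a from rfl] at this

theorem I_c {i : G} (hi : i ∈ P.I) (h : P.K.c i = 0) : i = 1 :=
  ((P.K.c_ker i hi.1).1 h).resolve_right fun e => P.a_not_R (e ▸ hi.2)

theorem I_lift {i : G} (hi : i ∈ P.I) {q : G} (hq : q ∈ Q) (h : md.comV iv.wd (P.K.c q) = P.K.c i) :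
    P.m q = i ∨ P.m q = i * a := by
  rw [← P.c_m hq] at h
  obtain ⟨e, he⟩ := P.K.c_eq hi.1 (P.m_mem hq) h.symm
  cases e
  · exact Or.inl (by simpa [tw] using he)
  · exact Or.inr (by simpa [tw] using he)

theorem I_m {i : G} (hi : i ∈ P.I) (h1 : i ≠ 1) {q : G} (hq : q ∈ Q)
    (h : md.comV iv.wd (P.K.c q) = P.K.c i) : P.m q = i * a := by
  rcases P.I_lift hi hq h with e | e
  · exact absurd (e ▸ P.m_not_R (e ▸ hi.2)) h1
  · exact e

theorem inW_iff {v : ℕ} (h : md.inW iv.wd v = true) : ∃ q ∈ Q, md.comV iv.wd (P.K.c q) = v := by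
  simp only [Md.inW, List.any_eq_true, List.mem_range] at h
  obtain ⟨u, hu, e⟩ := h
  obtain ⟨q, hq, rfl⟩ := P.K.c_surj u hu
  exact ⟨q, hq, Nat.eq_of_beq_eq_true e⟩

/-- The centraliser of `a` in the other group. -/
def Z : Subgroup G := P.R ⊓ Subgroup.centralizer {a}

theorem z_mem_C {z : G} (hz : z ∈ P.Z) : z ∈ Subgroup.centralizer ({a} : Set G) := hz.2

theorem z_comm {z : G} (hz : z ∈ P.Z) : z * P.b = P.b * z := P.R_comm hz.1

theorem z_word {z : G} (hz : z ∈ P.Z) : ∃ w ∈ cent iv, permW w = P.K.π ⟨z, hz.2⟩ := by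
  refine enum_complete (yi := imgW iv.wd) (yp := permW iv.wd) (imgW_spec iv.wd) (P.K.sign_π _) (fun i => ?_)
    8 le_rfl [] (fun i h => by omega)
  have e : (⟨z, hz.2⟩ : ↥(Subgroup.centralizer ({a} : Set G))) * ⟨g * a * g⁻¹, P.mem⟩ =
      ⟨g * a * g⁻¹, P.mem⟩ * ⟨z, hz.2⟩ := Subtype.ext (P.z_comm hz)
  have := DFunLike.congr_fun (congrArg P.K.π e) i
  rwa [map_mul, map_mul, P.perm, Perm.mul_apply, Perm.mul_apply] at this

theorem z_move {z y : G} (hz : z ∈ P.Z) (hy : y ∈ P.Y) : z * y * z⁻¹ * y⁻¹ ∈ P.I := by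
  obtain ⟨hyQ, hyb⟩ := P.mem_Y.1 hy
  refine ⟨Q.mul_mem (P.S.norm z hz.2 y hyQ) (Q.inv_mem hyQ), ?_⟩
  rw [show z * y * z⁻¹ * y⁻¹ = z * (y * z⁻¹ * y⁻¹) by group]
  exact P.R_mul hz.1 (P.R_norm hyb (P.R_inv hz.1))

/-- The image on nine points of the centraliser of `a` in the other group is bounded by a list. -/
theorem card_Z (L : List (List ℕ))
    (hL : ∀ z (hz : z ∈ P.Z), ∃ w ∈ L, permW w = P.K.π ⟨z, hz.2⟩) :
    Nat.card ↥P.Z ≤ Nat.card ↥P.I * L.length := by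
  classical
  let ψ : ↥P.Z →* Perm (Fin 9) := P.K.π.comp (Subgroup.inclusion (inf_le_right : P.Z ≤ _))
  have hker : ∀ z : ↥ψ.ker, ((z : ↥P.Z) : G) ∈ P.I := fun z =>
    ⟨(P.K.ker (Subgroup.inclusion inf_le_right (z : ↥P.Z))).1 z.2, (z : ↥P.Z).2.1⟩
  have h1 : Nat.card ↥ψ.ker ≤ Nat.card ↥P.I := by
    haveI : Finite ↥P.I := by
      haveI : Finite ↥Q := Nat.finite_of_card_ne_zero (by rw [P.S.card]; decide)
      exact Finite.of_injective (fun i : ↥P.I => (⟨i.1, i.2.1⟩ : ↥Q))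
        fun x y e => Subtype.ext (congrArg (fun q : ↥Q => (q : G)) e)
    refine Nat.card_le_card_of_injective (fun z => (⟨_, hker z⟩ : ↥P.I)) fun x y e => ?_
    exact Subtype.ext (Subtype.ext (congrArg (fun q : ↥P.I => (q : G)) e))
  have h2 : Nat.card ↥ψ.range ≤ L.length := by
    have hr : ∀ p : ↥ψ.range, (p : Perm (Fin 9)) ∈ (L.map permW).toFinset := by
      rintro ⟨_, ⟨z, hz⟩, rfl⟩
      obtain ⟨w, hw, e⟩ := hL z hz
      exact List.mem_toFinset.2 (List.mem_map.2 ⟨w, hw, e⟩)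
    refine le_trans (Nat.card_le_card_of_injective
      (fun p => (⟨_, hr p⟩ : ↥(L.map permW).toFinset))
      fun x y e => Subtype.ext (congrArg (fun q : ↥(L.map permW).toFinset => (q : Perm (Fin 9))) e)) ?_
    rw [Nat.card_eq_finsetCard]
    exact (List.toFinset_card_le _).trans (le_of_eq (List.length_map _))
  rw [← ψ.ker.card_mul_index, Subgroup.index_ker]
  exact Nat.mul_le_mul h1 h2

theorem lam_mask {v : ℕ} (hv : v < 256) :
    lam iv.fb P.mask (md.comV iv.wd v) = md.q (md.comV iv.wd v) := by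
  obtain ⟨hf, hl⟩ := P.L_comV hv
  rw [P.lam_eq hf, hl]

/-- The count when the form is nonzero on the commutators. -/
theorem count_T (h : md.allT iv = true) : Nat.card ↥P.Z < Nat.card ↥P.Y := by
  classical
  simp only [Md.allT, Bool.and_eq_true] at h
  obtain ⟨h0, h⟩ := h
  have hc := List.all_eq_true.1 h P.mask (List.mem_range.2 (maskOf_lt _ _))
  simp only [Md.caseT, Bool.or_eq_true, Bool.and_eq_true] at hc
  rcases hc with hc | ⟨hI, hn⟩
  · exfalso
    rw [Bool.not_eq_true', List.all_eq_false] at hc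
    obtain ⟨v, hv, hne⟩ := hc
    rw [P.lam_mask (List.mem_range.1 hv)] at hne
    simp at hne
  simp only [List.any_eq_true, List.mem_range] at h0
  obtain ⟨v0, hv0, hq0⟩ := h0
  obtain ⟨q0, hq0Q, rfl⟩ := P.K.c_surj v0 hv0
  have hI1 : ∀ i ∈ P.I, i = 1 := by
    intro i hi
    have h := List.all_eq_true.1 hI _ (P.hList_Y (P.I_Y hi))
    simp only [Bool.or_eq_true] at h
    rcases h with ((h | h) | h) | h
    · exact P.I_c hi (Nat.eq_of_beq_eq_true h)
    · rw [P.I_q hi] at h; exact absurd h Bool.false_ne_true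
    · obtain ⟨x, hx, hB⟩ := List.any_eq_true.1 h
      obtain ⟨y, hy, rfl⟩ := P.exists_Y hx
      rw [P.I_B hi hy] at hB
      exact absurd hB Bool.false_ne_true
    · obtain ⟨q, hq, e⟩ := P.inW_iff h
      rcases P.I_lift hi hq e with e' | e'
      · exact e' ▸ P.m_not_R (e' ▸ hi.2)
      · have hf : P.b * P.m q0 * P.b⁻¹ = P.m q0 * a := by
          obtain ⟨hf, hl⟩ := P.L_comV (P.K.c_lt q0 hq0Q)
          rw [hq0] at hl
          rw [← P.c_m hq0Q] at hf hl
          have := P.L_eq (P.m_mem hq0Q) hf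
          rwa [hl] at this
        have hmm : P.m (P.m q0) = a := by
          rw [m_def, hf, mul_assoc, ← P.S.q_comm (Q.inv_mem (P.m_mem hq0Q)), mul_inv_cancel_left]
        have : P.m (q * P.m q0) = i := by
          rw [P.m_prod, hmm, e', P.S.q_comm hq, mul_inv_cancel_right, mul_assoc, P.S.fk_sq, mul_one]
        exact this ▸ P.m_not_R (this ▸ hi.2)
  have hcard : Nat.card ↥P.I = 1 :=
    Subgroup.eq_bot_iff_forall _ |>.2 hI1 |> fun e => by rw [e]; exact Subgroup.card_bot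
  refine lt_of_le_of_lt (P.card_Z ((cent iv).filter (md.fixes (md.hList iv P.mask))) fun z hz => ?_) ?_
  · obtain ⟨w, hw, e⟩ := P.z_word hz
    refine ⟨w, List.mem_filter.2 ⟨hw, List.all_eq_true.2 fun x hx => ?_⟩, e⟩
    obtain ⟨y, hy, rfl⟩ := P.exists_Y hx
    have h1 := hI1 _ (P.z_move hz hy)
    rw [mul_inv_eq_one] at h1
    rw [← P.K.act ⟨z, hz.2⟩ w e y (P.mem_Y.1 hy).1]
    rw [show ((⟨z, hz.2⟩ : ↥(Subgroup.centralizer ({a} : Set G))) : G) = z from rfl, h1]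
    exact Nat.beq_refl _
  · rw [hcard, one_mul, P.card_Y]
    exact Nat.le_of_ble_eq_true hn

theorem comV_xor (u v : ℕ) : md.comV iv.wd (u ^^^ v) = md.comV iv.wd u ^^^ md.comV iv.wd v := by
  show Eight.act md.X iv.wd (u ^^^ v) ^^^ (u ^^^ v) =
    (Eight.act md.X iv.wd u ^^^ u) ^^^ (Eight.act md.X iv.wd v ^^^ v)
  rw [act_xor]
  simp [Nat.xor_assoc, Nat.xor_left_comm]

/-- The count when the form vanishes on the commutators. -/
theorem count_F (h : md.caseF iv = true) : Nat.card ↥P.Z < Nat.card ↥P.Y := by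
  classical
  simp only [Md.caseF, Bool.and_eq_true] at h
  obtain ⟨⟨⟨hq, hF⟩, hbad⟩, hn⟩ := h
  have hl0 : ∀ v, lam iv.fb 0 v = false := fun v => by
    simp only [lam, List.any_eq_false, Bool.and_eq_true, not_and]
    intro i _ _
    have := parity_zero iv.fb.length i
    exact Bool.eq_false_iff.1 this
  have hF' : ∀ v, P.fixed v → md.inW iv.wd v = true := fun v hv => List.all_eq_true.1 hF v (by
    simp only [Md.hList, List.mem_filter, List.mem_range, Bool.and_eq_true, Bool.not_eq_true']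
    exact ⟨hv.1, by rw [hv.2]; exact Nat.beq_refl v, hl0 v⟩)
  have hL : ∀ v, P.fixed v → P.L v = false := fun v hv => by
    obtain ⟨q, hqQ, e⟩ := P.inW_iff (hF' v hv)
    obtain ⟨-, hl⟩ := P.L_comV (P.K.c_lt q hqQ)
    rw [e] at hl
    rw [hl, ← e]
    simpa using allV_spec hq (P.K.c_lt q hqQ)
  have hH : md.hList iv P.mask = md.hList iv 0 := by
    refine List.filter_congr fun v hv => ?_
    cases hb : Nat.beq (Eight.act md.X iv.wd v) v
    · rfl
    · have hf : P.fixed v := ⟨List.mem_range.1 hv, Nat.eq_of_beq_eq_true hb⟩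
      rw [P.lam_eq hf, hL v hf, hl0 v]
  have hfix_conj : ∀ {q}, q ∈ Q → P.fixed (P.K.c q) → P.b * q * P.b⁻¹ = q := fun {q} hq hf => by
    have := P.L_eq hq hf
    rwa [hL _ hf, show tw a false = (1 : G) from rfl, mul_one] at this
  have huniq : ∀ {q q'}, q ∈ Q → q' ∈ Q → md.comV iv.wd (P.K.c q) = md.comV iv.wd (P.K.c q') →
      P.m q = P.m q' := by
    intro q q' hq hq' e
    have hf : q⁻¹ * q' ∈ Q := Q.mul_mem (Q.inv_mem hq) hq'
    have hfix : P.fixed (P.K.c (q⁻¹ * q')) := by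
      refine ⟨P.K.c_lt _ hf, ?_⟩
      have h0 : md.comV iv.wd (P.K.c (q⁻¹ * q')) = 0 := by
        rw [P.K.c_mul _ (Q.inv_mem hq) _ hq', P.K.c_inv hq, comV_xor, e, Nat.xor_self]
      exact eq_of_xor h0
    have : P.m (q⁻¹ * q') = 1 := by rw [m_def, hfix_conj hf hfix, mul_inv_cancel]
    have h2 := P.m_prod (q := q) (r := q⁻¹ * q')
    rw [mul_inv_cancel_left, this, mul_one, mul_inv_cancel, mul_one] at h2
    exact h2.symm
  have hlift : ∀ y ∈ P.Y, ∃ q ∈ Q, md.comV iv.wd (P.K.c q) = P.K.c y := fun y hy =>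
    P.inW_iff (hF' _ (P.fixed_c (P.mem_Y.1 hy).1 (Or.inl (P.conj_Y hy))))
  have hpair : ∀ {i j q}, i ∈ P.I → j ∈ P.I → i ≠ 1 → j ≠ 1 → i * j ≠ 1 → q ∈ Q → P.m q = i * a →
      q * j * q⁻¹ = j * a := by
    intro i j q hi hj h1 h2 h3 hqQ hmq
    obtain ⟨q2, hq2, e2⟩ := hlift j (P.I_Y hj)
    have hm2 := P.I_m hj h2 hq2 e2
    have hc : md.comV iv.wd (P.K.c (q * q2)) = P.K.c (i * j) := by
      rw [P.K.c_mul _ hqQ _ hq2, comV_xor, e2, ← P.c_m hqQ, hmq, P.K.c_mul _ hi.1 _ P.S.a_mem,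
        P.K.c_a P.S, Nat.xor_zero, P.K.c_mul _ hi.1 _ hj.1]
    have hm := P.I_m (P.I.mul_mem hi hj) h3 (Q.mul_mem hqQ hq2) hc
    rw [P.m_prod, hmq, hm2, mul_assoc, mul_assoc i j a] at hm
    have h4 := mul_left_cancel hm
    rw [← mul_assoc q, mul_assoc (q * j), ← P.S.q_comm (Q.inv_mem hqQ), ← mul_assoc, ← mul_assoc,
      ← mul_assoc] at h4
    have h5 : a * (q * j * q⁻¹) = j := mul_right_cancel (b := a) (by simp only [← mul_assoc]; exact h4)
    rw [← P.S.q_comm (P.S.norm q (P.S.le hqQ) j hj.1)] at h5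
    have h6 := congrArg (· * a) h5
    simp only [mul_assoc (q * j * q⁻¹), P.S.fk_sq, mul_one] at h6
    exact h6
  haveI : Finite ↥Q := Nat.finite_of_card_ne_zero (by rw [P.S.card]; decide)
  haveI : Finite ↥P.I := Finite.of_injective (fun i : ↥P.I => (⟨i.1, i.2.1⟩ : ↥Q))
    fun x y e => Subtype.ext (congrArg (fun q : ↥Q => (q : G)) e)
  have hI4 : Nat.card ↥P.I ≤ 4 := by
    by_contra hgt
    haveI := Fintype.ofFinite ↥P.I
    rw [Nat.card_eq_fintype_card] at hgt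
    have pick : ∀ s : Finset ↥P.I, s.card ≤ 4 → ∃ x : ↥P.I, x ∉ s := fun s hs => by
      by_contra hh
      push Not at hh
      rw [Finset.eq_univ_iff_forall.2 hh, Finset.card_univ] at hs
      exact hgt hs
    have sq1 : ∀ x ∈ P.I, x * x = 1 := fun x hx => by
      rw [P.K.sq x hx.1, P.I_q hx]; rfl
    obtain ⟨i, hi⟩ := pick {1} (by simp)
    obtain ⟨j, hj⟩ := pick {1, i} (Finset.card_le_two.trans (by omega))
    obtain ⟨k, hk⟩ := pick {1, i, j, i * j} Finset.card_le_four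
    simp only [Finset.mem_insert, Finset.mem_singleton, not_or] at hi hj hk
    have n1 : (i : G) ≠ 1 := fun e => hi (Subtype.ext e)
    have ne_of : ∀ {x y : ↥P.I}, x ≠ y → (x : G) * y ≠ 1 := fun {x y} hxy e => hxy (Subtype.ext (by
      calc (x : G) = x * (y * y) := by rw [sq1 _ y.2, mul_one]
        _ = y := by rw [← mul_assoc, e, one_mul]))
    obtain ⟨q, hqQ, e⟩ := hlift _ (P.I_Y i.2)
    have hmq := P.I_m i.2 n1 hqQ e
    have hj' := hpair i.2 j.2 n1 (fun e => hj.1 (Subtype.ext e)) (ne_of (Ne.symm hj.2)) hqQ hmq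
    have hk' := hpair i.2 k.2 n1 (fun e => hk.1 (Subtype.ext e)) (ne_of (Ne.symm hk.2.1)) hqQ hmq
    have hjk : (j : G) * k ≠ 1 := ne_of (Ne.symm hk.2.2.1)
    have hijk : (i : G) * (j * k) ≠ 1 := by
      rw [← mul_assoc]; exact ne_of (x := i * j) (Ne.symm hk.2.2.2)
    have h := hpair i.2 (P.I.mul_mem j.2 k.2) n1 hjk hijk hqQ hmq
    rw [show q * ((j : G) * k) * q⁻¹ = (q * j * q⁻¹) * (q * k * q⁻¹) by group, hj', hk', mul_assoc (j : G) a,
      ← mul_assoc a, ← P.S.q_comm k.2.1, mul_assoc (k : G), P.S.fk_sq, mul_one] at h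
    exact P.S.fk_ne (left_eq_mul.1 h)
  refine lt_of_le_of_lt (P.card_Z ((cent iv).filter (md.fixes (md.hList iv 0))) fun z hz => ?_) ?_
  · obtain ⟨w, hw, e⟩ := P.z_word hz
    refine ⟨w, List.mem_filter.2 ⟨hw, ?_⟩, e⟩
    have := List.all_eq_true.1 hbad w hw
    rw [Bool.or_eq_true] at this
    refine this.resolve_right fun hb => ?_
    simp only [Md.bad, List.any_eq_true, Bool.and_eq_true, Bool.not_eq_true', List.mem_range] at hb
    obtain ⟨f, hf, hd, v, hv, hve, hB⟩ := hb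
    rw [← hH] at hf
    obtain ⟨y, hy, rfl⟩ := P.exists_Y hf
    obtain ⟨qf, hqf, ef⟩ := hlift y hy
    have hyQ := (P.mem_Y.1 hy).1
    obtain ⟨ey, hey⟩ := P.K.c_eq hyQ (P.m_mem hqf) (by rw [P.c_m hqf, ef])
    obtain ⟨q1, hq1, rfl⟩ := P.K.c_surj v hv
    have hmY : P.m qf ∈ P.Y := by
      rw [hey]; refine P.Y.mul_mem hy ?_
      cases ey
      · exact P.Y.one_mem
      · exact P.mem_Y.2 ⟨P.S.a_mem, P.a_comm_b⟩
    have hcm : P.K.c (P.m qf) = P.K.c y := by rw [P.c_m hqf, ef]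
    let i := z * P.m qf * z⁻¹ * (P.m qf)⁻¹
    have hi : i ∈ P.I := P.z_move hz hmY
    have hzq : z * qf * z⁻¹ ∈ Q := P.S.norm z hz.2 qf hqf
    have hzm : z * P.m qf * z⁻¹ ∈ Q := P.S.norm z hz.2 _ (P.m_mem hqf)
    have hcz : P.K.c (z * P.m qf * z⁻¹) = Eight.act md.X w (P.K.c y) := by
      rw [← hcm]; exact P.K.act ⟨z, hz.2⟩ w e _ (P.m_mem hqf)
    have hci : P.K.c i = Eight.act md.X w (P.K.c y) ^^^ P.K.c y := by
      rw [show i = z * P.m qf * z⁻¹ * (P.m qf)⁻¹ from rfl, P.K.c_mul _ hzm _ (Q.inv_mem (P.m_mem hqf)),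
        hcz, P.K.c_inv (P.m_mem hqf), hcm]
    have hi1 : i ≠ 1 := fun e1 => by
      rw [e1, P.K.c_one] at hci
      rw [show Nat.xor (Eight.act md.X w (P.K.c y)) (P.K.c y) = 0 from hci.symm] at hd
      simp at hd
    have hm1 : P.m q1 = i * a := P.I_m hi hi1 hq1 ((Nat.eq_of_beq_eq_true hve).trans hci.symm)
    have hconj : z * P.m qf * z⁻¹ = P.m (z * qf * z⁻¹) := by
      rw [m_def, m_def]
      have := P.z_comm hz
      calc z * (P.b * qf * P.b⁻¹ * qf⁻¹) * z⁻¹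
          = (z * P.b) * qf * (z * P.b)⁻¹ * (z * qf * z⁻¹)⁻¹ := by group
        _ = _ := by rw [this]; group
    have h2 : P.m (q1 * qf) = P.m (z * qf * z⁻¹) := by
      refine huniq (Q.mul_mem hq1 hqf) hzq ?_
      rw [P.K.c_mul _ hq1 _ hqf, comV_xor, ef, (Nat.eq_of_beq_eq_true hve), ← P.c_m hzq, ← hconj, hcz]
      exact Nat.xor_xor_cancel_right _ _
    rw [← hconj, P.m_prod, hm1, show z * P.m qf * z⁻¹ = i * P.m qf by simp [i],
      mul_assoc] at h2
    have h3 := mul_left_cancel h2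
    have hs := P.K.swap_mul P.S hq1 (P.m_mem hqf)
    rw [hcm, hB, show tw a false = (1 : G) from rfl, mul_one] at hs
    rw [← hs, mul_inv_cancel_right] at h3
    exact P.S.fk_ne (mul_eq_right.1 h3)
  · rw [P.card_Y, hH]
    calc _ ≤ 4 * ((cent iv).filter (md.fixes (md.hList iv 0))).length := Nat.mul_le_mul_right _ hI4
      _ < _ := Nat.le_of_ble_eq_true hn

end Cfsg.Agent.ThRec.Pair
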