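import Cfsg.Agent.Lib.ThRec.Setup
import Cfsg.Agent.Lib.ThRec.ModuleCheck

/-!
The fusion step: if `a` is the only conjugate of itself in its extraspecial group, then for a conjugate
`g a g⁻¹ ≠ a` in the centraliser of `a` the centraliser of `g⁻¹ a g` in `Q` is smaller than the one of `g a g⁻¹`.
-/

set_option autoImplicit false
set_option maxRecDepth 100000

namespace Cfsg.Agent.ThRec

open Equiv Eight

variable {G : Type*} [Group G] {a : G} {Q : Subgroup G}

/-- A power of `a` given by a bit. -/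
def tw (a : G) (e : Bool) : G := cond e a 1

/-- Coordinates on `Q` modulo `a`, in which the centraliser of `a` acts as on a given module. -/
structure Coords (a : G) (Q : Subgroup G) (md : Md) where
  /-- The action on nine points. -/
  π : ↥(Subgroup.centralizer ({a} : Set G)) →* Perm (Fin 9)
  sign_π : ∀ x, Perm.sign (π x) = 1
  surj : ∀ p : Perm (Fin 9), Perm.sign p = 1 → ∃ x, π x = p
  ker : ∀ x : ↥(Subgroup.centralizer ({a} : Set G)), π x = 1 ↔ (x : G) ∈ Q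
  /-- The coordinates. -/
  c : G → ℕ
  c_lt : ∀ q ∈ Q, c q < 256
  c_mul : ∀ q ∈ Q, ∀ r ∈ Q, c (q * r) = c q ^^^ c r
  c_ker : ∀ q ∈ Q, c q = 0 ↔ q = 1 ∨ q = a
  c_surj : ∀ v < 256, ∃ q ∈ Q, c q = v
  sq : ∀ q ∈ Q, q * q = tw a (md.q (c q))
  act : ∀ (x : ↥(Subgroup.centralizer ({a} : Set G))) (w : List ℕ), permW w = π x →
    ∀ q ∈ Q, c ((x : G) * q * (x : G)⁻¹) = Eight.act md.X w (c q)

theorem Setup.fk_sq (S : Setup a Q) : a * a = 1 := by
  rw [← pow_two, ← S.ha, pow_orderOf_eq_one]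

theorem Setup.fk_ne (S : Setup a Q) : a ≠ 1 := fun e => by
  have := S.ha; rw [e, orderOf_one] at this; omega

theorem Setup.q_comm (S : Setup a Q) {q : G} (hq : q ∈ Q) : q * a = a * q :=
  Subgroup.mem_centralizer_singleton_iff.1 (S.le hq)

theorem Setup.a_mem (S : Setup a Q) : a ∈ Q :=
  S.self a (Subgroup.mem_centralizer_singleton_iff.2 rfl) fun _ hq => (S.q_comm hq).symm

theorem eq_of_xor {u v : ℕ} (h : u ^^^ v = 0) : u = v := by
  calc u = u ^^^ (v ^^^ v) := by simp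
    _ = v := by rw [← Nat.xor_assoc, h, Nat.zero_xor]

namespace Coords

variable {md : Md} (K : Coords a Q md)

theorem c_one : K.c 1 = 0 := (K.c_ker 1 Q.one_mem).2 (Or.inl rfl)

theorem c_a (S : Setup a Q) : K.c a = 0 := (K.c_ker a S.a_mem).2 (Or.inr rfl)

theorem tw_mem (S : Setup a Q) (e : Bool) : tw a e ∈ Q := by
  cases e
  · exact Q.one_mem
  · exact S.a_mem

theorem c_inv {q : G} (hq : q ∈ Q) : K.c q⁻¹ = K.c q := by
  have h := K.c_mul q hq q⁻¹ (Q.inv_mem hq)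
  rw [mul_inv_cancel, K.c_one] at h
  exact (eq_of_xor h.symm).symm

theorem c_eq {q r : G} (hq : q ∈ Q) (hr : r ∈ Q) (h : K.c q = K.c r) : ∃ e, r = q * tw a e := by
  have h' := K.c_mul q⁻¹ (Q.inv_mem hq) r hr
  rw [K.c_inv hq, h, Nat.xor_self] at h'
  rcases (K.c_ker _ (Q.mul_mem (Q.inv_mem hq) hr)).1 h' with e | e
  · exact ⟨false, by rw [inv_mul_eq_one] at e; simp [tw, e]⟩
  · exact ⟨true, by rw [inv_mul_eq_iff_eq_mul] at e; simpa [tw] using e⟩

theorem swap_mul (S : Setup a Q) {q r : G} (hq : q ∈ Q) (hr : r ∈ Q) :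
    r * q = q * r * tw a (md.B (K.c q) (K.c r)) := by
  have hqr : q * r * (q * r) = tw a (md.q (K.c q ^^^ K.c r)) := by
    rw [← K.c_mul q hq r hr]; exact K.sq _ (Q.mul_mem hq hr)
  have hc : ∀ e {x : G}, x ∈ Q → x * tw a e = tw a e * x := by
    intro e x hx; cases e
    · simp [tw]
    · exact S.q_comm hx
  have hqi : q⁻¹ = q * tw a (md.q (K.c q)) := by
    rw [inv_eq_iff_mul_eq_one, ← mul_assoc, K.sq q hq]
    cases md.q (K.c q) <;> simp [tw, S.fk_sq]
  have hri : r⁻¹ = r * tw a (md.q (K.c r)) := by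
    rw [inv_eq_iff_mul_eq_one, ← mul_assoc, K.sq r hr]
    cases md.q (K.c r) <;> simp [tw, S.fk_sq]
  calc r * q = q⁻¹ * (q * r * (q * r)) * r⁻¹ := by group
    _ = q * r * (tw a (md.q (K.c q)) * tw a (md.q (K.c q ^^^ K.c r)) * tw a (md.q (K.c r))) := by
        rw [hqr, hqi, hri]
        simp only [mul_assoc]
        rw [← mul_assoc (tw a (md.q (K.c q ^^^ K.c r))) r, ← hc _ hr]
        simp only [← mul_assoc]
        rw [mul_assoc q, ← hc _ hr, ← mul_assoc]
    _ = _ := by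
        congr 1
        show _ = tw a ((md.q (K.c q ^^^ K.c r) ^^ md.q (K.c q)) ^^ md.q (K.c r))
        cases md.q (K.c q) <;> cases md.q (K.c r) <;> cases md.q (K.c q ^^^ K.c r) <;>
          simp [tw, S.fk_sq]

end Coords

/-! ### The pair -/

/-- The value of a linear functional on a list as a bit mask. -/
def maskOf (L : ℕ → Bool) : List ℕ → ℕ
  | [] => 0
  | x :: M => Nat.bit (L x) (maskOf L M)

theorem maskOf_lt (L : ℕ → Bool) : ∀ M, maskOf L M < 2 ^ M.length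
  | [] => Nat.one_pos
  | x :: M => by
    have := maskOf_lt L M
    rw [maskOf, List.length_cons, Nat.bit_val, pow_succ]
    cases L x <;> simp <;> omega

/-- The parity expression of `lam`. -/
def parity (n c i : ℕ) : Bool :=
  (List.range n).foldr (fun j b => (odd (Nat.shiftRight c j) && odd (Nat.shiftRight i j)) ^^ b) false

theorem parity_succ (n c i : ℕ) :
    parity (n + 1) c i = ((odd c && odd i) ^^ parity n (c / 2) (i / 2)) := by
  have e : ∀ x j, Nat.shiftRight x (j + 1) = Nat.shiftRight (x / 2) j := fun x j => by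
    show x >>> (j + 1) = (x / 2) >>> j
    rw [Nat.shiftRight_eq_div_pow, Nat.shiftRight_eq_div_pow, Nat.div_div_eq_div_mul, pow_succ, mul_comm]
  unfold parity
  rw [List.range_succ_eq_map, List.foldr_cons, List.foldr_map]
  simp only [Nat.succ_eq_add_one, e]
  rfl

theorem parity_zero : ∀ n i, parity n 0 i = false
  | 0, _ => rfl
  | n + 1, i => by rw [parity_succ, Nat.zero_div, parity_zero n]; rfl

theorem parity_mask {P : ℕ → Prop} {L : ℕ → Bool} (h0 : P 0) (hL0 : L 0 = false)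
    (hP : ∀ u v, P u → P v → P (u ^^^ v)) (hL : ∀ u v, P u → P v → L (u ^^^ v) = (L u ^^ L v)) :
    ∀ (M : List ℕ), (∀ x ∈ M, P x) → ∀ i, P (ap M i) ∧ L (ap M i) = parity M.length (maskOf L M) i
  | [], _, i => ⟨h0, hL0⟩
  | x :: M, hM, i => by
    obtain ⟨hp, he⟩ := parity_mask h0 hL0 hP hL M (fun y hy => hM y (List.mem_cons_of_mem _ hy)) (i / 2)
    have hx : P (cond (odd i) x 0) ∧ L (cond (odd i) x 0) = (L x && odd i) := by
      cases odd i
      · exact ⟨h0, by simp [hL0]⟩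
      · exact ⟨hM x List.mem_cons_self, by simp⟩
    have ho : odd (maskOf L (x :: M)) = L x := by
      rw [maskOf, odd_eq, Nat.testBit_bit_zero]
    have hd : maskOf L (x :: M) / 2 = maskOf L M := by
      rw [maskOf]; cases L x <;> simp [Nat.bit_val] <;> omega
    rw [ap_cons, List.length_cons, parity_succ, ho, hd]
    exact ⟨hP _ _ hx.1 hp, by rw [hL _ _ hx.1 hp, hx.2, he]⟩

/-- The data of the proof by contradiction. -/
structure Pair (a : G) (Q : Subgroup G) (md : Md) (iv : Inv) (g : G) where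
  S : Setup a Q
  K : Coords a Q md
  nf : ¬ Fused a Q
  mem : g * a * g⁻¹ ∈ Subgroup.centralizer ({a} : Set G)
  ne : g * a * g⁻¹ ≠ a
  perm : K.π ⟨g * a * g⁻¹, mem⟩ = permW iv.wd
  hX : md.X.all (fun M => M.all fun c => Nat.blt c 256) = true
  fix : md.fixOK iv = true

namespace Pair

variable {md : Md} {iv : Inv} {g : G} (P : Pair a Q md iv g)

/-- The conjugate of `a`. -/
def b (_P : Pair a Q md iv g) : G := g * a * g⁻¹

theorem b_sq : P.b * P.b = 1 := by
  calc P.b * P.b = g * (a * a) * g⁻¹ := by unfold Pair.b; group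
    _ = 1 := by rw [P.S.fk_sq]; group

theorem b_inv : P.b⁻¹ = P.b := inv_eq_of_mul_eq_one_right P.b_sq

theorem a_comm_b : a * P.b = P.b * a := (Subgroup.mem_centralizer_singleton_iff.1 P.mem).symm

/-- The other extraspecial group, as a predicate. -/
def inR (_P : Pair a Q md iv g) (x : G) : Prop := g⁻¹ * x * g ∈ Q

theorem R_mul {x y : G} (hx : P.inR x) (hy : P.inR y) : P.inR (x * y) := by
  have := Q.mul_mem hx hy
  rwa [show g⁻¹ * x * g * (g⁻¹ * y * g) = g⁻¹ * (x * y) * g by group] at this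

theorem R_inv {x : G} (hx : P.inR x) : P.inR x⁻¹ := by
  have := Q.inv_mem hx
  rwa [show (g⁻¹ * x * g)⁻¹ = g⁻¹ * x⁻¹ * g by group] at this

theorem R_b : P.inR P.b := by
  show g⁻¹ * (g * a * g⁻¹) * g ∈ Q
  rw [show g⁻¹ * (g * a * g⁻¹) * g = a by group]; exact P.S.a_mem

theorem R_comm {x : G} (hx : P.inR x) : x * P.b = P.b * x := by
  have h := P.S.q_comm hx
  calc x * (g * a * g⁻¹) = g * (g⁻¹ * x * g * a) * g⁻¹ := by group
    _ = g * (a * (g⁻¹ * x * g)) * g⁻¹ := by rw [h]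
    _ = _ := by unfold Pair.b; group

theorem R_norm {x y : G} (hy : y * P.b = P.b * y) (hx : P.inR x) : P.inR (y * x * y⁻¹) := by
  have hm : g⁻¹ * y * g ∈ Subgroup.centralizer ({a} : Set G) := by
    rw [Subgroup.mem_centralizer_singleton_iff]
    calc g⁻¹ * y * g * a = g⁻¹ * (y * (g * a * g⁻¹)) * g := by group
      _ = g⁻¹ * ((g * a * g⁻¹) * y) * g := by rw [show y * (g * a * g⁻¹) = g * a * g⁻¹ * y from hy]
      _ = _ := by group
  have := P.S.norm _ hm _ hx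
  rwa [show g⁻¹ * y * g * (g⁻¹ * x * g) * (g⁻¹ * y * g)⁻¹ = g⁻¹ * (y * x * y⁻¹) * g by group] at this

theorem R_nf {x h : G} (hx : P.inR x) (e : h * a * h⁻¹ = x) : x = P.b := by
  by_contra hne
  refine P.nf ⟨g⁻¹ * h, ?_, fun e' => hne ?_⟩
  · rw [show g⁻¹ * h * a * (g⁻¹ * h)⁻¹ = g⁻¹ * (h * a * h⁻¹) * g by group, e]; exact hx
  · rw [← e]
    calc h * a * h⁻¹ = g * (g⁻¹ * h * a * (g⁻¹ * h)⁻¹) * g⁻¹ := by group
      _ = g * a * g⁻¹ := by rw [e']

theorem a_not_R : ¬ P.inR a := fun h => P.ne (P.R_nf (h := 1) h (by group)).symm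

/-- Conjugation by the conjugate. -/
theorem conj_mem {q : G} (hq : q ∈ Q) : P.b * q * P.b⁻¹ ∈ Q := P.S.norm _ P.mem q hq

theorem c_conj {q : G} (hq : q ∈ Q) : P.K.c (P.b * q * P.b⁻¹) = Eight.act md.X iv.wd (P.K.c q) :=
  P.K.act ⟨P.b, P.mem⟩ iv.wd P.perm.symm q hq

/-- The commutators. -/
def m (_P : Pair a Q md iv g) (q : G) : G := g * a * g⁻¹ * q * (g * a * g⁻¹)⁻¹ * q⁻¹

theorem m_def (q : G) : P.m q = P.b * q * P.b⁻¹ * q⁻¹ := rfl

theorem m_mem {q : G} (hq : q ∈ Q) : P.m q ∈ Q := Q.mul_mem (P.conj_mem hq) (Q.inv_mem hq)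

theorem c_m {q : G} (hq : q ∈ Q) : P.K.c (P.m q) = md.comV iv.wd (P.K.c q) := by
  rw [m_def, P.K.c_mul _ (P.conj_mem hq) _ (Q.inv_mem hq), P.c_conj hq, P.K.c_inv hq]
  rfl

theorem m_conj (q : G) : P.b * P.m q * P.b⁻¹ = (P.m q)⁻¹ := by
  rw [m_def]
  calc P.b * (P.b * q * P.b⁻¹ * q⁻¹) * P.b⁻¹ = (P.b * P.b) * q * (P.b⁻¹ * q⁻¹ * P.b⁻¹) := by group
    _ = q * (P.b * q⁻¹ * P.b⁻¹) := by rw [P.b_sq, P.b_inv]; group
    _ = _ := by group

theorem m_not_R {q : G} (h : P.inR (P.m q)) : P.m q = 1 := by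
  have e : P.b * P.m q = q * P.b * q⁻¹ := by
    rw [m_def]
    calc P.b * (P.b * q * P.b⁻¹ * q⁻¹) = (P.b * P.b) * q * P.b⁻¹ * q⁻¹ := by group
      _ = _ := by rw [P.b_sq, P.b_inv, one_mul]
  have h2 := P.R_nf (h := q * g) (P.R_mul P.R_b h) (by rw [e]; unfold Pair.b; group)
  rwa [mul_eq_left] at h2

theorem m_prod {q r : G} : P.m (q * r) = P.m q * (q * P.m r * q⁻¹) := by
  simp only [m_def]; group

/-- The fixed vectors. -/
def fixed (_P : Pair a Q md iv g) (v : ℕ) : Prop := v < 256 ∧ Eight.act md.X iv.wd v = v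

theorem fixed_c {q : G} (hq : q ∈ Q) (h : P.b * q * P.b⁻¹ = q ∨ P.b * q * P.b⁻¹ = q * a) :
    P.fixed (P.K.c q) := by
  refine ⟨P.K.c_lt q hq, ?_⟩
  rw [← P.c_conj hq]
  rcases h with h | h <;> rw [h]
  rw [P.K.c_mul q hq a P.S.a_mem, P.K.c_a P.S, Nat.xor_zero]

theorem fixed_lift {q : G} (hq : q ∈ Q) (h : P.fixed (P.K.c q)) :
    ∃ e, P.b * q * P.b⁻¹ = q * tw a e :=
  P.K.c_eq hq (P.conj_mem hq) (by rw [P.c_conj hq, h.2])

theorem a_conj : P.b * a * P.b⁻¹ = a := by rw [← P.a_comm_b, mul_inv_cancel_right]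

/-- The functional on the fixed vectors. -/
noncomputable def L (v : ℕ) : Bool := by
  classical exact decide (∃ q ∈ Q, P.K.c q = v ∧ P.b * q * P.b⁻¹ ≠ q)

theorem L_eq {q : G} (hq : q ∈ Q) (h : P.fixed (P.K.c q)) :
    P.b * q * P.b⁻¹ = q * tw a (P.L (P.K.c q)) := by
  classical
  obtain ⟨e, he⟩ := P.fixed_lift hq h
  suffices P.L (P.K.c q) = e by rw [this, he]
  cases e
  · simp only [L, decide_eq_false_iff_not, not_exists, not_and, not_not]
    intro r hr hc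
    obtain ⟨e', rfl⟩ := P.K.c_eq hq hr hc.symm
    cases e' <;> simp only [tw, cond_true, cond_false, mul_one] at he ⊢
    · exact he
    · calc P.b * (q * a) * P.b⁻¹ = (P.b * q * P.b⁻¹) * (P.b * a * P.b⁻¹) := by group
        _ = _ := by rw [he, P.a_conj]
  · simp only [L, decide_eq_true_eq]
    refine ⟨q, hq, rfl, ?_⟩
    rw [he]
    simpa [tw] using P.S.fk_ne

theorem L_comV {v : ℕ} (hv : v < 256) :
    P.fixed (md.comV iv.wd v) ∧ P.L (md.comV iv.wd v) = md.q (md.comV iv.wd v) := by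
  obtain ⟨q, hq, rfl⟩ := P.K.c_surj v hv
  rw [← P.c_m hq]
  have hm := P.m_mem hq
  have he : P.b * P.m q * P.b⁻¹ = P.m q * tw a (md.q (P.K.c (P.m q))) := by
    rw [P.m_conj, inv_eq_iff_mul_eq_one, ← mul_assoc, P.K.sq _ hm]
    cases md.q (P.K.c (P.m q)) <;> simp [tw, P.S.fk_sq]
  have hf : P.fixed (P.K.c (P.m q)) := by
    refine P.fixed_c hm ?_
    cases hb : md.q (P.K.c (P.m q)) <;> rw [hb] at he <;> simp only [tw, cond_true, cond_false, mul_one] at he
    · exact Or.inl he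
    · exact Or.inr he
  refine ⟨hf, ?_⟩
  have h2 := mul_left_cancel (he.symm.trans (P.L_eq hm hf))
  cases hb : md.q (P.K.c (P.m q)) <;> cases hl : P.L (P.K.c (P.m q)) <;> rw [hb, hl] at h2 <;>
    simp [tw, P.S.fk_ne, Ne.symm P.S.fk_ne] at h2 <;> rfl

theorem fixed_xor {u v : ℕ} (hu : P.fixed u) (hv : P.fixed v) : P.fixed (u ^^^ v) :=
  ⟨xor_lt hu.1 hv.1, by rw [act_xor, hu.2, hv.2]⟩

theorem L_xor {u v : ℕ} (hu : P.fixed u) (hv : P.fixed v) : P.L (u ^^^ v) = (P.L u ^^ P.L v) := by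
  obtain ⟨q, hq, rfl⟩ := P.K.c_surj u hu.1
  obtain ⟨r, hr, rfl⟩ := P.K.c_surj v hv.1
  have hf := P.fixed_xor hu hv
  rw [← P.K.c_mul q hq r hr] at hf ⊢
  have h := P.L_eq (Q.mul_mem hq hr) hf
  rw [show P.b * (q * r) * P.b⁻¹ = (P.b * q * P.b⁻¹) * (P.b * r * P.b⁻¹) by group, P.L_eq hq hu,
    P.L_eq hr hv] at h
  have hc : tw a (P.L (P.K.c q)) * r = r * tw a (P.L (P.K.c q)) := by
    cases P.L (P.K.c q)
    · simp [tw]
    · exact (P.S.q_comm hr).symm
  rw [mul_assoc, ← mul_assoc (tw a _) r, hc] at h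
  simp only [← mul_assoc] at h
  rw [mul_assoc (q * r)] at h
  have h' := mul_left_cancel h
  cases h1 : P.L (P.K.c q) <;> cases h2 : P.L (P.K.c r) <;> cases h3 : P.L (P.K.c (q * r)) <;>
    rw [h1, h2, h3] at h' <;>
    simp [tw, P.S.fk_ne, Ne.symm P.S.fk_ne, P.S.fk_sq] at h' <;> rfl

theorem fixed_zero : P.fixed 0 := ⟨by decide, act_zero _ _⟩

theorem L_zero : P.L 0 = false := by
  have := P.L_xor P.fixed_zero P.fixed_zero
  simpa using this

/-- The mask of the functional. -/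
noncomputable def mask : ℕ := maskOf P.L iv.fb

theorem lam_eq {v : ℕ} (hv : P.fixed v) : lam iv.fb P.mask v = P.L v := by
  have hfx := P.fix
  simp only [Md.fixOK, Bool.and_eq_true, List.all_eq_true] at hfx
  have hb : ∀ x ∈ iv.fb, P.fixed x := fun x hx =>
    ⟨Nat.le_of_ble_eq_true (hfx.1 x hx).1, Nat.eq_of_beq_eq_true (hfx.1 x hx).2⟩
  have key := parity_mask (P := P.fixed) (L := P.L) P.fixed_zero P.L_zero
    (fun u v => P.fixed_xor) (fun u v => P.L_xor) iv.fb hb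
  rw [Bool.eq_iff_iff]
  constructor
  · intro h
    simp only [lam, List.any_eq_true, Bool.and_eq_true] at h
    obtain ⟨i, -, hi, hp⟩ := h
    rw [← Nat.eq_of_beq_eq_true hi, (key i).2]
    exact hp
  · intro h
    have h1 := allV_spec hfx.2 hv.1
    rw [hv.2, show Nat.beq v v = true from Nat.beq_refl v, Bool.not_true, Bool.false_or, List.any_eq_true] at h1
    obtain ⟨i, hi, hie⟩ := h1
    simp only [lam, List.any_eq_true, Bool.and_eq_true]
    refine ⟨i, hi, hie, ?_⟩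
    rw [← Nat.eq_of_beq_eq_true hie, (key i).2] at h
    exact h

/-- The centraliser of the conjugate in `Q`. -/
def Y (_P : Pair a Q md iv g) : Subgroup G := Q ⊓ Subgroup.centralizer {g * a * g⁻¹}

theorem mem_Y {q : G} : q ∈ P.Y ↔ q ∈ Q ∧ q * P.b = P.b * q :=
  Iff.trans Subgroup.mem_inf (and_congr_right' Subgroup.mem_centralizer_singleton_iff)

theorem conj_Y {q : G} (h : q ∈ P.Y) : P.b * q * P.b⁻¹ = q := by
  rw [← (P.mem_Y.1 h).2, mul_inv_cancel_right]

theorem hList_Y {q : G} (h : q ∈ P.Y) : P.K.c q ∈ md.hList iv P.mask := by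
  obtain ⟨hq, -⟩ := P.mem_Y.1 h
  have hf := P.fixed_c hq (Or.inl (P.conj_Y h))
  have hl := P.L_eq hq hf
  rw [P.conj_Y h] at hl
  have hl' : P.L (P.K.c q) = false := by
    cases hb : P.L (P.K.c q)
    · rfl
    · rw [hb] at hl; simp [tw, P.S.fk_ne] at hl
  simp only [Md.hList, List.mem_filter, List.mem_range, Bool.and_eq_true, Bool.not_eq_true']
  exact ⟨hf.1, by rw [hf.2]; exact Nat.beq_refl _, by rw [P.lam_eq hf, hl']⟩

theorem exists_Y {v : ℕ} (h : v ∈ md.hList iv P.mask) : ∃ q ∈ P.Y, P.K.c q = v := by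
  simp only [Md.hList, List.mem_filter, List.mem_range, Bool.and_eq_true, Bool.not_eq_true'] at h
  obtain ⟨hv, hb, hl⟩ := h
  have hf : P.fixed v := ⟨hv, Nat.eq_of_beq_eq_true hb⟩
  rw [P.lam_eq hf] at hl
  obtain ⟨q, hq, rfl⟩ := P.K.c_surj v hv
  refine ⟨q, P.mem_Y.2 ⟨hq, ?_⟩, rfl⟩
  have := P.L_eq hq hf
  rw [hl] at this
  simp only [tw, cond_false, mul_one] at this
  exact (mul_inv_eq_iff_eq_mul.1 this).symm

/-- The order of the centraliser of the conjugate in `Q`. -/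
theorem card_Y : Nat.card ↥P.Y = 2 * (md.hList iv P.mask).length := by
  classical
  have hn : (md.hList iv P.mask).Nodup := List.nodup_range.filter _
  have ha : a ∈ P.Y := P.mem_Y.2 ⟨P.S.a_mem, P.a_comm_b⟩
  let T := (md.hList iv P.mask).toFinset
  have hs : ∀ v : ↥T, ∃ q ∈ P.Y, P.K.c q = v.1 := fun v => P.exists_Y (List.mem_toFinset.1 v.2)
  choose s hs1 hs2 using hs
  have hmem : ∀ (v : ↥T) (e : Bool), s v * tw a e ∈ P.Y := fun v e => by
    refine P.Y.mul_mem (hs1 v) ?_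
    cases e
    · exact P.Y.one_mem
    · exact ha
  have hc : ∀ (v : ↥T) (e : Bool), P.K.c (s v * tw a e) = v.1 := fun v e => by
    rw [P.K.c_mul _ (P.mem_Y.1 (hs1 v)).1 _ (Coords.tw_mem P.S e), hs2]
    cases e <;> simp [tw, P.K.c_one, P.K.c_a P.S]
  let f : ↥T × Bool → ↥P.Y := fun p => ⟨s p.1 * tw a p.2, hmem p.1 p.2⟩
  have hf : Function.Bijective f := by
    refine ⟨?_, ?_⟩
    · rintro ⟨v, e⟩ ⟨v', e'⟩ h
      have h' := congrArg Subtype.val h
      obtain rfl : v = v' := Subtype.ext (by rw [← hc v e, ← hc v' e']; exact congrArg P.K.c h')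
      have h2 := mul_left_cancel h'
      cases e <;> cases e' <;> simp [tw, P.S.fk_ne, Ne.symm P.S.fk_ne] at h2 <;> rfl
    · rintro ⟨q, hq⟩
      let v : ↥T := ⟨P.K.c q, List.mem_toFinset.2 (P.hList_Y hq)⟩
      obtain ⟨e, he⟩ := P.K.c_eq (P.mem_Y.1 (hs1 v)).1 (P.mem_Y.1 hq).1 (hs2 v)
      exact ⟨(v, e), Subtype.ext he.symm⟩
  rw [← Nat.card_eq_of_bijective f hf, Nat.card_prod, Nat.card_eq_finsetCard,
    List.toFinset_card_of_nodup hn, Nat.card_eq_fintype_card, Fintype.card_bool, mul_comm]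

end Pair

end Cfsg.Agent.ThRec
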