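import Cfsg.Agent.Lib.ThRec.FusionCount
import Cfsg.Agent.Lib.ThRec.NinePerm

/-!
The fusion step from coordinates: `a` is conjugate to another element of its extraspecial group.
-/

set_option autoImplicit false
set_option maxRecDepth 100000

namespace Cfsg.Agent.ThRec

open Equiv Eight

variable {G : Type*} [Group G] {a : G} {Q : Subgroup G}

/-- The centraliser in `Q` of a conjugate of `a`. -/
noncomputable def cenCard (a : G) (Q : Subgroup G) (g : G) : ℕ :=
  Nat.card ↥(Q ⊓ Subgroup.centralizer {g * a * g⁻¹})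

theorem cenCard_congr {Q' : Subgroup G} {e : G} {g g' : G} (hQ : ∀ q, q ∈ Q' ↔ e * q * e⁻¹ ∈ Q)
    (hg : e * (g' * a * g'⁻¹) * e⁻¹ = g * a * g⁻¹) :
    Nat.card ↥(Q' ⊓ Subgroup.centralizer {g' * a * g'⁻¹}) = cenCard a Q g := by
  unfold cenCard
  refine Nat.card_congr
    { toFun := fun q => ⟨e * q.1 * e⁻¹, (hQ _).1 q.2.1, ?_⟩
      invFun := fun q => ⟨e⁻¹ * q.1 * e, (hQ _).2 ?_, ?_⟩
      left_inv := fun q => Subtype.ext (by simp [mul_assoc])
      right_inv := fun q => Subtype.ext (by simp [mul_assoc]) }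
  · refine Subgroup.mem_centralizer_singleton_iff.2 ?_
    rw [← hg]
    have := Subgroup.mem_centralizer_singleton_iff.1 q.2.2
    calc e * q.1 * e⁻¹ * (e * (g' * a * g'⁻¹) * e⁻¹) = e * (q.1 * (g' * a * g'⁻¹)) * e⁻¹ := by group
      _ = _ := by rw [this]; group
  · rw [show e * (e⁻¹ * q.1 * e) * e⁻¹ = q.1 by group]; exact q.2.1
  · refine Subgroup.mem_centralizer_singleton_iff.2 ?_
    have := Subgroup.mem_centralizer_singleton_iff.1 q.2.2
    replace this : q.1 * (e * (g' * a * g'⁻¹) * e⁻¹) = e * (g' * a * g'⁻¹) * e⁻¹ * q.1 :=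
      (congrArg (fun y : G => q.1 * y) hg).trans (this.trans (congrArg (fun y : G => y * q.1) hg).symm)
    calc e⁻¹ * q.1 * e * (g' * a * g'⁻¹) = e⁻¹ * (q.1 * (e * (g' * a * g'⁻¹) * e⁻¹)) * e := by group
      _ = _ := by rw [this]; group

theorem Pair.card_Z_eq {md : Md} {iv : Inv} {g : G} (P : Pair a Q md iv g) :
    Nat.card ↥P.Z = cenCard a Q g⁻¹ := by
  have h := cenCard_congr (a := a) (Q := Q) (Q' := P.R) (e := g⁻¹) (g := g⁻¹) (g' := 1)
    (fun q => by rw [inv_inv]; exact Iff.rfl) (by group)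
  rw [show (1 : G) * a * 1⁻¹ = a by group] at h
  exact h

/-- Fusion from coordinates. -/
theorem fused_of_coords (S : Setup a Q) {md : Md} (K : Coords a Q md)
    (hX : md.X.all (fun M => M.all fun c => Nat.blt c 256) = true) {iv2 iv4 : Inv}
    (hf2 : md.fixOK iv2 = true) (hf4 : md.fixOK iv4 = true) (hw2 : iv2.wd = y22) (hw4 : iv4.wd = y24)
    (h2 : md.allT iv2 = true ∨ md.caseF iv2 = true) (h4 : md.allT iv4 = true ∨ md.caseF iv4 = true) :
    Fused a Q := by
  by_contra nf
  have key : ∀ g : G, g * a * g⁻¹ ∈ Subgroup.centralizer ({a} : Set G) → g * a * g⁻¹ ≠ a →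
      cenCard a Q g⁻¹ < cenCard a Q g := by
    intro g hm hne
    have hσ : EvenInv (K.π ⟨g * a * g⁻¹, hm⟩) := by
      refine ⟨?_, fun e => nf ⟨g, (K.ker _).1 e, hne⟩, K.sign_π _⟩
      rw [← map_mul, ← map_one K.π]
      congr 1
      refine Subtype.ext ?_
      show g * a * g⁻¹ * (g * a * g⁻¹) = 1
      rw [show g * a * g⁻¹ * (g * a * g⁻¹) = g * (a * a) * g⁻¹ by group, S.fk_sq]
      group
    have hr2 : EvenInv (permW y22) := ⟨by decide +kernel, by decide +kernel, sign_permW _⟩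
    have hr4 : EvenInv (permW y24) := ⟨by decide +kernel, by decide +kernel, sign_permW _⟩
    have c2 : (permW y22).support.card = 4 := by decide +kernel
    have c4 : (permW y24).support.card = 8 := by decide +kernel
    obtain ⟨iv, hfix, hcase, hconj⟩ : ∃ iv : Inv, md.fixOK iv = true ∧
        (md.allT iv = true ∨ md.caseF iv = true) ∧
        ∃ p, Perm.sign p = 1 ∧ p * K.π ⟨g * a * g⁻¹, hm⟩ * p⁻¹ = permW iv.wd := by
      rcases hσ.support_card (Fintype.card_fin 9) with e | e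
      · exact ⟨iv2, hf2, h2, by rw [hw2]; exact hr2.conj hσ (e.trans c2.symm)⟩
      · exact ⟨iv4, hf4, h4, by rw [hw4]; exact hr4.conj hσ (e.trans c4.symm)⟩
    obtain ⟨p, hp, hpe⟩ := hconj
    obtain ⟨x, rfl⟩ := K.surj p hp
    have hx : (x : G) * a = a * x := Subgroup.mem_centralizer_singleton_iff.1 x.2
    have hmx : (x : G) * g * a * ((x : G) * g)⁻¹ ∈ Subgroup.centralizer ({a} : Set G) := by
      rw [show (x : G) * g * a * ((x : G) * g)⁻¹ = x * (g * a * g⁻¹) * (x : G)⁻¹ by group]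
      exact (Subgroup.centralizer ({a} : Set G)).mul_mem
        ((Subgroup.centralizer ({a} : Set G)).mul_mem x.2 hm) ((Subgroup.centralizer ({a} : Set G)).inv_mem x.2)
    have hnex : (x : G) * g * a * ((x : G) * g)⁻¹ ≠ a := fun e => hne (by
      calc g * a * g⁻¹ = (x : G)⁻¹ * ((x : G) * g * a * ((x : G) * g)⁻¹) * x := by group
        _ = (x : G)⁻¹ * (a * x) := by rw [e, mul_assoc]
        _ = a := by rw [← hx]; group)
    have P : Pair a Q md iv ((x : G) * g) :=
      { S := S, K := K, nf := nf, mem := hmx, ne := hnex, hX := hX, fix := hfix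
        perm := by
          rw [← hpe, ← map_mul, ← map_inv, ← map_mul]
          congr 1
          refine Subtype.ext ?_
          show (x : G) * g * a * ((x : G) * g)⁻¹ = x * (g * a * g⁻¹) * (x : G)⁻¹
          group }
    have hlt : Nat.card ↥P.Z < Nat.card ↥P.Y := hcase.elim P.count_T P.count_F
    have hY : Nat.card ↥P.Y = cenCard a Q g := cenCard_congr (e := (x : G)⁻¹)
      (fun q => by
        rw [inv_inv]
        refine ⟨fun h => ?_, fun h => ?_⟩
        · have := S.norm _ ((Subgroup.centralizer ({a} : Set G)).inv_mem x.2) q h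
          rwa [inv_inv] at this
        · have := S.norm _ x.2 _ h
          rwa [show (x : G) * ((x : G)⁻¹ * q * x) * (x : G)⁻¹ = q by group] at this)
      (by group)
    have hZ : cenCard a Q ((x : G) * g)⁻¹ = cenCard a Q g⁻¹ := by
      unfold cenCard
      rw [show ((x : G) * g)⁻¹ * a * (((x : G) * g)⁻¹)⁻¹ = g⁻¹ * ((x : G)⁻¹ * (a * x)) * g by group, ← hx,
        show g⁻¹ * ((x : G)⁻¹ * ((x : G) * a)) * g = g⁻¹ * a * g⁻¹⁻¹ by group]
    rw [P.card_Z_eq, hY, hZ] at hlt
    exact hlt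
  obtain ⟨g, hm, hne⟩ := S.moved
  have hm' : g⁻¹ * a * g⁻¹⁻¹ ∈ Subgroup.centralizer ({a} : Set G) := by
    have := Subgroup.mem_centralizer_singleton_iff.1 hm
    rw [Subgroup.mem_centralizer_singleton_iff, inv_inv]
    calc g⁻¹ * a * g * a = g⁻¹ * (a * (g * a * g⁻¹)) * g := by group
      _ = g⁻¹ * (g * a * g⁻¹ * a) * g := by rw [this]
      _ = _ := by group
  have hne' : g⁻¹ * a * g⁻¹⁻¹ ≠ a := fun e => hne (by
    calc g * a * g⁻¹ = g * (g⁻¹ * a * g⁻¹⁻¹) * g⁻¹ := by rw [e]
      _ = a := by group)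
  have h1 := key g hm hne
  have h2 := key g⁻¹ hm' hne'
  rw [inv_inv] at h2
  omega

/-- On the spin module. -/
theorem fused_spin (S : Setup a Q) (K : Coords a Q mS) : Fused a Q :=
  fused_of_coords S K (by decide +kernel) fix_ok.1 fix_ok.2.1 rfl rfl (Or.inr caseS2) (Or.inl caseS4)

/-- On the permutation module. -/
theorem fused_perm (S : Setup a Q) (K : Coords a Q mP) : Fused a Q :=
  fused_of_coords S K (by decide +kernel) fix_ok.2.2.1 fix_ok.2.2.2 rfl rfl (Or.inl caseP2) (Or.inl caseP4)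

end Cfsg.Agent.ThRec
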