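import Cfsg.Agent.Lib.ThRec.LocalChecks

/-!
The local setting in a group with a copy of the model: the images of the words, the second extraspecial
subgroup, and the third.
-/

set_option autoImplicit false
set_option maxRecDepth 100000
set_option maxHeartbeats 1000000
set_option Elab.async false
set_option linter.style.haveILetI false

namespace Cfsg.Agent.ThRec

open Cfsg.Agent.HN Cfsg.Agent.Th Cfsg.Agent.ThOut

noncomputable section

variable {G : Type*} [Group G]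

/-- The image of a word without `b`. -/
def imW (φ : ↥CA →* G) (w : List ℕ) : G := wv (gB φ 1) w

variable {φ : ↥CA →* G}

theorem ne_one_of_side {w : List ℕ} (h : okSide true w = true) : ∀ l ∈ w, l ≠ 1 := by
  intro l hl e
  simp only [okSide, cond_true, List.all_eq_true, Bool.and_eq_true, Bool.not_eq_true'] at h
  have := (h l hl).2
  rw [e] at this
  exact absurd this (by decide)

theorem imW_el {w : List ℕ} (h : okSide true w = true) : imW φ w = φ (el0 w h) := by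
  obtain ⟨h', e⟩ := wv_gB φ 1 (ne_one_of_side h)
  exact e

theorem imW_gB {w : List ℕ} (h : okSide true w = true) (b : G) : wv (gB φ b) w = imW φ w := by
  refine wv_congr _ fun l hl => ?_
  rw [gB_of_ne φ b (ne_one_of_side h l hl), gB_of_ne φ 1 (ne_one_of_side h l hl)]

theorem imW_append (u v : List ℕ) : imW φ (u ++ v) = imW φ u * imW φ v := wv_append _ u v

theorem imW_nil : imW φ [] = 1 := wv_nil _

theorem imW_winv (w : List ℕ) : imW φ (winv iv11 w) = (imW φ w)⁻¹ :=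
  wv_winv _ (gB_inv φ 1 (one_mul 1)) w

theorem imW_cons (l : ℕ) (w : List ℕ) : imW φ (l :: w) = imW φ [l] * imW φ w := by
  rw [← imW_append]; rfl

theorem imW_pow (w : List ℕ) (n : ℕ) : imW φ (powW w n) = imW φ w ^ n := by
  induction n with
  | zero => simp [powW, imW_nil]
  | succ n ih => rw [powW, List.replicate_succ, List.flatten_cons, imW_append, ← powW, ih, pow_succ']

theorem imW_eq {u v : List ℕ} (h : eqS true u v = true) : imW φ u = imW φ v := by
  rw [imW_el (eqS_side h).1, imW_el (eqS_side h).2]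
  exact congrArg φ (Subtype.ext (eqS_eq h))

theorem eqS_of_im (hinj : Function.Injective φ) {u v : List ℕ} (hu : okSide true u = true)
    (hv : okSide true v = true) (h : imW φ u = imW φ v) : eqS true u v = true := by
  rw [imW_el hu, imW_el hv] at h
  exact eqS_true hu hv (congrArg Subtype.val (hinj h))

/-- The standing assumptions of the local argument: a copy of the model and an element exchanging `a` and
the image of `c`. -/
structure Duo (a : G) (Q : Subgroup G) (θ : ↥Q0 ≃* ↥Q) (φ : ↥CA →* G) (g : G) : Prop where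
  setup : Setup a Q
  model : Model a φ
  onQ : ∀ (q : ↥Q0) (x : ↥CA), (x : Cfsg.Spor.Th) = q → φ x = θ q
  gA : g * a * g⁻¹ = imW φ [2]
  gC : g * imW φ [2] * g⁻¹ = a

variable {a : G} {Q : Subgroup G} {θ : ↥Q0 ≃* ↥Q} {g : G}

section

variable (P : Duo a Q θ φ g)
include P

theorem Duo.im_a : imW φ [0] = a := by
  rw [imW_el (w := [0]) rfl]
  exact P.model.a_map _ (wv_singleton g11 0)

theorem Duo.im_comm {w : List ℕ} (h : okSide true w = true) : imW φ w * a = a * imW φ w := by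
  rw [imW_el h]
  refine Subgroup.mem_centralizer_singleton_iff.1 ?_
  rw [← P.model.range]
  exact ⟨_, rfl⟩

theorem Duo.pre {y : G} (hy : y * a = a * y) : ∃ x : ↥CA, φ x = y :=
  MonoidHom.mem_range.1 (P.model.range.symm ▸ Subgroup.mem_centralizer_singleton_iff.2 hy)

theorem Duo.conj_Q {z z' y : G} (h : z * a * z⁻¹ = z' * a * z'⁻¹) (hy : z⁻¹ * y * z ∈ Q) :
    z'⁻¹ * y * z' ∈ Q := by
  have hc : z'⁻¹ * z * a = a * (z'⁻¹ * z) := by
    calc z'⁻¹ * z * a = z'⁻¹ * (z * a * z⁻¹) * z := by group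
      _ = _ := by rw [h]; group
  have h1 := P.setup.norm _ (Subgroup.mem_centralizer_singleton_iff.2 hc) _ hy
  rwa [show z'⁻¹ * z * (z⁻¹ * y * z) * (z'⁻¹ * z)⁻¹ = z'⁻¹ * y * z' by group] at h1

theorem Duo.mem_Q_iff (x : ↥CA) : φ x ∈ Q ↔ (x : Cfsg.Spor.Th) ∈ Q0 := by
  constructor
  · intro h
    obtain ⟨v, hv⟩ : ∃ v : ↥Q0, (θ v : G) = φ x := ⟨θ.symm ⟨_, h⟩, by rw [θ.apply_symm_apply]⟩
    have e := P.model.inj ((P.onQ v ⟨v, Q0_le v.2⟩ rfl).trans hv)
    rw [← e]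
    exact v.2
  · intro h
    rw [P.onQ ⟨_, h⟩ x rfl]
    exact (θ _).2

theorem Duo.Q_sq {y : G} (hy : y ∈ Q) : y * y = 1 ∨ y * y = a := by
  obtain ⟨x, rfl⟩ := P.pre (Subgroup.mem_centralizer_singleton_iff.1 (P.setup.le hy))
  refine (Q0_sq ((P.mem_Q_iff x).1 hy)).imp (fun e => ?_) fun e => ?_ <;> rw [← map_mul]
  · rw [show x * x = 1 from Subtype.ext e, map_one]
  · exact P.model.a_map _ e

theorem Duo.Q_comm {y y' : G} (hy : y ∈ Q) (hy' : y' ∈ Q) : y * y' = y' * y ∨ y * y' = y' * y * a := by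
  obtain ⟨x, rfl⟩ := P.pre (Subgroup.mem_centralizer_singleton_iff.1 (P.setup.le hy))
  obtain ⟨x', rfl⟩ := P.pre (Subgroup.mem_centralizer_singleton_iff.1 (P.setup.le hy'))
  refine (Q0_comm ((P.mem_Q_iff x).1 hy) ((P.mem_Q_iff x').1 hy')).imp (fun e => ?_) fun e => ?_
  · rw [← map_mul, ← map_mul, show x * x' = x' * x from Subtype.ext e]
  · rw [← P.model.a_map ⟨g11 0, letter_mem (by norm_num) (by norm_num)⟩ rfl, ← map_mul, ← map_mul, ← map_mul]
    refine congrArg φ (Subtype.ext ?_)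
    show (x : Cfsg.Spor.Th) * x' = x' * x * g11 0
    rw [e, mul_assoc, mul_assoc, a0_central x.2]

end

/-- The elements of the model going into the second extraspecial subgroup. -/
def nSub (φ : ↥CA →* G) (Q : Subgroup G) (g : G) : Subgroup Cfsg.Spor.Th :=
  ((Q.map (MulAut.conj g).toMonoidHom).comap φ).map CA.subtype

theorem mem_nSub {z : Cfsg.Spor.Th} : z ∈ nSub φ Q g ↔ ∃ h : z ∈ CA, g⁻¹ * φ ⟨z, h⟩ * g ∈ Q := by
  constructor
  · rintro ⟨x, hx, rfl⟩
    obtain ⟨q, hq, e⟩ := hx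
    refine ⟨x.2, ?_⟩
    change g * q * g⁻¹ = φ x at e
    show g⁻¹ * φ x * g ∈ Q
    rw [← e]
    simpa [mul_assoc] using hq
  · rintro ⟨h, hq⟩
    exact ⟨⟨z, h⟩, ⟨_, hq, by show g * (g⁻¹ * φ ⟨z, h⟩ * g) * g⁻¹ = _; group⟩, rfl⟩

section

variable (P : Duo a Q θ φ g)
include P

theorem Duo.nWord_iff {w : List ℕ} (h : okSide true w = true) :
    wv g11 w ∈ nSub φ Q g ↔ g⁻¹ * imW φ w * g ∈ Q := by
  rw [mem_nSub, imW_el h]
  exact ⟨fun ⟨_, e⟩ => e, fun e => ⟨word_mem h, e⟩⟩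

theorem Duo.ginv_C : g⁻¹ * a * g = imW φ [2] := by
  rw [← P.gC]; group

theorem Duo.secondQ : SecondQ (nSub φ Q g) := by
  haveI := finite_CA
  have hc2 : okSide true [2] = true := rfl
  have back : ∀ {u : ↥CA} {y : G}, g * y * g⁻¹ = φ u → y = g⁻¹ * φ u * g := fun e => by rw [← e]; group
  have toC : ∀ {y : G} {u : ↥CA}, y = a → g * y * g⁻¹ = φ u → (u : Cfsg.Spor.Th) = g11 2 := by
    intro y u hy hu
    rw [hy, P.gA, imW_el hc2] at hu
    rw [← P.model.inj hu]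
    exact wv_singleton g11 2
  have toOne : ∀ {y : G} {u : ↥CA}, y = 1 → g * y * g⁻¹ = φ u → (u : Cfsg.Spor.Th) = 1 := by
    intro y u hy hu
    rw [hy, mul_one, mul_inv_cancel, ← map_one φ] at hu
    rw [← P.model.inj hu]
    rfl
  have hle : ∀ z ∈ nSub φ Q g, z ∈ CA ∧ z * g11 2 = g11 2 * z := by
    intro z hz
    obtain ⟨h, hq⟩ := mem_nSub.1 hz
    refine ⟨h, ?_⟩
    have hcm := Subgroup.mem_centralizer_singleton_iff.1 (P.setup.le hq)
    have e : φ ⟨z, h⟩ * imW φ [2] = imW φ [2] * φ ⟨z, h⟩ := by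
      rw [← P.gA]
      calc φ ⟨z, h⟩ * (g * a * g⁻¹) = g * (g⁻¹ * φ ⟨z, h⟩ * g * a) * g⁻¹ := by group
        _ = _ := by rw [hcm]; group
    rw [imW_el hc2, ← map_mul, ← map_mul] at e
    have := congrArg Subtype.val (P.model.inj e)
    rw [Subgroup.coe_mul, Subgroup.coe_mul] at this
    show z * g11 2 = g11 2 * z
    rw [← wv_singleton g11 2]
    exact this
  have hsq : ∀ z ∈ nSub φ Q g, z * z = 1 ∨ z * z = g11 2 := by
    intro z hz
    obtain ⟨h, hq⟩ := mem_nSub.1 hz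
    refine (P.Q_sq hq).imp (fun e => toOne (u := ⟨z, h⟩ * ⟨z, h⟩) e ?_)
      fun e => toC (u := ⟨z, h⟩ * ⟨z, h⟩) e ?_ <;>
    · rw [map_mul]; group
  have hcomm : ∀ z ∈ nSub φ Q g, ∀ z' ∈ nSub φ Q g, z * z' = z' * z ∨ z * z' = z' * z * g11 2 := by
    intro z hz z' hz'
    obtain ⟨h, hq⟩ := mem_nSub.1 hz
    obtain ⟨h', hq'⟩ := mem_nSub.1 hz'
    refine (P.Q_comm hq hq').imp (fun e => ?_) fun e => ?_
    · refine congrArg Subtype.val (P.model.inj ?_ : (⟨z, h⟩ * ⟨z', h'⟩ : ↥CA) = ⟨z', h'⟩ * ⟨z, h⟩)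
      simp only [map_mul]
      calc φ ⟨z, h⟩ * φ ⟨z', h'⟩ = g * (g⁻¹ * φ ⟨z, h⟩ * g * (g⁻¹ * φ ⟨z', h'⟩ * g)) * g⁻¹ := by group
        _ = _ := by rw [e]; group
    · have e2 : φ (⟨z, h⟩ * ⟨z', h'⟩) = φ (⟨z', h'⟩ * ⟨z, h⟩) * imW φ [2] := by
        rw [map_mul, map_mul, ← P.gA]
        calc φ ⟨z, h⟩ * φ ⟨z', h'⟩ = g * (g⁻¹ * φ ⟨z, h⟩ * g * (g⁻¹ * φ ⟨z', h'⟩ * g)) * g⁻¹ := by group
          _ = _ := by rw [e]; group
      rw [imW_el hc2, ← map_mul] at e2
      have h3 := congrArg Subtype.val (P.model.inj e2)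
      rw [← wv_singleton g11 2]
      exact h3
  refine ⟨hle, hsq, hcomm, fun z hz z' hz' hQ hQ' => ?_, fun δ hδ hδc z hz => ?_, ?_⟩
  · have hc : g11 2 ≠ 1 ∧ g11 2 ≠ g11 0 := ⟨a0_ne.2.1, a0_ne.2.2⟩
    constructor
    · rcases Q0_comm hQ hQ' with e | e
      · exact e
      rcases hcomm z hz z' hz' with e' | e'
      · exact e'
      · exfalso
        refine hc.2 (mul_left_cancel (a := z' * z) ?_)
        rw [← e', e, mul_assoc, mul_assoc, a0_central (hle z hz).1]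
    · rcases Q0_sq hQ with e | e
      · exact e
      rcases hsq z hz with e' | e'
      · exact e'
      · exact absurd (e'.symm.trans e) hc.2
  · obtain ⟨h, hq⟩ := mem_nSub.1 hz
    refine mem_nSub.2 ⟨mul_mem (mul_mem (inv_mem hδ) h) hδ, ?_⟩
    set d : ↥CA := ⟨δ, hδ⟩
    have hdC : φ d * imW φ [2] = imW φ [2] * φ d := by
      rw [imW_el hc2, ← map_mul, ← map_mul]
      refine congrArg φ (Subtype.ext ?_)
      show δ * wv g11 [2] = wv g11 [2] * δ
      rw [wv_singleton]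
      exact hδc
    have hy : g⁻¹ * (φ d)⁻¹ * g * a = a * (g⁻¹ * (φ d)⁻¹ * g) := by
      have h1 : (φ d)⁻¹ * imW φ [2] = imW φ [2] * (φ d)⁻¹ := by
        calc (φ d)⁻¹ * imW φ [2] = (φ d)⁻¹ * (imW φ [2] * φ d) * (φ d)⁻¹ := by group
          _ = _ := by rw [← hdC]; group
      rw [← P.gA] at h1
      calc g⁻¹ * (φ d)⁻¹ * g * a = g⁻¹ * ((φ d)⁻¹ * (g * a * g⁻¹)) * g := by group
        _ = _ := by rw [h1]; group
    have h1 := P.setup.norm _ (Subgroup.mem_centralizer_singleton_iff.2 hy) _ hq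
    rw [show g⁻¹ * φ ⟨δ⁻¹ * z * δ, _⟩ * g =
        g⁻¹ * (φ d)⁻¹ * g * (g⁻¹ * φ ⟨z, h⟩ * g) * (g⁻¹ * (φ d)⁻¹ * g)⁻¹ by
      rw [show (⟨δ⁻¹ * z * δ, _⟩ : ↥CA) = d⁻¹ * ⟨z, h⟩ * d from rfl, map_mul, map_mul, map_inv]
      group]
    exact h1
  · have hfin : Finite ↥(nSub φ Q g) :=
      Finite.of_injective (fun v : ↥(nSub φ Q g) => (⟨v.1, (mem_nSub.1 v.2).1⟩ : ↥CA))
        fun v w e => Subtype.ext (congrArg (fun t : ↥CA => (t : Cfsg.Spor.Th)) e)
    refine le_trans (fix_many.trans (le_of_eq (countP_eq _ 512))) ?_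
    have key : ∀ i : {i : Fin 512 // eqS true (qW i ++ [2]) ([2] ++ qW i) = true},
        ∃ x : ↥CA, φ x = g * imW φ (qW i.1) * g⁻¹ := fun i => by
      refine P.pre ?_
      have e := imW_eq (φ := φ) i.2
      rw [imW_append, imW_append] at e
      calc g * imW φ (qW i.1) * g⁻¹ * a = g * imW φ (qW i.1) * g⁻¹ * (g * imW φ [2] * g⁻¹) := by rw [P.gC]
        _ = g * (imW φ [2] * imW φ (qW i.1)) * g⁻¹ := by rw [← e]; group
        _ = g * imW φ [2] * g⁻¹ * (g * imW φ (qW i.1) * g⁻¹) := by group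
        _ = _ := by rw [P.gC]
    choose x hx using key
    refine Nat.card_le_card_of_injective (fun i => (⟨(x i : Cfsg.Spor.Th), mem_nSub.2 ⟨(x i).2, ?_⟩⟩ :
      ↥(nSub φ Q g))) fun i j e => ?_
    · rw [show φ ⟨(x i : Cfsg.Spor.Th), (x i).2⟩ = g * imW φ (qW i.1) * g⁻¹ from hx i,
        show g⁻¹ * (g * imW φ (qW i.1) * g⁻¹) * g = imW φ (qW i.1) by group, imW_el (qW_side i.1.2)]
      exact (P.mem_Q_iff _).2 (mem_Q0.2 ⟨i.1.1, i.1.2, rfl⟩)
    · have e1 : x i = x j := Subtype.ext (congrArg (fun t : ↥(nSub φ Q g) => t.1) e)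
      have e2 := congrArg φ e1
      rw [hx, hx] at e2
      have e3 := mul_left_cancel (mul_right_cancel e2)
      rw [imW_el (qW_side i.1.2), imW_el (qW_side j.1.2)] at e3
      exact Subtype.ext (Fin.ext (qW_inj psi_injective i.1.2 j.1.2 (congrArg Subtype.val (P.model.inj e3))))

/-- Membership in the conjugate of `Q` at the image of `ac`. -/
theorem Duo.qac_mem {j q : ℕ} (hj : j < 8) (hq : q < 512) (h : inN j q = true) :
    (imW φ kW * g)⁻¹ * imW φ (qacW j q) * (imW φ kW * g) ∈ Q := by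
  have hm := (P.nWord_iff (nW_side hj hq)).1 (P.secondQ.mem hj hq h)
  have hk : imW φ kW * imW φ kW = 1 := by
    rw [← imW_append, imW_eq (v := []) (by decide +kernel), imW_nil]
  rw [qacW, imW_append, imW_append]
  rw [show (imW φ kW * g)⁻¹ * (imW φ kW * imW φ (nW j q) * imW φ kW) * (imW φ kW * g) =
    g⁻¹ * imW φ (nW j q) * (imW φ kW * imW φ kW) * g by group, hk, mul_one]
  exact hm

/-- The converse: every element of that conjugate centralising `a` is a candidate. -/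
theorem Duo.qac_cover {y : G} (hy : y * a = a * y) (h : (imW φ kW * g)⁻¹ * y * (imW φ kW * g) ∈ Q) :
    ∃ j < 8, ∃ q < 512, inN j q = true ∧ y = imW φ (qacW j q) := by
  have hks : okSide true kW = true := rfl
  have hk : imW φ kW * imW φ kW = 1 := by
    rw [← imW_append, imW_eq (v := []) (by decide +kernel), imW_nil]
  obtain ⟨x, rfl⟩ := P.pre hy
  set k : ↥CA := el0 kW hks
  have hkk : k * k = 1 := P.model.inj (by rw [map_mul, ← imW_el hks, hk, map_one])
  have hz : ((k * x * k : ↥CA) : Cfsg.Spor.Th) ∈ nSub φ Q g := by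
    refine mem_nSub.2 ⟨(k * x * k).2, ?_⟩
    show g⁻¹ * φ (k * x * k) * g ∈ Q
    rw [map_mul, map_mul, ← imW_el hks]
    have hki : (imW φ kW)⁻¹ = imW φ kW := inv_eq_of_mul_eq_one_left hk
    have : g⁻¹ * (imW φ kW * φ x * imW φ kW) * g = (imW φ kW * g)⁻¹ * φ x * (imW φ kW * g) := by
      rw [mul_inv_rev, hki]; group
    rw [this]
    exact h
  obtain ⟨j, hj, q, hq, e, hin⟩ := P.secondQ.cover hz
  refine ⟨j, hj, q, hq, hin, ?_⟩
  have e' : k * x * k = el0 (nW j q) (nW_side hj hq) := Subtype.ext e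
  have e2 : φ x = φ k * φ (k * x * k) * φ k := by
    rw [← map_mul, ← map_mul]
    congr 1
    calc x = k * k * x * (k * k) := by rw [hkk, one_mul, mul_one]
      _ = _ := by group
  rw [e2, e', qacW, imW_append, imW_append, imW_el hks, imW_el (nW_side hj hq)]

end

end

end Cfsg.Agent.ThRec
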