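import Cfsg.Agent.Lib.ThRec.LocalWitness
import Cfsg.Agent.Lib.ThRec.Amalgam

/-!
The finite checks of the local argument.
-/

set_option autoImplicit false
set_option maxRecDepth 100000
set_option Elab.async false

namespace Cfsg.Agent.ThRec

open Cfsg.Agent.HN Cfsg.Agent.Th Cfsg.Agent.ThOut

noncomputable section

/-- The element `dcd` exchanging `c` and `ac`. -/
def kW : List ℕ := [3, 2, 3]

/-- The element of `[E, s]` fixed by `t`. -/
def acxW : List ℕ := [0, 2] ++ xW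

/-- A commutator with `s`. -/
def commS (w : List ℕ) : List ℕ := [5] ++ w ++ [6] ++ winv iv11 w

/-- A conjugate by `dcd`. -/
def qacW (j q : ℕ) : List ℕ := kW ++ nW j q ++ kW

/-- Repetition of a word. -/
def powW (w : List ℕ) (n : ℕ) : List ℕ := (List.replicate n w).flatten

theorem e_mem_check : ((List.range 8).any fun j => (List.range 512).any fun q =>
    eqS true (qacW j q) [4] && inN j q) = true := by decide +kernel

theorem e_comm_check : ((List.range 8).any fun j => (List.range 512).any fun q =>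
    eqS true (commS (qacW j q)) [4] && inN j q) = true := by decide +kernel

theorem x_comm_check : ((List.range 512).any fun q =>
    eqS true (commS (qW q)) acxW && eCond (qW q)) = true := by decide +kernel

theorem p_check : allLo (fun q => !(eCond (qW q)) || !(eqS true (commS (qW q) ++ [7]) ([7] ++ commS (qW q))) ||
    eqS true (commS (qW q)) [] || eqS true (commS (qW q)) acxW) 512 = true := by decide +kernel

/-- The conditions on the commutator of `u` and `w`. -/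
def vOK (v : List ℕ) : Bool :=
  eqS true (v ++ [7]) ([7] ++ v) && eqS true (powW (v ++ [9, 6]) 3) [] &&
    eqS true (powW (v ++ [9, 5, 5]) 7) [] && !(eqS true (powW (v ++ [9, 5] ++ xW) 3) [])

theorem v_check : allLo (fun j => allLo (fun q => !(vOK (qacW j q)) || !(inN j q) ||
    eqS true (qacW j q) [] || eqS true (qacW j q) [4]) 512) 8 = true := by decide +kernel

/-- The eight elements of `⟨a, c, x⟩`. -/
def mWords : List (ℕ × ℕ × ℕ) :=
  [(0, 0, 0), (1, 0, 0), (0, 1, 0), (1, 1, 0), (0, 0, 1), (1, 0, 1), (0, 1, 1), (1, 1, 1)]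

/-- One of them. -/
def mW (m : ℕ × ℕ × ℕ) : List ℕ := powW [0] m.1 ++ powW [2] m.2.1 ++ powW xW m.2.2

theorem cent_check : allLo (fun i => !(eq9 (stabW i ++ [7]) ([7] ++ stabW i)) || allLo (fun q =>
    !(eqS true ((qW q ++ stabW i) ++ [7]) ([7] ++ (qW q ++ stabW i))) ||
    !(eqS true ((qW q ++ stabW i) ++ xW) (xW ++ (qW q ++ stabW i))) ||
    !(eqS true (qW q ++ [2]) ([2] ++ qW q)) ||
    ([0, 1, 2].any fun j => mWords.any fun m =>
      eqS true (qW q ++ stabW i) (powW [7] j ++ mW m))) 512) 1344 = true := by decide +kernel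

theorem m_check : (mWords.all fun m => !(eqS true (mW m ++ gX) (gX ++ mW m)) ||
    !(eqS true (mW m) (mW (m.2.1, m.1, m.2.2))) || eqS true (mW m) [] || eqS true (mW m) xW) = true := by
  decide +kernel

/-- The conjugators for the involutions of the normal subgroup fixed by `t`. -/
def witT : List (List ℕ) :=
  [[], [3], [3, 4], [3, 2, 3], [3, 2], [3, 2, 4], [4, 7, 3, 9, 3, 9, 7, 7, 4, 3], [3, 4, 4, 7, 3, 9, 3, 9, 7, 7],
   [3, 4, 7, 3, 9, 3, 9, 7, 7], [3, 2, 4, 7, 3, 9, 3, 9, 7, 7], [4, 7, 3, 9, 3, 9, 7, 7],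
   [3, 2, 3, 4, 7, 3, 9, 3, 9, 7, 7], [4, 7, 3, 9, 3, 9, 7, 7, 3],
   [4, 7, 3, 9, 3, 9, 7, 7, 3, 3, 10, 2, 3, 2, 3, 2, 9, 3], [3, 4, 4, 7, 3, 9, 3, 9, 7, 7, 3],
   [4, 7, 3, 9, 3, 9, 7, 7, 4], [3, 4, 7, 3, 9, 3, 9, 7, 7, 3],
   [4, 7, 3, 9, 3, 9, 7, 7, 3, 4, 7, 3, 9, 3, 9, 7, 7]]

theorem wit_ok : (witT.all fun k => eqS true (k ++ [7]) ([7] ++ k) && okSide true (winv iv11 k)) = true := by
  decide +kernel

theorem wit_check : allLo (fun q => !(eqS true (qW q ++ qW q) []) || eqS true (qW q) [] || eqS true (qW q) [0] ||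
    !(eqS true (qW q ++ [7]) ([7] ++ qW q)) || witT.any fun k => eqS true (cjW k [2]) (qW q)) 512 = true := by
  decide +kernel

theorem model_rels : (([
  ([0, 0], []), ([2, 2], []), ([3, 3], []), ([4, 4], []), (xW ++ xW, []),
  (powW [5] 7, []), (powW [7] 3, []),
  ([5, 2], [2, 5]), ([7, 2], [2, 7]), ([9, 2], [2, 9]), ([4, 2], [2, 4]), ([5, 6], []), ([7, 8], []), ([9, 10], []),
  ([3, 5, 3], [6]), ([3, 7], [7, 3]), ([7, 5, 8], [5, 5, 5, 5]),
  ([9, 7, 10], [8]), ([9, 9], [0, 2]), ([4, 9], [9, 4]), ([4, 7], [7, 4]),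
  ([3, 2, 3] ++ [2] ++ [3, 2, 3], [0, 2]), ([3, 2, 3, 5], [5, 3, 2, 3]), ([3, 2, 3, 7], [7, 3, 2, 3]),
  (xW ++ [0], [0] ++ xW), (xW ++ [2], [2] ++ xW), (xW ++ [7], [7] ++ xW),
  (gX ++ [7], [7] ++ gX), (gX ++ [2] ++ winv iv11 gX, [0, 2] ++ xW), (gX ++ xW, xW ++ gX),
  ([0, 2] ++ gX ++ [0, 2], winv iv11 gX),
  (powW [9, 6] 3, []), (powW [9, 5, 5] 7, []),
  ([2, 3, 2, 3, 2, 3, 2, 3], [0]), ([3, 4, 3, 4, 3, 4], [])] : List (List ℕ × List ℕ)).all
    fun p => eqS true p.1 p.2) = true := by decide +kernel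

theorem model_nonrels : (([([4], []), ([5], []), (acxW, []), ([4], [0]), ([2], [0, 2]), (powW ([9, 5] ++ xW) 3, [])] :
    List (List ℕ × List ℕ)).all fun p => !(eqS true p.1 p.2)) = true := by decide +kernel

end

end Cfsg.Agent.ThRec
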