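import Cfsg.Agent.S3035
import Cfsg.Agent.Lib.Transfer.Basic

/-!
A finite group with an involution whose centraliser is dihedral of order eight and is generated by an
involution and its image under an involutory automorphism: either the automorphism fixes an element of
order five, or there are braid partners as in the linear group of order 168.
-/

set_option autoImplicit false
set_option maxRecDepth 100000

namespace Cfsg.Agent.ThRec.SmallW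

open Equiv

/-- The elements of the linear group on the seven nonzero vectors. -/
def tabL : List (List ℕ) :=
    [[0, 1, 2, 3, 4, 5, 6], [0, 1, 2, 4, 3, 6, 5], [0, 1, 2, 5, 6, 3, 4], [0, 1, 2, 6, 5, 4, 3], [0, 2, 1, 3, 4,
    6, 5], [0, 2, 1, 4, 3, 5, 6], [0, 2, 1, 5, 6, 4, 3], [0, 2, 1, 6, 5, 3, 4], [0, 3, 4, 1, 2, 5, 6], [0, 3, 4,
    2, 1, 6, 5], [0, 3, 4, 5, 6, 1, 2], [0, 3, 4, 6, 5, 2, 1], [0, 4, 3, 1, 2, 6, 5], [0, 4, 3, 2, 1, 5, 6], [0,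
    4, 3, 5, 6, 2, 1], [0, 4, 3, 6, 5, 1, 2], [0, 5, 6, 1, 2, 3, 4], [0, 5, 6, 2, 1, 4, 3], [0, 5, 6, 3, 4, 1,
    2], [0, 5, 6, 4, 3, 2, 1], [0, 6, 5, 1, 2, 4, 3], [0, 6, 5, 2, 1, 3, 4], [0, 6, 5, 3, 4, 2, 1], [0, 6, 5, 4,
    3, 1, 2], [1, 0, 2, 3, 5, 4, 6], [1, 0, 2, 4, 6, 3, 5], [1, 0, 2, 5, 3, 6, 4], [1, 0, 2, 6, 4, 5, 3], [1, 2,
    0, 3, 5, 6, 4], [1, 2, 0, 4, 6, 5, 3], [1, 2, 0, 5, 3, 4, 6], [1, 2, 0, 6, 4, 3, 5], [1, 3, 5, 0, 2, 4, 6],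
    [1, 3, 5, 2, 0, 6, 4], [1, 3, 5, 4, 6, 0, 2], [1, 3, 5, 6, 4, 2, 0], [1, 4, 6, 0, 2, 3, 5], [1, 4, 6, 2, 0,
    5, 3], [1, 4, 6, 3, 5, 0, 2], [1, 4, 6, 5, 3, 2, 0], [1, 5, 3, 0, 2, 6, 4], [1, 5, 3, 2, 0, 4, 6], [1, 5, 3,
    4, 6, 2, 0], [1, 5, 3, 6, 4, 0, 2], [1, 6, 4, 0, 2, 5, 3], [1, 6, 4, 2, 0, 3, 5], [1, 6, 4, 3, 5, 2, 0], [1,
    6, 4, 5, 3, 0, 2], [2, 0, 1, 3, 6, 4, 5], [2, 0, 1, 4, 5, 3, 6], [2, 0, 1, 5, 4, 6, 3], [2, 0, 1, 6, 3, 5,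
    4], [2, 1, 0, 3, 6, 5, 4], [2, 1, 0, 4, 5, 6, 3], [2, 1, 0, 5, 4, 3, 6], [2, 1, 0, 6, 3, 4, 5], [2, 3, 6, 0,
    1, 4, 5], [2, 3, 6, 1, 0, 5, 4], [2, 3, 6, 4, 5, 0, 1], [2, 3, 6, 5, 4, 1, 0], [2, 4, 5, 0, 1, 3, 6], [2, 4,
    5, 1, 0, 6, 3], [2, 4, 5, 3, 6, 0, 1], [2, 4, 5, 6, 3, 1, 0], [2, 5, 4, 0, 1, 6, 3], [2, 5, 4, 1, 0, 3, 6],
    [2, 5, 4, 3, 6, 1, 0], [2, 5, 4, 6, 3, 0, 1], [2, 6, 3, 0, 1, 5, 4], [2, 6, 3, 1, 0, 4, 5], [2, 6, 3, 4, 5,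
    1, 0], [2, 6, 3, 5, 4, 0, 1], [3, 0, 4, 1, 5, 2, 6], [3, 0, 4, 2, 6, 1, 5], [3, 0, 4, 5, 1, 6, 2], [3, 0, 4,
    6, 2, 5, 1], [3, 1, 5, 0, 4, 2, 6], [3, 1, 5, 2, 6, 0, 4], [3, 1, 5, 4, 0, 6, 2], [3, 1, 5, 6, 2, 4, 0], [3,
    2, 6, 0, 4, 1, 5], [3, 2, 6, 1, 5, 0, 4], [3, 2, 6, 4, 0, 5, 1], [3, 2, 6, 5, 1, 4, 0], [3, 4, 0, 1, 5, 6,
    2], [3, 4, 0, 2, 6, 5, 1], [3, 4, 0, 5, 1, 2, 6], [3, 4, 0, 6, 2, 1, 5], [3, 5, 1, 0, 4, 6, 2], [3, 5, 1, 2,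
    6, 4, 0], [3, 5, 1, 4, 0, 2, 6], [3, 5, 1, 6, 2, 0, 4], [3, 6, 2, 0, 4, 5, 1], [3, 6, 2, 1, 5, 4, 0], [3, 6,
    2, 4, 0, 1, 5], [3, 6, 2, 5, 1, 0, 4], [4, 0, 3, 1, 6, 2, 5], [4, 0, 3, 2, 5, 1, 6], [4, 0, 3, 5, 2, 6, 1],
    [4, 0, 3, 6, 1, 5, 2], [4, 1, 6, 0, 3, 2, 5], [4, 1, 6, 2, 5, 0, 3], [4, 1, 6, 3, 0, 5, 2], [4, 1, 6, 5, 2,
    3, 0], [4, 2, 5, 0, 3, 1, 6], [4, 2, 5, 1, 6, 0, 3], [4, 2, 5, 3, 0, 6, 1], [4, 2, 5, 6, 1, 3, 0], [4, 3, 0,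
    1, 6, 5, 2], [4, 3, 0, 2, 5, 6, 1], [4, 3, 0, 5, 2, 1, 6], [4, 3, 0, 6, 1, 2, 5], [4, 5, 2, 0, 3, 6, 1], [4,
    5, 2, 1, 6, 3, 0], [4, 5, 2, 3, 0, 1, 6], [4, 5, 2, 6, 1, 0, 3], [4, 6, 1, 0, 3, 5, 2], [4, 6, 1, 2, 5, 3,
    0], [4, 6, 1, 3, 0, 2, 5], [4, 6, 1, 5, 2, 0, 3], [5, 0, 6, 1, 3, 2, 4], [5, 0, 6, 2, 4, 1, 3], [5, 0, 6, 3,
    1, 4, 2], [5, 0, 6, 4, 2, 3, 1], [5, 1, 3, 0, 6, 2, 4], [5, 1, 3, 2, 4, 0, 6], [5, 1, 3, 4, 2, 6, 0], [5, 1,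
    3, 6, 0, 4, 2], [5, 2, 4, 0, 6, 1, 3], [5, 2, 4, 1, 3, 0, 6], [5, 2, 4, 3, 1, 6, 0], [5, 2, 4, 6, 0, 3, 1],
    [5, 3, 1, 0, 6, 4, 2], [5, 3, 1, 2, 4, 6, 0], [5, 3, 1, 4, 2, 0, 6], [5, 3, 1, 6, 0, 2, 4], [5, 4, 2, 0, 6,
    3, 1], [5, 4, 2, 1, 3, 6, 0], [5, 4, 2, 3, 1, 0, 6], [5, 4, 2, 6, 0, 1, 3], [5, 6, 0, 1, 3, 4, 2], [5, 6, 0,
    2, 4, 3, 1], [5, 6, 0, 3, 1, 2, 4], [5, 6, 0, 4, 2, 1, 3], [6, 0, 5, 1, 4, 2, 3], [6, 0, 5, 2, 3, 1, 4], [6,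
    0, 5, 3, 2, 4, 1], [6, 0, 5, 4, 1, 3, 2], [6, 1, 4, 0, 5, 2, 3], [6, 1, 4, 2, 3, 0, 5], [6, 1, 4, 3, 2, 5,
    0], [6, 1, 4, 5, 0, 3, 2], [6, 2, 3, 0, 5, 1, 4], [6, 2, 3, 1, 4, 0, 5], [6, 2, 3, 4, 1, 5, 0], [6, 2, 3, 5,
    0, 4, 1], [6, 3, 2, 0, 5, 4, 1], [6, 3, 2, 1, 4, 5, 0], [6, 3, 2, 4, 1, 0, 5], [6, 3, 2, 5, 0, 1, 4], [6, 4,
    1, 0, 5, 3, 2], [6, 4, 1, 2, 3, 5, 0], [6, 4, 1, 3, 2, 0, 5], [6, 4, 1, 5, 0, 2, 3], [6, 5, 0, 1, 4, 3, 2],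
    [6, 5, 0, 2, 3, 4, 1], [6, 5, 0, 3, 2, 1, 4], [6, 5, 0, 4, 1, 2, 3]]

/-- The even permutations of six points. -/
def tabA : List (List ℕ) :=
    [[0, 1, 2, 3, 4, 5], [0, 1, 2, 4, 5, 3], [0, 1, 2, 5, 3, 4], [0, 1, 3, 2, 5, 4], [0, 1, 3, 4, 2, 5], [0, 1,
    3, 5, 4, 2], [0, 1, 4, 2, 3, 5], [0, 1, 4, 3, 5, 2], [0, 1, 4, 5, 2, 3], [0, 1, 5, 2, 4, 3], [0, 1, 5, 3, 2,
    4], [0, 1, 5, 4, 3, 2], [0, 2, 1, 3, 5, 4], [0, 2, 1, 4, 3, 5], [0, 2, 1, 5, 4, 3], [0, 2, 3, 1, 4, 5], [0,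
    2, 3, 4, 5, 1], [0, 2, 3, 5, 1, 4], [0, 2, 4, 1, 5, 3], [0, 2, 4, 3, 1, 5], [0, 2, 4, 5, 3, 1], [0, 2, 5, 1,
    3, 4], [0, 2, 5, 3, 4, 1], [0, 2, 5, 4, 1, 3], [0, 3, 1, 2, 4, 5], [0, 3, 1, 4, 5, 2], [0, 3, 1, 5, 2, 4],
    [0, 3, 2, 1, 5, 4], [0, 3, 2, 4, 1, 5], [0, 3, 2, 5, 4, 1], [0, 3, 4, 1, 2, 5], [0, 3, 4, 2, 5, 1], [0, 3,
    4, 5, 1, 2], [0, 3, 5, 1, 4, 2], [0, 3, 5, 2, 1, 4], [0, 3, 5, 4, 2, 1], [0, 4, 1, 2, 5, 3], [0, 4, 1, 3, 2,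
    5], [0, 4, 1, 5, 3, 2], [0, 4, 2, 1, 3, 5], [0, 4, 2, 3, 5, 1], [0, 4, 2, 5, 1, 3], [0, 4, 3, 1, 5, 2], [0,
    4, 3, 2, 1, 5], [0, 4, 3, 5, 2, 1], [0, 4, 5, 1, 2, 3], [0, 4, 5, 2, 3, 1], [0, 4, 5, 3, 1, 2], [0, 5, 1, 2,
    3, 4], [0, 5, 1, 3, 4, 2], [0, 5, 1, 4, 2, 3], [0, 5, 2, 1, 4, 3], [0, 5, 2, 3, 1, 4], [0, 5, 2, 4, 3, 1],
    [0, 5, 3, 1, 2, 4], [0, 5, 3, 2, 4, 1], [0, 5, 3, 4, 1, 2], [0, 5, 4, 1, 3, 2], [0, 5, 4, 2, 1, 3], [0, 5,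
    4, 3, 2, 1], [1, 0, 2, 3, 5, 4], [1, 0, 2, 4, 3, 5], [1, 0, 2, 5, 4, 3], [1, 0, 3, 2, 4, 5], [1, 0, 3, 4, 5,
    2], [1, 0, 3, 5, 2, 4], [1, 0, 4, 2, 5, 3], [1, 0, 4, 3, 2, 5], [1, 0, 4, 5, 3, 2], [1, 0, 5, 2, 3, 4], [1,
    0, 5, 3, 4, 2], [1, 0, 5, 4, 2, 3], [1, 2, 0, 3, 4, 5], [1, 2, 0, 4, 5, 3], [1, 2, 0, 5, 3, 4], [1, 2, 3, 0,
    5, 4], [1, 2, 3, 4, 0, 5], [1, 2, 3, 5, 4, 0], [1, 2, 4, 0, 3, 5], [1, 2, 4, 3, 5, 0], [1, 2, 4, 5, 0, 3],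
    [1, 2, 5, 0, 4, 3], [1, 2, 5, 3, 0, 4], [1, 2, 5, 4, 3, 0], [1, 3, 0, 2, 5, 4], [1, 3, 0, 4, 2, 5], [1, 3,
    0, 5, 4, 2], [1, 3, 2, 0, 4, 5], [1, 3, 2, 4, 5, 0], [1, 3, 2, 5, 0, 4], [1, 3, 4, 0, 5, 2], [1, 3, 4, 2, 0,
    5], [1, 3, 4, 5, 2, 0], [1, 3, 5, 0, 2, 4], [1, 3, 5, 2, 4, 0], [1, 3, 5, 4, 0, 2], [1, 4, 0, 2, 3, 5], [1,
    4, 0, 3, 5, 2], [1, 4, 0, 5, 2, 3], [1, 4, 2, 0, 5, 3], [1, 4, 2, 3, 0, 5], [1, 4, 2, 5, 3, 0], [1, 4, 3, 0,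
    2, 5], [1, 4, 3, 2, 5, 0], [1, 4, 3, 5, 0, 2], [1, 4, 5, 0, 3, 2], [1, 4, 5, 2, 0, 3], [1, 4, 5, 3, 2, 0],
    [1, 5, 0, 2, 4, 3], [1, 5, 0, 3, 2, 4], [1, 5, 0, 4, 3, 2], [1, 5, 2, 0, 3, 4], [1, 5, 2, 3, 4, 0], [1, 5,
    2, 4, 0, 3], [1, 5, 3, 0, 4, 2], [1, 5, 3, 2, 0, 4], [1, 5, 3, 4, 2, 0], [1, 5, 4, 0, 2, 3], [1, 5, 4, 2, 3,
    0], [1, 5, 4, 3, 0, 2], [2, 0, 1, 3, 4, 5], [2, 0, 1, 4, 5, 3], [2, 0, 1, 5, 3, 4], [2, 0, 3, 1, 5, 4], [2,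
    0, 3, 4, 1, 5], [2, 0, 3, 5, 4, 1], [2, 0, 4, 1, 3, 5], [2, 0, 4, 3, 5, 1], [2, 0, 4, 5, 1, 3], [2, 0, 5, 1,
    4, 3], [2, 0, 5, 3, 1, 4], [2, 0, 5, 4, 3, 1], [2, 1, 0, 3, 5, 4], [2, 1, 0, 4, 3, 5], [2, 1, 0, 5, 4, 3],
    [2, 1, 3, 0, 4, 5], [2, 1, 3, 4, 5, 0], [2, 1, 3, 5, 0, 4], [2, 1, 4, 0, 5, 3], [2, 1, 4, 3, 0, 5], [2, 1,
    4, 5, 3, 0], [2, 1, 5, 0, 3, 4], [2, 1, 5, 3, 4, 0], [2, 1, 5, 4, 0, 3], [2, 3, 0, 1, 4, 5], [2, 3, 0, 4, 5,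
    1], [2, 3, 0, 5, 1, 4], [2, 3, 1, 0, 5, 4], [2, 3, 1, 4, 0, 5], [2, 3, 1, 5, 4, 0], [2, 3, 4, 0, 1, 5], [2,
    3, 4, 1, 5, 0], [2, 3, 4, 5, 0, 1], [2, 3, 5, 0, 4, 1], [2, 3, 5, 1, 0, 4], [2, 3, 5, 4, 1, 0], [2, 4, 0, 1,
    5, 3], [2, 4, 0, 3, 1, 5], [2, 4, 0, 5, 3, 1], [2, 4, 1, 0, 3, 5], [2, 4, 1, 3, 5, 0], [2, 4, 1, 5, 0, 3],
    [2, 4, 3, 0, 5, 1], [2, 4, 3, 1, 0, 5], [2, 4, 3, 5, 1, 0], [2, 4, 5, 0, 1, 3], [2, 4, 5, 1, 3, 0], [2, 4,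
    5, 3, 0, 1], [2, 5, 0, 1, 3, 4], [2, 5, 0, 3, 4, 1], [2, 5, 0, 4, 1, 3], [2, 5, 1, 0, 4, 3], [2, 5, 1, 3, 0,
    4], [2, 5, 1, 4, 3, 0], [2, 5, 3, 0, 1, 4], [2, 5, 3, 1, 4, 0], [2, 5, 3, 4, 0, 1], [2, 5, 4, 0, 3, 1], [2,
    5, 4, 1, 0, 3], [2, 5, 4, 3, 1, 0], [3, 0, 1, 2, 5, 4], [3, 0, 1, 4, 2, 5], [3, 0, 1, 5, 4, 2], [3, 0, 2, 1,
    4, 5], [3, 0, 2, 4, 5, 1], [3, 0, 2, 5, 1, 4], [3, 0, 4, 1, 5, 2], [3, 0, 4, 2, 1, 5], [3, 0, 4, 5, 2, 1],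
    [3, 0, 5, 1, 2, 4], [3, 0, 5, 2, 4, 1], [3, 0, 5, 4, 1, 2], [3, 1, 0, 2, 4, 5], [3, 1, 0, 4, 5, 2], [3, 1,
    0, 5, 2, 4], [3, 1, 2, 0, 5, 4], [3, 1, 2, 4, 0, 5], [3, 1, 2, 5, 4, 0], [3, 1, 4, 0, 2, 5], [3, 1, 4, 2, 5,
    0], [3, 1, 4, 5, 0, 2], [3, 1, 5, 0, 4, 2], [3, 1, 5, 2, 0, 4], [3, 1, 5, 4, 2, 0], [3, 2, 0, 1, 5, 4], [3,
    2, 0, 4, 1, 5], [3, 2, 0, 5, 4, 1], [3, 2, 1, 0, 4, 5], [3, 2, 1, 4, 5, 0], [3, 2, 1, 5, 0, 4], [3, 2, 4, 0,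
    5, 1], [3, 2, 4, 1, 0, 5], [3, 2, 4, 5, 1, 0], [3, 2, 5, 0, 1, 4], [3, 2, 5, 1, 4, 0], [3, 2, 5, 4, 0, 1],
    [3, 4, 0, 1, 2, 5], [3, 4, 0, 2, 5, 1], [3, 4, 0, 5, 1, 2], [3, 4, 1, 0, 5, 2], [3, 4, 1, 2, 0, 5], [3, 4,
    1, 5, 2, 0], [3, 4, 2, 0, 1, 5], [3, 4, 2, 1, 5, 0], [3, 4, 2, 5, 0, 1], [3, 4, 5, 0, 2, 1], [3, 4, 5, 1, 0,
    2], [3, 4, 5, 2, 1, 0], [3, 5, 0, 1, 4, 2], [3, 5, 0, 2, 1, 4], [3, 5, 0, 4, 2, 1], [3, 5, 1, 0, 2, 4], [3,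
    5, 1, 2, 4, 0], [3, 5, 1, 4, 0, 2], [3, 5, 2, 0, 4, 1], [3, 5, 2, 1, 0, 4], [3, 5, 2, 4, 1, 0], [3, 5, 4, 0,
    1, 2], [3, 5, 4, 1, 2, 0], [3, 5, 4, 2, 0, 1], [4, 0, 1, 2, 3, 5], [4, 0, 1, 3, 5, 2], [4, 0, 1, 5, 2, 3],
    [4, 0, 2, 1, 5, 3], [4, 0, 2, 3, 1, 5], [4, 0, 2, 5, 3, 1], [4, 0, 3, 1, 2, 5], [4, 0, 3, 2, 5, 1], [4, 0,
    3, 5, 1, 2], [4, 0, 5, 1, 3, 2], [4, 0, 5, 2, 1, 3], [4, 0, 5, 3, 2, 1], [4, 1, 0, 2, 5, 3], [4, 1, 0, 3, 2,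
    5], [4, 1, 0, 5, 3, 2], [4, 1, 2, 0, 3, 5], [4, 1, 2, 3, 5, 0], [4, 1, 2, 5, 0, 3], [4, 1, 3, 0, 5, 2], [4,
    1, 3, 2, 0, 5], [4, 1, 3, 5, 2, 0], [4, 1, 5, 0, 2, 3], [4, 1, 5, 2, 3, 0], [4, 1, 5, 3, 0, 2], [4, 2, 0, 1,
    3, 5], [4, 2, 0, 3, 5, 1], [4, 2, 0, 5, 1, 3], [4, 2, 1, 0, 5, 3], [4, 2, 1, 3, 0, 5], [4, 2, 1, 5, 3, 0],
    [4, 2, 3, 0, 1, 5], [4, 2, 3, 1, 5, 0], [4, 2, 3, 5, 0, 1], [4, 2, 5, 0, 3, 1], [4, 2, 5, 1, 0, 3], [4, 2,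
    5, 3, 1, 0], [4, 3, 0, 1, 5, 2], [4, 3, 0, 2, 1, 5], [4, 3, 0, 5, 2, 1], [4, 3, 1, 0, 2, 5], [4, 3, 1, 2, 5,
    0], [4, 3, 1, 5, 0, 2], [4, 3, 2, 0, 5, 1], [4, 3, 2, 1, 0, 5], [4, 3, 2, 5, 1, 0], [4, 3, 5, 0, 1, 2], [4,
    3, 5, 1, 2, 0], [4, 3, 5, 2, 0, 1], [4, 5, 0, 1, 2, 3], [4, 5, 0, 2, 3, 1], [4, 5, 0, 3, 1, 2], [4, 5, 1, 0,
    3, 2], [4, 5, 1, 2, 0, 3], [4, 5, 1, 3, 2, 0], [4, 5, 2, 0, 1, 3], [4, 5, 2, 1, 3, 0], [4, 5, 2, 3, 0, 1],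
    [4, 5, 3, 0, 2, 1], [4, 5, 3, 1, 0, 2], [4, 5, 3, 2, 1, 0], [5, 0, 1, 2, 4, 3], [5, 0, 1, 3, 2, 4], [5, 0,
    1, 4, 3, 2], [5, 0, 2, 1, 3, 4], [5, 0, 2, 3, 4, 1], [5, 0, 2, 4, 1, 3], [5, 0, 3, 1, 4, 2], [5, 0, 3, 2, 1,
    4], [5, 0, 3, 4, 2, 1], [5, 0, 4, 1, 2, 3], [5, 0, 4, 2, 3, 1], [5, 0, 4, 3, 1, 2], [5, 1, 0, 2, 3, 4], [5,
    1, 0, 3, 4, 2], [5, 1, 0, 4, 2, 3], [5, 1, 2, 0, 4, 3], [5, 1, 2, 3, 0, 4], [5, 1, 2, 4, 3, 0], [5, 1, 3, 0,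
    2, 4], [5, 1, 3, 2, 4, 0], [5, 1, 3, 4, 0, 2], [5, 1, 4, 0, 3, 2], [5, 1, 4, 2, 0, 3], [5, 1, 4, 3, 2, 0],
    [5, 2, 0, 1, 4, 3], [5, 2, 0, 3, 1, 4], [5, 2, 0, 4, 3, 1], [5, 2, 1, 0, 3, 4], [5, 2, 1, 3, 4, 0], [5, 2,
    1, 4, 0, 3], [5, 2, 3, 0, 4, 1], [5, 2, 3, 1, 0, 4], [5, 2, 3, 4, 1, 0], [5, 2, 4, 0, 1, 3], [5, 2, 4, 1, 3,
    0], [5, 2, 4, 3, 0, 1], [5, 3, 0, 1, 2, 4], [5, 3, 0, 2, 4, 1], [5, 3, 0, 4, 1, 2], [5, 3, 1, 0, 4, 2], [5,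
    3, 1, 2, 0, 4], [5, 3, 1, 4, 2, 0], [5, 3, 2, 0, 1, 4], [5, 3, 2, 1, 4, 0], [5, 3, 2, 4, 0, 1], [5, 3, 4, 0,
    2, 1], [5, 3, 4, 1, 0, 2], [5, 3, 4, 2, 1, 0], [5, 4, 0, 1, 3, 2], [5, 4, 0, 2, 1, 3], [5, 4, 0, 3, 2, 1],
    [5, 4, 1, 0, 2, 3], [5, 4, 1, 2, 3, 0], [5, 4, 1, 3, 0, 2], [5, 4, 2, 0, 3, 1], [5, 4, 2, 1, 0, 3], [5, 4,
    2, 3, 1, 0], [5, 4, 3, 0, 1, 2], [5, 4, 3, 1, 2, 0], [5, 4, 3, 2, 0, 1]]
/-- The product in list form. -/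
def mulL (p q : List ℕ) : List ℕ := q.map fun j => p.getD j 0

/-- The list of a permutation. -/
def code {n : ℕ} (p : Perm (Fin n)) : List ℕ := List.ofFn fun i => (p i).val

theorem code_mul {n : ℕ} (p q : Perm (Fin n)) : code (p * q) = mulL (code p) (code q) := by
  simp only [code, mulL, List.map_ofFn]
  congr 1
  funext i
  simp [List.getD_eq_getElem?_getD]

theorem code_inj {n : ℕ} : Function.Injective (code (n := n)) := fun p q h => Equiv.ext fun i =>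
  Fin.ext (congrFun (List.ofFn_inj.1 h) i)

theorem code_one (n : ℕ) : code (1 : Perm (Fin n)) = List.range n := by
  refine List.ext_getElem (by simp [code]) fun i h1 h2 => ?_
  simp [code]

/-- The automorphism condition on a pair in the table of order 168. -/
def okL (I a c d : List ℕ) : Bool :=
  let m := mulL
  let P := fun b : List ℕ => (m b b == I) && !(m a b == m b a) && (m (m (m a b) (m a b)) (m a b) == I) &&
    (m (m (m b c) (m b c)) (m b c) == I) && (m (m (m b d) (m b d)) (m b d) == I)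
  !((m c c == I) && (m d d == I) && (m c a == m a c) && (m d a == m a d) && (m (m c d) (m c d) == a)) ||
    (tabL.any P && (tabL.filter P).all (fun b => (tabL.filter P).all fun b' =>
      (b' == b) || (b' == m (m a b) a)) && tabL.any fun r => m r a == m (m a c) r)

/-- The conditions on an element of order five. -/
def condA (I a c d y : List ℕ) : Bool :=
  let m := mulL
  let y5 := m (m (m (m y y) y) y) y
  let u := m (m y c) (m y d)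
  (y5 == I) && !(y == I) && (m (m y a) y == a) && (m (m (m y c) (m y c)) (m y c) == I) &&
    (m (m (m y d) (m y d)) (m y d) == I) && (m (m (m (m u u) u) u) u == I)

/-- The automorphism condition on a pair in the alternating table. -/
def okA (I a c d : List ℕ) : Bool :=
  let m := mulL
  !((m c c == I) && (m d d == I) && (m c a == m a c) && (m d a == m a d) && (m (m c d) (m c d) == a)) ||
    (let S := tabA.filter (condA I a c d)
     !S.isEmpty && S.all fun y =>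
      let y2 := m y y
      let y3 := m y2 y
      let y4 := m y3 y
      let u := m (m (m (m c y) d) y) c
      (u == m (m (m (m d y4) c) y4) d) && !(u == I) && (m (m (m (m u u) u) u) u == I) &&
        S.all fun z => (z == y) || (z == y4) ||
          ((z == m (m (m (m (m c d) y) y) d) c) && !(m (m (m (m (m d c) z) z) c) d == y)) ||
          ((z == m (m (m (m (m d c) y) y) c) d) && !(m (m (m (m (m c d) z) z) d) c == y)))

/-- The fixed involutions. -/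
def aL : List ℕ := [0, 1, 2, 4, 3, 6, 5]

/-- The fixed involution of the alternating table. -/
def aA : List ℕ := [0, 1, 3, 2, 5, 4]

/-- All pairs. -/
def allPairs (L : List (List ℕ)) (I a : List ℕ) (f : List ℕ → List ℕ → Bool) : Bool :=
  let C := L.filter fun c => (mulL c c == I) && (mulL c a == mulL a c)
  C.all fun c => C.all fun d => f c d

/-- One class of involutions. -/
def oneClass (L : List (List ℕ)) (I a : List ℕ) : Bool :=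
  (L.filter fun l => (mulL l l == I) && !(l == I)).all fun l => L.any fun g => mulL g l == mulL a g

theorem okL_all : allPairs tabL (List.range 7) aL (okL (List.range 7) aL) = true := by decide +kernel

theorem okA_all : allPairs tabA (List.range 6) aA (okA (List.range 6) aA) = true := by decide +kernel

theorem oneClass_ok : oneClass tabL (List.range 7) aL = true ∧ oneClass tabA (List.range 6) aA = true ∧
    tabL.Nodup ∧ tabL.length = 168 ∧ tabA.length = 360 ∧ tabA.Nodup ∧ aL ∈ tabL ∧ aA ∈ tabA := by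
  decide +kernel

/-- A coded copy of a group. -/
structure Tab (W : Type*) [Group W] (I : List ℕ) (L : List (List ℕ)) where
  /-- The coding. -/
  ψ : W → List ℕ
  inj : Function.Injective ψ
  map_mul : ∀ x y, ψ (x * y) = mulL (ψ x) (ψ y)
  map_one : ψ 1 = I
  mem : ∀ x, ψ x ∈ L
  surj : ∀ l ∈ L, ∃ x, ψ x = l

variable {W : Type*} [Group W] {I : List ℕ} {L : List (List ℕ)}

theorem Tab.iff_one (T : Tab W I L) (x : W) : T.ψ x = I ↔ x = 1 :=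
  ⟨fun h => T.inj (h.trans T.map_one.symm), fun h => h ▸ T.map_one⟩

/-- A table is a copy when the numbers agree. -/
def Tab.ofCard [Finite W] (ψ : W → List ℕ) (inj : Function.Injective ψ)
    (map_mul : ∀ x y, ψ (x * y) = mulL (ψ x) (ψ y)) (map_one : ψ 1 = I) (mem : ∀ x, ψ x ∈ L)
    (hn : L.Nodup) (hc : L.length = Nat.card W) : Tab W I L where
  ψ := ψ
  inj := inj
  map_mul := map_mul
  map_one := map_one
  mem := mem
  surj := by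
    classical
    haveI := Fintype.ofFinite W
    intro l hl
    have h : (Finset.univ.image ψ) = L.toFinset := Finset.eq_of_subset_of_card_le
      (fun l hl => by
        obtain ⟨x, -, rfl⟩ := Finset.mem_image.1 hl
        exact List.mem_toFinset.2 (mem x))
      (by rw [Finset.card_image_of_injective _ inj, List.toFinset_card_of_nodup hn, hc,
        Nat.card_eq_fintype_card, Finset.card_univ])
    obtain ⟨x, -, e⟩ := Finset.mem_image.1 (h.symm ▸ List.mem_toFinset.2 hl : l ∈ Finset.univ.image ψ)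
    exact ⟨x, e⟩

/-- Move an involution to the fixed one. -/
theorem Tab.exists_move (T : Tab W I L) {a0 : List ℕ} (h1 : oneClass L I a0 = true) (h0 : a0 ∈ L) {a : W}
    (ha : a * a = 1) (ha1 : a ≠ 1) : ∃ T' : Tab W I L, T'.ψ a = a0 := by
  have hmem : T.ψ a ∈ L.filter fun l => (mulL l l == I) && !(l == I) := by
    refine List.mem_filter.2 ⟨T.mem a, ?_⟩
    rw [← T.map_mul, ha, T.map_one]
    simp [T.iff_one, ha1]
  obtain ⟨g, hg, e⟩ := List.any_eq_true.1 (List.all_eq_true.1 h1 _ hmem)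
  obtain ⟨h, rfl⟩ := T.surj g hg
  obtain ⟨b, rfl⟩ := T.surj a0 h0
  rw [beq_iff_eq, ← T.map_mul, ← T.map_mul] at e
  have e' := T.inj e
  refine ⟨{ ψ := fun w => T.ψ (h * w * h⁻¹)
            inj := fun x y hxy => by simpa using T.inj hxy
            map_mul := fun x y => by rw [← T.map_mul]; congr 1; group
            map_one := by rw [mul_one, mul_inv_cancel, T.map_one]
            mem := fun x => T.mem _
            surj := fun l hl => (T.surj l hl).elim fun x hx => ⟨h⁻¹ * x * h, by rw [← hx]; congr 1; group⟩ }, ?_⟩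
  show T.ψ (h * a * h⁻¹) = T.ψ b
  rw [e', mul_inv_cancel_right]

/-- The hypotheses on the automorphism. -/
structure Hyp (σ : W ≃* W) (a c : W) : Prop where
  inv : ∀ x, σ (σ x) = x
  a_sq : a * a = 1
  a_ne : a ≠ 1
  fix : σ a = a
  c_sq : c * c = 1
  ca : c * a = a * c
  sq : (c * σ c) * (c * σ c) = a

variable {σ : W ≃* W} {a c : W}

theorem Hyp.d_sq (h : Hyp σ a c) : σ c * σ c = 1 := by rw [← map_mul, h.c_sq, map_one]

theorem Hyp.da (h : Hyp σ a c) : σ c * a = a * σ c := by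
  have := congrArg σ h.ca
  rwa [map_mul, map_mul, h.fix] at this

theorem Hyp.pair (h : Hyp σ a c) (T : Tab W I L) {a0 : List ℕ} (e : T.ψ a = a0)
    {f : List ℕ → List ℕ → List ℕ → List ℕ → Bool} (hall : allPairs L I a0 (f I a0) = true) :
    f I (T.ψ a) (T.ψ c) (T.ψ (σ c)) = true := by
  subst e
  have hC : ∀ x : W, x * x = 1 → x * a = a * x →
      T.ψ x ∈ L.filter fun c => (mulL c c == I) && (mulL c (T.ψ a) == mulL (T.ψ a) c) := fun x h1 h2 =>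
    List.mem_filter.2 ⟨T.mem x, by rw [← T.map_mul, ← T.map_mul, ← T.map_mul, h1, h2, T.map_one]; simp⟩
  exact List.all_eq_true.1 (List.all_eq_true.1 hall _ (hC c h.c_sq h.ca)) _ (hC _ h.d_sq h.da)

theorem Hyp.caseL (h : Hyp σ a c) (T : Tab W (List.range 7) tabL) :
    ∃ b r : W, b * b = 1 ∧ a * b ≠ b * a ∧ (a * b) ^ 3 = 1 ∧ (b * c) ^ 3 = 1 ∧
      (σ b = b ∨ σ b = a * b * a) ∧ r * a * r⁻¹ = a * c := by
  obtain ⟨T', e⟩ := T.exists_move oneClass_ok.1 oneClass_ok.2.2.2.2.2.2.1 h.a_sq h.a_ne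
  have hk := h.pair T' e (f := okL) okL_all
  set ψ := T'.ψ with hψ
  let P : W → Prop := fun b => b * b = 1 ∧ a * b ≠ b * a ∧ (a * b) ^ 3 = 1 ∧ (b * c) ^ 3 = 1 ∧ (b * σ c) ^ 3 = 1
  simp only [okL, ← T'.map_mul, h.c_sq, h.d_sq, h.ca, h.da, h.sq, T'.map_one, hψ, beq_self_eq_true, Bool.and_self,
    Bool.not_true, Bool.false_or, Bool.and_eq_true, List.any_eq_true, List.all_eq_true, List.mem_filter,
    Bool.or_eq_true, Bool.not_eq_true', beq_eq_false_iff_ne, beq_iff_eq] at hk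
  obtain ⟨⟨⟨b0, hb0, hb0'⟩, huniq⟩, r0, hr0, hr⟩ := hk
  obtain ⟨b, rfl⟩ := T'.surj b0 hb0
  obtain ⟨r, rfl⟩ := T'.surj r0 hr0
  simp only [← T'.map_mul, T'.iff_one, T'.inj.eq_iff, ne_eq] at hb0' huniq hr
  obtain ⟨⟨⟨⟨p1, p2⟩, p3⟩, p4⟩, p5⟩ := hb0'
  refine ⟨b, r, p1, p2, by rw [pow_three']; exact p3, by rw [pow_three']; exact p4, ?_,
    by rw [hr, mul_inv_cancel_right]⟩
  have q1 : σ b * σ b = 1 := by rw [← map_mul, p1, map_one]
  have q2 : ¬ a * σ b = σ b * a := fun hh => p2 (σ.injective (by rw [map_mul, map_mul, h.fix]; exact hh))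
  have q3 : a * σ b * (a * σ b) * (a * σ b) = 1 := by
    have := congrArg σ p3
    simpa only [map_mul, map_one, h.fix] using this
  have q4 : σ b * c * (σ b * c) * (σ b * c) = 1 := by
    have := congrArg σ p5
    simpa only [map_mul, map_one, h.inv] using this
  have q5 : σ b * σ c * (σ b * σ c) * (σ b * σ c) = 1 := by
    have := congrArg σ p4
    simpa only [map_mul, map_one] using this
  have key := huniq (T'.ψ b) ⟨T'.mem b, by
      simp only [← T'.map_mul, T'.iff_one, T'.inj.eq_iff]; exact ⟨⟨⟨⟨p1, p2⟩, p3⟩, p4⟩, p5⟩⟩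
    (T'.ψ (σ b)) ⟨T'.mem _, by
      simp only [← T'.map_mul, T'.iff_one, T'.inj.eq_iff]; exact ⟨⟨⟨⟨q1, q2⟩, q3⟩, q4⟩, q5⟩⟩
  simpa only [← T'.map_mul, T'.inj.eq_iff] using key

theorem Hyp.caseA (h : Hyp σ a c) (T : Tab W (List.range 6) tabA) : ∃ y : W, orderOf y = 5 ∧ σ y = y := by
  obtain ⟨T', e⟩ := T.exists_move oneClass_ok.2.1 oneClass_ok.2.2.2.2.2.2.2 h.a_sq h.a_ne
  have hk := h.pair T' e (f := okA) okA_all
  simp only [okA, ← T'.map_mul, h.c_sq, h.d_sq, h.ca, h.da, h.sq, T'.map_one, beq_self_eq_true, Bool.and_self,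
    Bool.not_true, Bool.false_or, Bool.and_eq_true, List.all_eq_true, List.mem_filter,
    Bool.or_eq_true, Bool.not_eq_true', beq_eq_false_iff_ne, beq_iff_eq] at hk
  obtain ⟨hne, hall⟩ := hk
  rw [List.isEmpty_eq_false_iff] at hne
  obtain ⟨y0, hy0⟩ := List.exists_mem_of_ne_nil _ hne
  rw [List.mem_filter] at hy0
  obtain ⟨y, rfl⟩ := T'.surj y0 hy0.1
  obtain ⟨⟨⟨hu, hu1⟩, hu5⟩, hS⟩ := hall (T'.ψ y) hy0
  have hy := hy0.2
  simp only [condA, ← T'.map_mul, Bool.and_eq_true, Bool.not_eq_true', beq_eq_false_iff_ne, beq_iff_eq,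
    T'.iff_one, T'.inj.eq_iff, ne_eq] at hy
  obtain ⟨⟨⟨⟨⟨p5, p1⟩, pa⟩, pc⟩, pd⟩, pu⟩ := hy
  haveI : Fact (Nat.Prime 5) := ⟨by norm_num⟩
  have ord : ∀ z : W, z * z * z * z * z = 1 → z ≠ 1 → orderOf z = 5 := fun z h1 h2 =>
    orderOf_eq_prime (by simp only [pow_succ, pow_zero, one_mul]; exact h1) h2
  have hσy : condA (List.range 6) (T'.ψ a) (T'.ψ c) (T'.ψ (σ c)) (T'.ψ (σ y)) = true := by
    simp only [condA, ← T'.map_mul, Bool.and_eq_true, Bool.not_eq_true', beq_eq_false_iff_ne, beq_iff_eq,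
      T'.iff_one, T'.inj.eq_iff, ne_eq]
    refine ⟨⟨⟨⟨⟨?_, fun hh => p1 (σ.injective (hh.trans (map_one σ).symm))⟩, ?_⟩, ?_⟩, ?_⟩, ?_⟩
    · have := congrArg σ p5; simpa only [map_mul, map_one] using this
    · have := congrArg σ pa; simpa only [map_mul, h.fix] using this
    · have := congrArg σ pd; simpa only [map_mul, map_one, h.inv] using this
    · have := congrArg σ pc; simpa only [map_mul, map_one] using this
    · have h1 : y * σ c * (y * c) * (y * σ c * (y * c)) * (y * σ c * (y * c)) * (y * σ c * (y * c)) *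
          (y * σ c * (y * c)) = 1 := by
        calc _ = (y * c)⁻¹ * (y * c * (y * σ c) * (y * c * (y * σ c)) * (y * c * (y * σ c)) *
              (y * c * (y * σ c)) * (y * c * (y * σ c))) * (y * c) := by group
          _ = 1 := by rw [pu]; group
      have := congrArg σ h1; simpa only [map_mul, map_one, h.inv] using this
  have hz := hS (T'.ψ (σ y)) ⟨T'.mem _, hσy⟩
  simp only [← T'.map_mul, T'.inj.eq_iff, T'.iff_one, ne_eq] at hz hu hu1 hu5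
  rcases hz with ((hz | hz) | ⟨hz, hne'⟩) | ⟨hz, hne'⟩
  · exact ⟨y, ord y p5 p1, hz⟩
  · refine ⟨c * y * σ c * y * c, ord _ hu5 hu1, ?_⟩
    rw [map_mul, map_mul, map_mul, map_mul, h.inv, hz]
    exact hu.symm
  · have := congrArg σ hz
    simp only [map_mul, h.inv] at this
    exact absurd this.symm hne'
  · have := congrArg σ hz
    simp only [map_mul, h.inv] at this
    exact absurd this.symm hne'

theorem no_S5 : ∀ x : Perm (Fin 5), x * x = 1 → x ≠ 1 → ∀ y : Perm (Fin 5), y * y = 1 →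
    y * x = x * y → Perm.sign y = Perm.sign x → ∀ z : Perm (Fin 5), z * z = 1 → z * x = x * z →
    Perm.sign z = Perm.sign x → y * z * (y * z) ≠ x := by decide +kernel

theorem no_S4 : ∀ x : Perm (Fin 4), x * x = 1 → x ≠ 1 → ∀ y : Perm (Fin 4), y * y = 1 →
    y * x = x * y → Perm.sign y = Perm.sign x → ∀ z : Perm (Fin 4), z * z = 1 → z * x = x * z →
    Perm.sign z = Perm.sign x → y * z * (y * z) ≠ x := by decide +kernel

theorem Hyp.not_sym {n : ℕ} (h : Hyp σ a c) (hconj : ∃ x : W, x * a * x⁻¹ = c)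
    (e : W ≃* Perm (Fin n)) (key : ∀ x : Perm (Fin n), x * x = 1 → x ≠ 1 → ∀ y : Perm (Fin n), y * y = 1 →
      y * x = x * y → Perm.sign y = Perm.sign x → ∀ z : Perm (Fin n), z * z = 1 → z * x = x * z →
      Perm.sign z = Perm.sign x → y * z * (y * z) ≠ x) : False := by
  obtain ⟨x, hx⟩ := hconj
  have hsign : ∀ u v : W, Perm.sign (e (u * v * u⁻¹)) = Perm.sign (e v) := fun u v => by
    simp only [map_mul, map_inv]
    rw [mul_comm (Perm.sign (e u)), mul_assoc, mul_inv_cancel, mul_one]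
  have hd : σ x * a * (σ x)⁻¹ = σ c := by rw [← hx, map_mul, map_mul, map_inv, h.fix]
  refine key (e a) (by rw [← map_mul, h.a_sq, map_one]) (by simpa using h.a_ne) (e c)
    (by rw [← map_mul, h.c_sq, map_one]) (by rw [← map_mul, h.ca, map_mul]) (by rw [← hx]; exact hsign x a)
    (e (σ c)) (by rw [← map_mul, h.d_sq, map_one]) (by rw [← map_mul, h.da, map_mul])
    (by rw [← hd]; exact hsign _ a) ?_
  rw [← map_mul, ← map_mul, h.sq]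

/-- A vector from a number. -/
def vec (k : ℕ) : Fin 3 → ZMod 2 := ![(k : ZMod 2), ((k / 2 : ℕ) : ZMod 2), ((k / 4 : ℕ) : ZMod 2)]

/-- A number from a vector. -/
def num (v : Fin 3 → ZMod 2) : ℕ := (v 0).val + 2 * (v 1).val + 4 * (v 2).val

theorem vec_num : ∀ v : Fin 3 → ZMod 2, vec (num v) = v ∧ num v < 8 ∧ (num v = 0 → v = 0) := by decide +kernel

theorem num_vec : ∀ k < 8, num (vec k) = k := by decide +kernel

/-- The extension of three images. -/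
def ext3 (u v w : Fin 3 → ZMod 2) : List ℕ :=
  [u, v, u + v, w, u + w, v + w, u + v + w].map fun x => num x - 1

theorem ext3_mem : ∀ u v w : Fin 3 → ZMod 2,
    u ≠ 0 → v ≠ 0 → w ≠ 0 → u + v ≠ 0 → u + w ≠ 0 → v + w ≠ 0 → u + v + w ≠ 0 → ext3 u v w ∈ tabL := by
  intro u v w
  have key : ((List.range 8).all fun i => (List.range 8).all fun j => (List.range 8).all fun k =>
      let U := [vec i, vec j, vec i + vec j, vec k, vec i + vec k, vec j + vec k, vec i + vec j + vec k].map num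
      U.any (fun n => n == 0) || tabL.any fun l => U.map (fun n => n - 1) == l) = true := by decide +kernel
  intro h1 h2 h3 h4 h5 h6 h7
  have hk := List.all_eq_true.1 (List.all_eq_true.1 (List.all_eq_true.1 key (num u) (List.mem_range.2 (vec_num u).2.1))
    (num v) (List.mem_range.2 (vec_num v).2.1)) (num w) (List.mem_range.2 (vec_num w).2.1)
  simp only [(vec_num u).1, (vec_num v).1, (vec_num w).1, Bool.or_eq_true, List.any_eq_true, beq_iff_eq,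
    List.mem_map] at hk
  rcases hk with ⟨n, ⟨x, hx, rfl⟩, hn⟩ | ⟨l, hl, e⟩
  · exfalso
    have h0 := (vec_num x).2.2 hn
    simp only [List.mem_cons, List.not_mem_nil, or_false] at hx
    rcases hx with rfl | rfl | rfl | rfl | rfl | rfl | rfl
    exacts [h1 h0, h2 h0, h4 h0, h3 h0, h5 h0, h6 h0, h7 h0]
  · rw [← e] at hl
    simpa only [ext3, List.map_map, Function.comp_def] using hl

/-- The code of a matrix of determinant one. -/
def codeL (g : Matrix.SpecialLinearGroup (Fin 3) (ZMod 2)) : List ℕ :=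
  (List.range 7).map fun i => num ((g : Matrix (Fin 3) (Fin 3) (ZMod 2)).mulVec (vec (i + 1))) - 1

theorem mulVec_eq_zero {g : Matrix.SpecialLinearGroup (Fin 3) (ZMod 2)} {v : Fin 3 → ZMod 2}
    (h : (g : Matrix (Fin 3) (Fin 3) (ZMod 2)).mulVec v = 0) : v = 0 := by
  have := congrArg ((g⁻¹ : Matrix.SpecialLinearGroup (Fin 3) (ZMod 2)) :
    Matrix (Fin 3) (Fin 3) (ZMod 2)).mulVec h
  rwa [Matrix.mulVec_mulVec, ← Matrix.SpecialLinearGroup.coe_mul, inv_mul_cancel,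
    Matrix.SpecialLinearGroup.coe_one, Matrix.one_mulVec, Matrix.mulVec_zero] at this

theorem codeL_mem (g : Matrix.SpecialLinearGroup (Fin 3) (ZMod 2)) : codeL g ∈ tabL := by
  set M := (g : Matrix (Fin 3) (Fin 3) (ZMod 2))
  have e : vec 3 = vec 1 + vec 2 ∧ vec 5 = vec 1 + vec 4 ∧ vec 6 = vec 2 + vec 4 ∧
      vec 7 = vec 1 + vec 2 + vec 4 := by decide +kernel
  have hne : ∀ k ∈ Finset.Icc 1 7, M.mulVec (vec k) ≠ 0 := fun k hk h => by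
    have h0 := mulVec_eq_zero h
    have key : ∀ k ∈ Finset.Icc 1 7, vec k ≠ 0 := by decide +kernel
    exact key k hk h0
  have hk : codeL g = ext3 (M.mulVec (vec 1)) (M.mulVec (vec 2)) (M.mulVec (vec 4)) := by
    simp only [codeL, ext3, List.range_succ, List.range_zero, List.nil_append, List.cons_append, List.map_cons,
      List.map_nil]
    simp only [← Matrix.mulVec_add, ← e.1, ← e.2.1, ← e.2.2.1, ← e.2.2.2]
    rfl
  rw [hk]
  refine ext3_mem _ _ _ (hne 1 (by decide)) (hne 2 (by decide)) (hne 4 (by decide)) ?_ ?_ ?_ ?_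
  · rw [← Matrix.mulVec_add, ← e.1]; exact hne 3 (by decide)
  · rw [← Matrix.mulVec_add, ← e.2.1]; exact hne 5 (by decide)
  · rw [← Matrix.mulVec_add, ← e.2.2.1]; exact hne 6 (by decide)
  · rw [← Matrix.mulVec_add, ← Matrix.mulVec_add, ← e.2.2.2]; exact hne 7 (by decide)

theorem codeL_mul (g h : Matrix.SpecialLinearGroup (Fin 3) (ZMod 2)) :
    codeL (g * h) = mulL (codeL g) (codeL h) := by
  simp only [codeL, mulL, List.map_map]
  refine List.map_congr_left fun i hi => ?_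
  set v := (h : Matrix (Fin 3) (Fin 3) (ZMod 2)).mulVec (vec (i + 1)) with hv
  have h0 : num v ≠ 0 := fun e => by
    have h1 := mulVec_eq_zero ((vec_num v).2.2 e)
    have key : ∀ i < 7, vec (i + 1) ≠ 0 := by decide +kernel
    exact key i (List.mem_range.1 hi) h1
  have h8 := (vec_num v).2.1
  have hg : num v - 1 < ((List.range 7).map fun j =>
      num ((g : Matrix (Fin 3) (Fin 3) (ZMod 2)).mulVec (vec (j + 1))) - 1).length := by simp; omega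
  simp only [Function.comp_apply]
  rw [← hv, List.getD_eq_getElem _ _ hg, List.getElem_map, List.getElem_range,
    show num v - 1 + 1 = num v by omega, (vec_num v).1, hv, Matrix.mulVec_mulVec,
    Matrix.SpecialLinearGroup.coe_mul]

theorem codeL_one : codeL 1 = List.range 7 := by
  simp only [codeL, Matrix.SpecialLinearGroup.coe_one, Matrix.one_mulVec]
  decide +kernel

theorem codeL_inj : Function.Injective codeL := fun g h e => by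
  have hcol : ∀ i < 7, (g : Matrix (Fin 3) (Fin 3) (ZMod 2)).mulVec (vec (i + 1)) =
      (h : Matrix (Fin 3) (Fin 3) (ZMod 2)).mulVec (vec (i + 1)) := fun i hi => by
    have e' := List.map_inj_left.1 e i (List.mem_range.2 hi)
    have key : ∀ i < 7, vec (i + 1) ≠ 0 := by decide +kernel
    have hg : num ((g : Matrix (Fin 3) (Fin 3) (ZMod 2)).mulVec (vec (i + 1))) ≠ 0 := fun z =>
      key i hi (mulVec_eq_zero ((vec_num _).2.2 z))
    have hh : num ((h : Matrix (Fin 3) (Fin 3) (ZMod 2)).mulVec (vec (i + 1))) ≠ 0 := fun z =>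
      key i hi (mulVec_eq_zero ((vec_num _).2.2 z))
    rw [← (vec_num ((g : Matrix (Fin 3) (Fin 3) (ZMod 2)).mulVec (vec (i + 1)))).1,
      show num _ = num ((h : Matrix (Fin 3) (Fin 3) (ZMod 2)).mulVec (vec (i + 1))) by omega, (vec_num _).1]
  refine Subtype.ext (Matrix.ext fun i j => ?_)
  have hs : ∀ j : Fin 3, vec (2 ^ j.val) = Pi.single j 1 := by decide +kernel
  have h7 : 2 ^ j.val - 1 < 7 := by fin_cases j <;> norm_num
  have h2 := congrFun (hcol _ h7) i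
  rw [Nat.sub_add_cancel Nat.one_le_two_pow, hs, Matrix.mulVec_single, Matrix.mulVec_single] at h2
  simpa using h2

theorem codeA_mem : ∀ p : Perm (Fin 6), Perm.sign p = 1 → code p ∈ tabA := by decide +kernel

end Cfsg.Agent.ThRec.SmallW

namespace Cfsg.Agent.ThRec

open Equiv

/-- **The two cases.** -/
theorem small_cases {W : Type*} [Group W] [Finite W] (σ : W ≃* W) (a c : W) (hσ : ∀ x, σ (σ x) = x)
    (ha : orderOf a = 2) (hfix : σ a = a) (hc : c * c = 1) (hca : c * a = a * c)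
    (hsq : (c * σ c) * (c * σ c) = a)
    (hC : ∀ w : W, w * a = a * w → w ∈ [1, a, c, σ c, a * c, a * σ c, c * σ c, σ c * c])
    (hconj : ∃ x : W, x * a * x⁻¹ = c) :
    (∃ y : W, orderOf y = 5 ∧ σ y = y) ∨
    ∃ b r : W, b * b = 1 ∧ a * b ≠ b * a ∧ (a * b) ^ 3 = 1 ∧ (b * c) ^ 3 = 1 ∧ (σ b = b ∨ σ b = a * b * a) ∧
      r * a * r⁻¹ = a * c := by
  classical
  have ha2 : a * a = 1 := by rw [← pow_two, ← ha, pow_orderOf_eq_one]
  have ha1 : a ≠ 1 := fun e => by rw [e, orderOf_one] at ha; omega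
  have h : SmallW.Hyp σ a c := ⟨hσ, ha2, ha1, hfix, hc, hca, hsq⟩
  set C := Subgroup.centralizer ({a} : Set W) with hCdef
  have memC : ∀ {w}, w ∈ C ↔ w * a = a * w := Subgroup.mem_centralizer_singleton_iff
  have hD : Nonempty (↥C ≃* DihedralGroup 4) := by
    let r := c * σ c
    have hr4 : r ^ 4 = 1 := by
      rw [show 4 = 2 * 2 from rfl, pow_mul, pow_two r, hsq, pow_two, ha2]
    have hrC : r ∈ C := C.mul_mem (memC.2 hca) (memC.2 h.da)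
    have hcC : c ∈ C := memC.2 hca
    have hri : c * r * c = r⁻¹ := by
      rw [eq_inv_iff_mul_eq_one]
      calc c * (c * σ c) * c * (c * σ c) = (c * c) * σ c * (c * c) * σ c := by group
        _ = 1 := by rw [hc, one_mul, mul_one, h.d_sq]
    let u : ↥C := ⟨r, hrC⟩
    let s : ↥C := ⟨c, hcC⟩
    have hu4 : u ^ 4 = 1 := Subtype.ext (by simpa [u] using hr4)
    have hzp : ∀ i j : ZMod 4, u ^ (i + j).val = u ^ i.val * u ^ j.val := fun i j => by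
      rw [← pow_add, ZMod.val_add, ← pow_mod_orderOf]
      conv_rhs => rw [← pow_mod_orderOf]
      congr 1
      exact Nat.mod_mod_of_dvd _ (orderOf_dvd_of_pow_eq_one hu4)
    have hsu : ∀ i : ZMod 4, u ^ i.val * s = s * u ^ (-i).val := fun i => by
      have e1 : s * u * s = u⁻¹ := Subtype.ext hri
      have hs : s * s = 1 := Subtype.ext hc
      have e2 : ∀ k : ℕ, s * u ^ k * s = (u ^ k)⁻¹ := fun k => by
        induction k with
        | zero => simp [hs]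
        | succ k ih =>
          calc s * u ^ (k + 1) * s = s * u ^ k * (s * s) * u * s := by rw [hs]; group
            _ = (s * u ^ k * s) * (s * u * s) := by group
            _ = _ := by rw [ih, e1, ← inv_pow, ← inv_pow, pow_succ]
      have e3 : u ^ (-i).val = (u ^ i.val)⁻¹ := by
        refine eq_inv_of_mul_eq_one_left ?_
        rw [← hzp, neg_add_cancel, ZMod.val_zero, pow_zero]
      rw [e3, ← e2]
      calc u ^ i.val * s = (s * s) * u ^ i.val * s := by rw [hs, one_mul]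
        _ = _ := by group
    let φ : DihedralGroup 4 →* ↥C :=
      { toFun := fun g => match g with
          | .r i => u ^ i.val
          | .sr i => s * u ^ i.val
        map_one' := by show u ^ (0 : ZMod 4).val = 1; rw [ZMod.val_zero, pow_zero]
        map_mul' := by
          have hs : s * s = 1 := Subtype.ext hc
          rintro (i | i) (j | j)
          · exact hzp i j
          · show s * u ^ (j - i).val = u ^ i.val * (s * u ^ j.val)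
            rw [← mul_assoc, hsu, mul_assoc, ← hzp, neg_add_eq_sub]
          · show s * u ^ (i + j).val = s * u ^ i.val * u ^ j.val
            rw [hzp, mul_assoc]
          · show u ^ (j - i).val = s * u ^ i.val * (s * u ^ j.val)
            rw [mul_assoc, ← mul_assoc (u ^ i.val), hsu, mul_assoc s, ← mul_assoc, hs, one_mul, ← hzp,
              neg_add_eq_sub] }
    have hu2 : u ^ 2 ≠ 1 := fun e => ha1 (by
      have := congrArg Subtype.val e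
      simpa [u, r, pow_two, hsq] using this)
    have hone : ∀ g, φ g = 1 → g = 1 := by
      have hu : orderOf u = 4 := orderOf_eq_prime_pow (p := 2) (n := 1)
        (by simpa using hu2) (by simpa using hu4)
      rintro (i | i) e
      · change u ^ i.val = 1 at e
        have := orderOf_dvd_of_pow_eq_one e
        rw [hu] at this
        have h0 : i.val = 0 := Nat.eq_zero_of_dvd_of_lt this (ZMod.val_lt i)
        rw [(ZMod.val_eq_zero i).1 h0]; rfl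
      · exfalso
        change s * u ^ i.val = 1 at e
        have hsm : s = u ^ (-i).val := by
          rw [← mul_right_cancel_iff (a := u ^ i.val), e, ← hzp, neg_add_cancel, ZMod.val_zero, pow_zero]
        have hcomm : s * u = u * s := by rw [hsm]; exact (Commute.pow_self u _).eq
        have e1 : s * u * s = u⁻¹ := Subtype.ext hri
        rw [hcomm, mul_assoc, show s * s = 1 from Subtype.ext hc, mul_one, eq_inv_iff_mul_eq_one] at e1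
        exact hu2 (by rw [pow_two]; exact e1)
    have hφi : Function.Injective φ := (injective_iff_map_eq_one φ).2 hone
    have hφs : Function.Surjective φ := by
      intro x
      have hru : ∀ k : ZMod 4, ((φ (.r k) : ↥C) : W) = r ^ k.val := fun k => rfl
      have hsru : ∀ k : ZMod 4, ((φ (.sr k) : ↥C) : W) = c * r ^ k.val := fun k => rfl
      have v : (0 : ZMod 4).val = 0 ∧ (1 : ZMod 4).val = 1 ∧ (2 : ZMod 4).val = 2 ∧ (3 : ZMod 4).val = 3 := by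
        decide
      have r2 : r ^ 2 = a := by rw [pow_two]; exact hsq
      have r3 : r ^ 3 = σ c * c := by
        calc r ^ 3 = (r ^ 4) * r⁻¹ := by group
          _ = (σ c)⁻¹ * c⁻¹ := by rw [hr4, one_mul]; simp [r]
          _ = _ := by rw [inv_eq_of_mul_eq_one_right hc, inv_eq_of_mul_eq_one_right h.d_sq]
      have := hC x.1 (memC.1 x.2)
      simp only [List.mem_cons, List.not_mem_nil, or_false] at this
      rcases this with e | e | e | e | e | e | e | e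
      · exact ⟨.r 0, Subtype.ext (by rw [hru, v.1, pow_zero, e])⟩
      · exact ⟨.r 2, Subtype.ext (by rw [hru, v.2.2.1, r2, e])⟩
      · exact ⟨.sr 0, Subtype.ext (by rw [hsru, v.1, pow_zero, mul_one, e])⟩
      · exact ⟨.sr 1, Subtype.ext (by rw [hsru, v.2.1, pow_one, ← mul_assoc, hc, one_mul, e])⟩
      · exact ⟨.sr 2, Subtype.ext (by rw [hsru, v.2.2.1, r2, hca, e])⟩
      · refine ⟨.sr 3, Subtype.ext ?_⟩
        rw [hsru, v.2.2.2, r3, e, ← hsq]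
        calc c * (σ c * c) = c * σ c * c * (σ c * σ c) := by rw [h.d_sq]; group
          _ = _ := by group
      · exact ⟨.r 1, Subtype.ext (by rw [hru, v.2.1, pow_one, e])⟩
      · exact ⟨.r 3, Subtype.ext (by rw [hru, v.2.2.2, r3, e])⟩
    exact ⟨(MulEquiv.ofBijective φ ⟨hφi, hφs⟩).symm⟩
  rcases S3035.result a ha hD with hO | ⟨⟨e⟩⟩ | ⟨⟨e⟩⟩ | ⟨⟨e⟩⟩ | ⟨⟨e⟩⟩
  · exfalso
    obtain ⟨x, hx⟩ := hconj
    set O := Cfsg.oddCore W
    haveI : O.Normal := Cfsg.pPrimeCore_normal 2 W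
    have hxm : x ∈ C ⊔ O := by rw [hO]; exact Subgroup.mem_top x
    obtain ⟨y, hy, o, ho, rfl⟩ := Subgroup.mem_sup_of_normal_right.1 hxm
    have hm : c * a ∈ O := by
      have h1 : o * a * o⁻¹ * a⁻¹ ∈ O := by
        rw [show o * a * o⁻¹ * a⁻¹ = o * (a * o⁻¹ * a⁻¹) by group]
        exact O.mul_mem ho (Subgroup.Normal.conj_mem inferInstance _ (O.inv_mem ho) a)
      have h2 := Subgroup.Normal.conj_mem (inferInstance : O.Normal) _ h1 y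
      rw [← hx]
      have e : y * o * a * (y * o)⁻¹ * a = y * (o * a * o⁻¹ * a⁻¹) * y⁻¹ * (y * a * y⁻¹ * a) := by group
      rw [e, memC.1 hy, mul_inv_cancel_right, ha2, mul_one]
      exact h2
    have hodd : Odd (Nat.card ↥O) := by
      haveI : Fact (Nat.Prime 2) := ⟨Nat.prime_two⟩
      exact Nat.coprime_two_right.1 (PBasic.pPrimeCore_coprime 2 W)
    have h2 : c * a * (c * a) = 1 := by
      rw [show c * a * (c * a) = c * (a * c) * a by group, ← hca,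
        show c * (c * a) * a = c * c * (a * a) by group, hc, ha2, one_mul]
    have h1 : c * a = 1 := by
      have hd2 : orderOf (c * a) ∣ 2 := orderOf_dvd_of_pow_eq_one (by rw [pow_two]; exact h2)
      have hd := Subgroup.orderOf_dvd_natCard O hm
      rcases (Nat.dvd_prime Nat.prime_two).1 hd2 with e | e
      · exact orderOf_eq_one_iff.1 e
      · rw [e] at hd; exact absurd hd hodd.not_two_dvd_nat
    have hce : c = a := (eq_inv_of_mul_eq_one_left h1).trans (inv_eq_of_mul_eq_one_right ha2)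
    rw [hce, hfix, ha2, one_mul] at hsq
    exact ha1 hsq.symm
  · exact (h.not_sym hconj e SmallW.no_S4).elim
  · exact (h.not_sym hconj e SmallW.no_S5).elim
  · refine Or.inr (h.caseL (SmallW.Tab.ofCard (fun w => SmallW.codeL (e w))
      (SmallW.codeL_inj.comp e.injective) (fun x y => by rw [map_mul, SmallW.codeL_mul])
      (by rw [map_one, SmallW.codeL_one]) (fun x => SmallW.codeL_mem _) SmallW.oneClass_ok.2.2.1 ?_))
    rw [SmallW.oneClass_ok.2.2.2.1, Nat.card_congr e.toEquiv, S3035.sl32.2]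
  · refine Or.inl (h.caseA (SmallW.Tab.ofCard (fun w => SmallW.code ((e w : ↥(alternatingGroup (Fin 6))) : Perm (Fin 6)))
      (SmallW.code_inj.comp (Subtype.val_injective.comp e.injective))
      (fun x y => by rw [map_mul, Subgroup.coe_mul, SmallW.code_mul])
      (by rw [map_one, Subgroup.coe_one, SmallW.code_one])
      (fun x => SmallW.codeA_mem _ (Perm.mem_alternatingGroup.1 (e x).2)) SmallW.oneClass_ok.2.2.2.2.2.1 ?_))
    rw [SmallW.oneClass_ok.2.2.2.2.1, Nat.card_congr e.toEquiv, nat_card_alternatingGroup, Nat.card_fin]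
    rfl

end Cfsg.Agent.ThRec
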