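import Cfsg.Agent.Lib.ThRec.LocalW
import Cfsg.Agent.Lib.ThRec.Collapse
import Cfsg.Agent.Lib.ThRec.SmallW

/-!
The local data: in the centraliser of the images of `s` and `t`, an involution `b` which with the copy of the
model satisfies the relations needed for the homomorphism from the presented group.
-/

set_option autoImplicit false
set_option maxRecDepth 100000
set_option maxHeartbeats 1000000
set_option Elab.async false
set_option linter.style.haveILetI false

namespace Cfsg.Agent.ThRec

open Cfsg.Agent.HN Cfsg.Agent.Th Cfsg.Agent.ThOut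

noncomputable section

theorem d8_seven : (d8W.all fun d => okSide true d) = true := by decide

variable {G : Type*} [Group G] {φ : ↥CA →* G} {a : G} {Q : Subgroup G} {θ : ↥Q0 ≃* ↥Q} {g : G}

/-- A relation between the images of words, decided in the model. -/
theorem imW_eq2 {u v : List ℕ} (h : eqS true u v = true) : imW φ u = imW φ v := imW_eq h

/-- A braid partner of `a` and `c` gives the involution exchanging them. -/
theorem braid_swap {H : Type*} [Group H] {a b c : H} (ha : a * a = 1) (hb : b * b = 1) (hc : c * c = 1)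
    (hac : a * c = c * a) (hab : (a * b) ^ 3 = 1) (hbc : (b * c) ^ 3 = 1) :
    b * a * c * b * (b * a * c * b) = 1 ∧ b * a * c * b * a * (b * a * c * b) = c := by
  have i1 : a⁻¹ = a := inv_eq_of_mul_eq_one_left ha
  have i2 : b⁻¹ = b := inv_eq_of_mul_eq_one_left hb
  have i3 : c⁻¹ = c := inv_eq_of_mul_eq_one_left hc
  rw [pow_three] at hab hbc
  have e1 : b * a * b = a * b * a := by
    calc b * a * b = (a * b * a)⁻¹ * (a * b * (a * b * (a * b))) := by group
      _ = a * b * a := by rw [hab, mul_one]; simp only [mul_inv_rev, i1, i2, mul_assoc]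
  have e2 : c * b * c = b * c * b := by
    calc c * b * c = (b * c * b)⁻¹ * (b * c * (b * c * (b * c))) := by group
      _ = b * c * b := by rw [hbc, mul_one]; simp only [mul_inv_rev, i2, i3, mul_assoc]
  constructor
  · calc b * a * c * b * (b * a * c * b) = b * (a * c * (b * b) * (a * c)) * b := by group
      _ = b * (a * (c * a) * c) * b := by rw [hb, mul_one]; group
      _ = b * (a * a * (c * c)) * b := by rw [← hac]; group
      _ = 1 := by rw [ha, hc, mul_one, mul_one, hb]
  · calc b * a * c * b * a * (b * a * c * b) = b * (a * c) * (b * a * b) * (a * c) * b := by group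
      _ = b * (c * a) * (a * b * a) * (a * c) * b := by rw [e1, hac]
      _ = b * c * (a * a) * b * (a * a) * (c * b) := by group
      _ = b * (c * b * c) * b := by rw [ha, mul_one, mul_one]; group
      _ = c := by
        rw [e2]
        calc b * (b * c * b) * b = (b * b) * c * (b * b) := by group
          _ = c := by rw [hb, one_mul, mul_one]

section

variable (P : Duo a Q θ φ g)
include P

/-- Conjugates of `a` at `ac` agree on `Q`. -/
theorem Duo.qac_of {z y : G} (hz : z * a * z⁻¹ = a * imW φ [2])
    (h : (imW φ kW * g)⁻¹ * y * (imW φ kW * g) ∈ Q) : z⁻¹ * y * z ∈ Q := by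
  refine P.conj_Q ?_ h
  rw [hz]
  calc imW φ kW * g * a * (imW φ kW * g)⁻¹ = imW φ kW * (g * a * g⁻¹) * (imW φ kW)⁻¹ := by group
    _ = a * imW φ [2] := by
      rw [P.gA, ← imW_winv, ← imW_append, ← imW_append]
      nth_rw 1 [← P.im_a]
      rw [← imW_append]
      exact imW_eq (by decide +kernel)

theorem Duo.qac_to {z y : G} (hz : z * a * z⁻¹ = a * imW φ [2]) (h : z⁻¹ * y * z ∈ Q) :
    (imW φ kW * g)⁻¹ * y * (imW φ kW * g) ∈ Q := by
  refine P.conj_Q ?_ h
  rw [hz]
  symm
  calc imW φ kW * g * a * (imW φ kW * g)⁻¹ = imW φ kW * (g * a * g⁻¹) * (imW φ kW)⁻¹ := by group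
    _ = a * imW φ [2] := by
      rw [P.gA, ← imW_winv, ← imW_append, ← imW_append]
      nth_rw 1 [← P.im_a]
      rw [← imW_append]
      exact imW_eq (by decide +kernel)

/-- The image of `e` lies in the conjugate of `Q` at `ac`. -/
theorem Duo.e_qac {z : G} (hz : z * a * z⁻¹ = a * imW φ [2]) : z⁻¹ * imW φ [4] * z ∈ Q := by
  obtain ⟨j, hj, h⟩ := List.any_eq_true.1 e_mem_check
  obtain ⟨q, hq, h⟩ := List.any_eq_true.1 h
  rw [Bool.and_eq_true] at h
  rw [List.mem_range] at hj hq
  exact P.qac_of hz (imW_eq (φ := φ) h.1 ▸ P.qac_mem hj hq h.2)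

/-- The image of `d` is conjugate to `a` under the centraliser of the image of `t`. -/
theorem Duo.d_conj {z : G} (hz : z * a * z⁻¹ = a * imW φ [2]) (hzT : z * imW φ [7] = imW φ [7] * z)
    {x : G} (hx : x * a * x⁻¹ = imW φ [2]) (hxT : x * imW φ [7] = imW φ [7] * x) :
    ∃ p : G, p * imW φ [7] = imW φ [7] * p ∧ p * a * p⁻¹ = imW φ [3] := by
  obtain ⟨p, hpT, hp⟩ : ∃ p : G, Commute p (imW φ [7]) ∧ p * a * p⁻¹ = imW φ [4] := by
    have hq := P.e_qac hz
    set q := z⁻¹ * imW φ [4] * z with hqd
    have hET : Commute (imW φ [4]) (imW φ [7]) := imW_comm (by decide +kernel)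
    have hqT : Commute q (imW φ [7]) :=
      ((show Commute z (imW φ [7]) from hzT).inv_left.mul_left hET).mul_left hzT
    obtain ⟨v, hv⟩ := P.pre (Subgroup.mem_centralizer_singleton_iff.1 (P.setup.le hq))
    obtain ⟨i, hi, hvi⟩ := mem_Q0.1 ((P.mem_Q_iff v).1 (hv ▸ hq))
    have hqi : q = imW φ (qW i) := by
      rw [← hv, imW_el (qW_side hi)]; exact congrArg φ (Subtype.ext hvi)
    have hEz : imW φ [4] = z * q * z⁻¹ := by rw [hqd]; group
    by_cases hqa : q = a
    · exact ⟨z, hzT, by rw [hEz, hqa]⟩
    have hE2 : imW φ [4] * imW φ [4] = 1 := by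
      rw [← imW_append, imW_eq (v := []) (by decide +kernel), imW_nil]
    have h1 : eqS true (qW i ++ qW i) [] = true := by
      refine eqS_of_im P.model.inj (okSide_append (qW_side hi) (qW_side hi)) rfl ?_
      rw [imW_append, ← hqi, imW_nil, hqd]
      calc z⁻¹ * imW φ [4] * z * (z⁻¹ * imW φ [4] * z) = z⁻¹ * (imW φ [4] * imW φ [4]) * z := by group
        _ = 1 := by rw [hE2, mul_one, inv_mul_cancel]
    have h2 : eqS true (qW i) [] = false := by
      refine Bool.eq_false_iff.2 fun e => ?_
      have hE1 : imW φ [4] = imW φ [] := by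
        rw [hEz, hqi, imW_eq e, imW_nil, mul_one, mul_inv_cancel]
      exact absurd (eqS_of_im P.model.inj rfl rfl hE1) (by decide +kernel)
    have h3 : eqS true (qW i) [0] = false := by
      refine Bool.eq_false_iff.2 fun e => hqa ?_
      rw [hqi, imW_eq e, P.im_a]
    have h4 : eqS true (qW i ++ [7]) ([7] ++ qW i) = true := by
      refine eqS_of_im P.model.inj (okSide_append (qW_side hi) rfl) (okSide_append rfl (qW_side hi)) ?_
      rw [imW_append, imW_append, ← hqi]
      exact hqT.eq
    have h := allLo_spec wit_check hi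
    rw [h1, h2, h3, h4] at h
    simp only [Bool.not_true, Bool.false_or, List.any_eq_true] at h
    obtain ⟨k, hk, hke⟩ := h
    have hk' := List.all_eq_true.1 wit_ok k hk
    simp only [Bool.and_eq_true] at hk'
    have hkT : Commute (imW φ k) (imW φ [7]) := imW_comm hk'.1
    have hqk : q = (imW φ k)⁻¹ * imW φ [2] * imW φ k := by
      rw [hqi, ← imW_eq hke, cjW, imW_append, imW_append, imW_winv]
    refine ⟨z * (imW φ k)⁻¹ * x,
      ((show Commute z (imW φ [7]) from hzT).mul_left hkT.inv_left).mul_left hxT, ?_⟩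
    rw [hEz, hqk, ← hx]
    group
  have hDE : Commute (imW φ [3, 4]) (imW φ [7]) := imW_comm (by decide +kernel)
  refine ⟨(imW φ [3, 4])⁻¹ * p, (hDE.inv_left.mul_left hpT).eq, ?_⟩
  calc (imW φ [3, 4])⁻¹ * p * a * ((imW φ [3, 4])⁻¹ * p)⁻¹
      = (imW φ [3, 4])⁻¹ * (p * a * p⁻¹) * imW φ [3, 4] := by group
    _ = imW φ (winv iv11 [3, 4] ++ [4] ++ [3, 4]) := by rw [hp, imW_append, imW_append, imW_winv]
    _ = imW φ [3] := imW_eq (by decide +kernel)

variable {b r : G}

/-- The facts about an involution `b` and a rotation `r` in the centraliser of the images of `s` and `t`. -/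
structure BData (φ : ↥CA →* G) (a b r : G) : Prop where
  bb : b * b = 1
  nab : a * b ≠ b * a
  ab : (a * b) ^ 3 = 1
  bc : (b * imW φ [2]) ^ 3 = 1
  bs : b * imW φ [5] = imW φ [5] * b
  bt : b * imW φ [7] = imW φ [7] * b
  rs : r * imW φ [5] = imW φ [5] * r
  rt : r * imW φ [7] = imW φ [7] * r
  r_map : r * a * r⁻¹ = a * imW φ [2]

omit P in
theorem gB_im {l : ℕ} (h : l ≠ 1) (b : G) : gB φ b l = imW φ [l] := by
  rw [imW, wv_singleton, gB_of_ne φ b h, gB_of_ne φ 1 h]

/-- The relators which hold for every such `b`. -/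
theorem Duo.words (B : BData φ a b r) : wv (gB φ b) eWord = 1 ∧ wv (gB φ b) xWord = 1 ∧
    (wv (gB φ b) uTrue = 1 ∨ wv (gB φ b) uFalse = 1) ∧ (wv (gB φ b) yTrue = 1 ∨ wv (gB φ b) yFalse = 1) := by
  set C := imW φ [2] with hC
  set S := imW φ [5] with hS
  set T := imW φ [7] with hT
  set E := imW φ [4] with hE
  set U := imW φ [9] with hU
  set X := imW φ xW with hX
  set g' := imW φ gX with hg'
  have hC2 : C * C = 1 := by rw [hC, ← imW_append, imW_eq (v := []) (by decide +kernel), imW_nil]
  have hCa : C * a = a * C := P.im_comm rfl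
  obtain ⟨hw2, hwa⟩ := braid_swap P.setup.a_sq B.bb hC2 hCa.symm B.ab B.bc
  have hW : wv (gB φ b) wX = b * a * C * b := by
    simp only [wX, wv, mul_one, gB_one, gB_im (φ := φ) (by norm_num : (0 : ℕ) ≠ 1) b,
      gB_im (φ := φ) (by norm_num : (2 : ℕ) ≠ 1) b, P.im_a, mul_assoc, hC]
  have hW' : wv (gB φ b) [1, 2, 0, 1] = b * a * C * b := by
    simp only [wv, mul_one, gB_one, gB_im (φ := φ) (by norm_num : (0 : ℕ) ≠ 1) b,
      gB_im (φ := φ) (by norm_num : (2 : ℕ) ≠ 1) b, P.im_a]
    rw [← mul_assoc (imW φ [2]) a b, ← hC, hCa]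
    simp [mul_assoc]
  set w := b * a * C * b with hwd
  have hwi : w⁻¹ = w := inv_eq_of_mul_eq_one_left hw2
  have hwC : w * C * w = a := by
    calc w * C * w = w * (w * a * w) * w := by rw [hwa]
      _ = w * w * a * (w * w) := by group
      _ = a := by rw [hw2, one_mul, mul_one]
  have hwac : Commute w (a * C) := by
    refine mul_inv_eq_iff_eq_mul.1 ?_
    calc w * (a * C) * w⁻¹ = w * a * w * (w * C * w) := by
          rw [hwi]
          calc w * (a * C) * w = w * a * 1 * C * w := by group
            _ = w * a * (w * w) * C * w := by rw [hw2]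
            _ = _ := by group
      _ = a * C := by rw [hwa, hwC, hCa]
  have hSa : Commute a S := (P.im_comm rfl).symm
  have hTa : Commute a T := (P.im_comm rfl).symm
  have hSC : Commute C S := imW_comm (by decide +kernel)
  have hTC : Commute C T := imW_comm (by decide +kernel)
  have hwS : Commute w S :=
    (((show Commute b S from B.bs).mul_left hSa).mul_left hSC).mul_left B.bs
  have hwT : Commute w T :=
    (((show Commute b T from B.bt).mul_left hTa).mul_left hTC).mul_left B.bt
  -- `w` lies in the conjugate of `Q` at `ac`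
  have hwq : r⁻¹ * w * r ∈ Q := by
    have hca : r⁻¹ * w * r * a = a * (r⁻¹ * w * r) := by
      calc r⁻¹ * w * r * a = r⁻¹ * (w * (r * a * r⁻¹)) * r := by group
        _ = r⁻¹ * ((r * a * r⁻¹) * w) * r := by rw [B.r_map, hwac.eq]
        _ = _ := by group
    obtain ⟨v, hv⟩ := P.pre hca
    have hrS : Commute r S := B.rs
    have hrT : Commute r T := B.rt
    have cS : Commute (φ v) S := hv ▸ (hrS.inv_left.mul_left hwS).mul_left hrS
    have cT : Commute (φ v) T := hv ▸ (hrT.inv_left.mul_left hwT).mul_left hrT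
    have e5 := cS.eq
    rw [hS, imW_letter (l := 5) (by norm_num) (by norm_num), ← map_mul, ← map_mul] at e5
    have e7 := cT.eq
    rw [hT, imW_letter (l := 7) (by norm_num) (by norm_num), ← map_mul, ← map_mul] at e7
    obtain ⟨d, hd, hvd⟩ := cent_st v.2 (congrArg Subtype.val (P.model.inj e5))
      (congrArg Subtype.val (P.model.inj e7))
    rw [← hv, P.mem_Q_iff, hvd]
    have hch : (d8W.all fun d => (List.range 512).any fun q => eqS true d (qW q)) = true := by decide +kernel
    obtain ⟨q, hq, he⟩ := List.any_eq_true.1 (List.all_eq_true.1 hch d hd)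
    exact mem_Q0.2 ⟨q, List.mem_range.1 hq, eqS_eq he⟩
  -- `w` commutes with `e`
  have hwe : Commute E w := by
    obtain ⟨j, hj, h⟩ := List.any_eq_true.1 e_comm_check
    obtain ⟨q, hq, h⟩ := List.any_eq_true.1 h
    rw [Bool.and_eq_true] at h
    rw [List.mem_range] at hj hq
    have hn := P.qac_of B.r_map (P.qac_mem hj hq h.2)
    set n := imW φ (qacW j q) with hnd
    have hnS : n * (a * C) = a * C * n := by
      have hc := Subgroup.mem_centralizer_singleton_iff.1 (P.setup.le hn)
      rw [← B.r_map]
      calc n * (r * a * r⁻¹) = r * (r⁻¹ * n * r * a) * r⁻¹ := by group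
        _ = _ := by rw [hc]; group
    have hEw : E = S * n * S⁻¹ * n⁻¹ := by
      rw [hE, ← imW_eq h.1, commS, imW_append, imW_append, imW_append, imW_winv]
      rw [show imW φ [6] = (imW φ [5])⁻¹ from imW_winv [5]]
    obtain ⟨ε, hεc, hε2, hεS, hεn⟩ : ∃ ε, n * w = w * n * ε ∧ ε * ε = 1 ∧ Commute ε S ∧ Commute ε n := by
      rcases P.Q_comm hn hwq with e | e
      · refine ⟨1, ?_, mul_one 1, Commute.one_left _, Commute.one_left _⟩
        calc n * w = r * (r⁻¹ * n * r * (r⁻¹ * w * r)) * r⁻¹ := by group
          _ = _ := by rw [e]; group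
      · refine ⟨a * C, ?_, ?_, hSa.mul_left hSC, hnS.symm⟩
        · rw [← B.r_map]
          calc n * w = r * (r⁻¹ * n * r * (r⁻¹ * w * r)) * r⁻¹ := by group
            _ = _ := by rw [e]; group
        · calc a * C * (a * C) = a * (C * a) * C := by group
            _ = a * a * (C * C) := by rw [hCa]; group
            _ = 1 := by rw [P.setup.a_sq, hC2, mul_one]
    have h1 : n * w * n⁻¹ = w * ε := by rw [hεc, mul_assoc w n ε, ← hεn.eq]; group
    have h2 : n⁻¹ * w * n = w * ε := by
      have : w = n⁻¹ * w * n * ε := by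
        calc w = n⁻¹ * (n * w) := by group
          _ = _ := by rw [hεc]; group
      calc n⁻¹ * w * n = n⁻¹ * w * n * (ε * ε) := by rw [hε2, mul_one]
        _ = n⁻¹ * w * n * ε * ε := by group
        _ = _ := by rw [← this]
    have h3 : S * n * S⁻¹ * w * (S * n * S⁻¹)⁻¹ = w * ε := by
      have : S⁻¹ * w * S = w := by rw [mul_assoc, hwS.eq, inv_mul_cancel_left]
      calc S * n * S⁻¹ * w * (S * n * S⁻¹)⁻¹ = S * (n * (S⁻¹ * w * S) * n⁻¹) * S⁻¹ := by group
        _ = S * (w * ε) * S⁻¹ := by rw [this, h1]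
        _ = S * w * (ε * S⁻¹) := by group
        _ = S * w * (S⁻¹ * ε) := by rw [hεS.inv_right.eq]
        _ = w * ε := by rw [← hwS.eq]; group
    refine mul_inv_eq_iff_eq_mul.1 ?_
    have h4 : S * n * S⁻¹ * ε = ε * (S * n * S⁻¹) :=
      (((hεS.symm).mul_left hεn.symm).mul_left hεS.inv_right.symm).eq
    calc E * w * E⁻¹ = S * n * S⁻¹ * (n⁻¹ * w * n) * (S * n * S⁻¹)⁻¹ := by rw [hEw]; group
      _ = S * n * S⁻¹ * w * ((S * n * S⁻¹)⁻¹ * ε) := by
        rw [h2, show (S * n * S⁻¹)⁻¹ * ε = ε * (S * n * S⁻¹)⁻¹ from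
          ((show Commute (S * n * S⁻¹) ε from h4).inv_left).eq]
        group
      _ = w * ε * ε := by rw [← h3]; group
      _ = w := by rw [mul_assoc, hε2, mul_one]
  have hE2 : E * E = 1 := by rw [hE, ← imW_append, imW_eq (v := []) (by decide +kernel), imW_nil]
  -- `w` fixes `x`
  have hwx : Commute X w := by
    obtain ⟨q, hq, h⟩ := List.any_eq_true.1 x_comm_check
    rw [Bool.and_eq_true] at h
    rw [List.mem_range] at hq
    set n := imW φ (qW q) with hnd
    have hnQ : n ∈ Q := by
      rw [hnd, imW_el (qW_side hq), P.mem_Q_iff]; exact mem_Q0.2 ⟨q, hq, rfl⟩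
    have hnC : g⁻¹ * n * g ∈ Q := (P.nWord_iff (qW_side hq)).1 (P.secondQ.mem_e hq h.2)
    -- the conjugate by `w` lies in both
    set n' := w * n * w with hn'
    have hn'Q : n' ∈ Q := by
      have h1 : (w⁻¹)⁻¹ * n * w⁻¹ ∈ Q := by
        refine P.conj_Q (z := g) ?_ hnC
        rw [inv_inv, hwi, hwa, P.gA]
      rwa [inv_inv, hwi] at h1
    have hn'C : g⁻¹ * n' * g ∈ Q := by
      refine P.conj_Q (z := w) ?_ ?_
      · rw [hwi, hwa, P.gA]
      · rw [hwi, hn']
        rw [show w * (w * n * w) * w = w * w * n * (w * w) by group, hw2, one_mul, mul_one]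
        exact hnQ
    obtain ⟨v, hv⟩ := P.pre (Subgroup.mem_centralizer_singleton_iff.1 (P.setup.le hn'Q))
    obtain ⟨i, hi, hvi⟩ := mem_Q0.1 ((P.mem_Q_iff v).1 (hv ▸ hn'Q))
    have hn'i : n' = imW φ (qW i) := by
      rw [← hv, imW_el (qW_side hi)]; exact congrArg φ (Subtype.ext hvi)
    have hei : eCond (qW i) = true :=
      P.secondQ.eCond_true hi ((P.nWord_iff (qW_side hi)).2 (hn'i ▸ hn'C))
    have hm : imW φ (commS (qW i)) = w * imW φ acxW * w := by
      rw [← imW_eq h.1, commS, commS]
      simp only [imW_append, imW_winv]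
      rw [show imW φ [6] = (imW φ [5])⁻¹ from imW_winv [5], ← hn'i, ← hnd, ← hS, hn']
      have : w * S * w = S := by rw [hwS.eq, mul_assoc, hw2, mul_one]
      have hSi : w * S⁻¹ * w = S⁻¹ := by rw [hwS.inv_right.eq, mul_assoc, hw2, mul_one]
      calc S * (w * n * w) * S⁻¹ * (w * n * w)⁻¹
          = w * (w * S * w) * n * (w * S⁻¹ * w) * n⁻¹ * w⁻¹ := by
            rw [mul_inv_rev (w * n) w, mul_inv_rev w n, hwi]
            calc S * (w * n * w) * S⁻¹ * (w * (n⁻¹ * w))
                = 1 * S * w * n * (w * S⁻¹ * w) * n⁻¹ * w := by group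
              _ = w * w * S * w * n * (w * S⁻¹ * w) * n⁻¹ * w := by rw [hw2]
              _ = _ := by group
        _ = _ := by rw [this, hSi, hwi]; group
    have hsi : okSide true (commS (qW i)) = true := by
      have hq' := allLo_spec words_ok.1 hi
      refine okSide_append (okSide_append (okSide_append rfl (qW_side hi)) rfl) ?_
      have := qW_side hi
      simp only [okSide, cond_true, List.all_eq_true, Bool.and_eq_true, Nat.blt_eq, Bool.not_eq_true',
        winv, List.mem_map, List.mem_reverse] at this ⊢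
      rintro l ⟨m, hm, rfl⟩
      obtain ⟨hm1, hm2⟩ := this m hm
      interval_cases m <;> first | decide | simp at hm2
    have hxT : Commute (imW φ acxW) T := imW_comm (by decide +kernel)
    have h7 : eqS true (commS (qW i) ++ [7]) ([7] ++ commS (qW i)) = true := by
      refine eqS_of_im P.model.inj (okSide_append hsi rfl) (okSide_append rfl hsi) ?_
      rw [imW_append, imW_append, hm]
      exact ((hwT.mul_left hxT).mul_left hwT).eq
    have hp := allLo_spec p_check hi
    rw [hei, h7] at hp
    simp only [Bool.not_true, Bool.false_or, Bool.or_eq_true] at hp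
    rcases hp with hp | hp
    · exfalso
      have e : imW φ acxW = imW φ [] := by
        calc imW φ acxW = w * (w * imW φ acxW * w) * w := by
              calc imW φ acxW = 1 * imW φ acxW * 1 := by group
                _ = w * w * imW φ acxW * (w * w) := by rw [hw2]
                _ = _ := by group
          _ = _ := by rw [← hm, imW_eq hp, imW_nil, mul_one, hw2]
      exact absurd (eqS_of_im P.model.inj (by decide) rfl e) (by decide +kernel)
    · have e : Commute (imW φ acxW) w := by
        have := (hm.symm.trans (imW_eq hp))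
        calc imW φ acxW * w = w * imW φ acxW * w * w := by rw [this]
          _ = _ := by rw [mul_assoc, hw2, mul_one]
      have hacx : X = a * C * imW φ acxW := by
        rw [hX, hC, ← P.im_a, ← imW_append, ← imW_append]
        exact imW_eq (by decide +kernel)
      rw [hacx]
      exact hwac.symm.mul_left e
  have hX2 : X * X = 1 := by rw [hX, ← imW_append, imW_eq (v := []) (by decide +kernel), imW_nil]
  have hWw : ∀ u v : List ℕ, wv (gB φ b) (u ++ v) = wv (gB φ b) u * wv (gB φ b) v := fun u v => wv_append _ u v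
  refine ⟨?_, ?_, ?_, ?_⟩
  · rw [eWord]
    simp only [hWw, hW, imW_gB (φ := φ) (w := [4]) rfl b, ← hE]
    calc w * E * w * E = w * (E * w) * E := by group
      _ = w * w * (E * E) := by rw [hwe.eq]; group
      _ = 1 := by rw [hw2, hE2, mul_one]
  · rw [xWord]
    simp only [hWw, hW, imW_gB (φ := φ) (w := xW) rfl b, ← hX]
    calc w * X * w * X = w * (X * w) * X := by group
      _ = w * w * (X * X) := by rw [hwx.eq]; group
      _ = 1 := by rw [hw2, hX2, mul_one]
  · have hUa : Commute U a := P.im_comm rfl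
    have hUC : Commute U C := imW_comm (by decide +kernel)
    set v := w * U * w * U⁻¹ with hvd
    have hvu : w * U * w = v * U := by rw [hvd]; group
    have hva : v * a = a * v := by
      have h1 : Commute (w * U * w) a := by
        calc w * U * w * a = w * U * w * a * (w * w) := by rw [hw2, mul_one]
          _ = w * U * (w * a * w) * w := by group
          _ = w * (C * U) * w := by rw [hwa, mul_assoc w U C, hUC.eq]
          _ = w * C * 1 * U * w := by group
          _ = w * C * (w * w) * U * w := by rw [hw2]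
          _ = w * C * w * (w * U * w) := by group
          _ = _ := by rw [hwC]
      exact (h1.mul_left hUa.inv_left).eq
    have hvq : r⁻¹ * v * r ∈ Q := by
      have hn : Commute (r⁻¹ * U * r) a := by
        calc r⁻¹ * U * r * a = r⁻¹ * (U * (r * a * r⁻¹)) * r := by group
          _ = r⁻¹ * (r * a * r⁻¹ * U) * r := by rw [B.r_map, (hUa.mul_right hUC).eq]
          _ = _ := by group
      have h1 := mul_mem hwq (P.setup.norm _ (Subgroup.mem_centralizer_singleton_iff.2 hn.eq) _ hwq)
      convert h1 using 1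
      rw [hvd]; group
    obtain ⟨j, hj, q, hq, hin, hv⟩ := P.qac_cover hva (P.qac_to B.r_map hvq)
    have hsv : okSide true (qacW j q) = true := okSide_append (okSide_append rfl (nW_side hj hq)) rfl
    have hvT : Commute v T := by
      have hut : U * T * U⁻¹ = T⁻¹ := by
        have h := imW_eq (φ := φ) (u := [9] ++ [7] ++ winv iv11 [9]) (v := winv iv11 [7]) (by decide +kernel)
        rwa [imW_append, imW_append, imW_winv, imW_winv] at h
      have h1 : Commute (U * w * U⁻¹) T := by
        have : Commute (U * w * U⁻¹) (U * T * U⁻¹) := by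
          show U * w * U⁻¹ * (U * T * U⁻¹) = U * T * U⁻¹ * (U * w * U⁻¹)
          rw [conj_mul, conj_mul, hwT.eq]
        rw [hut] at this
        exact (Commute.inv_right_iff).1 this
      have hvd' : v = w * (U * w * U⁻¹) := by rw [hvd]; group
      rw [hvd']
      exact hwT.mul_left h1
    have hinv6 : imW φ [6] = S⁻¹ := imW_winv [5]
    have hconjW : ∀ (y : G) (n : ℕ), (w * y * w) ^ n = w * y ^ n * w := fun y n => by
      nth_rw 2 [← hwi]
      rw [conj_pow, hwi]
    have hfac : ∀ {y : G}, w * y * w = y → w * (U * y) * w = v * (U * y) := by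
      intro y hy
      calc w * (U * y) * w = w * U * 1 * y * w := by group
        _ = w * U * (w * w) * y * w := by rw [hw2]
        _ = w * U * w * (w * y * w) := by group
        _ = _ := by rw [hvu, hy]; group
    have hwSi : w * S⁻¹ * w = S⁻¹ := by rw [hwS.inv_right.eq, mul_assoc, hw2, mul_one]
    have hwS2 : w * (S * S) * w = S * S := by rw [(hwS.mul_right hwS).eq, mul_assoc, hw2, mul_one]
    have hwSX : w * (S * X) * w = S * X := by rw [(hwS.mul_right hwx.symm).eq, mul_assoc, hw2, mul_one]
    have hok : vOK (qacW j q) = true := by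
      have hs3 : okSide true (qacW j q ++ [9, 6]) = true := okSide_append hsv rfl
      have hs7 : okSide true (qacW j q ++ [9, 5, 5]) = true := okSide_append hsv rfl
      have hs6 : okSide true (qacW j q ++ [9, 5] ++ xW) = true :=
        okSide_append (okSide_append hsv rfl) rfl
      have hpw : ∀ {u : List ℕ}, okSide true u = true → ∀ n, okSide true (powW u n) = true := by
        intro u hu n
        induction n with
        | zero => rfl
        | succ n ih => rw [powW, List.replicate_succ, List.flatten_cons, ← powW]; exact okSide_append hu ih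
      simp only [vOK, Bool.and_eq_true, Bool.not_eq_true']
      refine ⟨⟨⟨?_, ?_⟩, ?_⟩, ?_⟩
      · refine eqS_of_im P.model.inj (okSide_append hsv rfl) (okSide_append rfl hsv) ?_
        rw [imW_append, imW_append, ← hv]; exact hvT.eq
      · refine eqS_of_im P.model.inj (hpw hs3 3) rfl ?_
        rw [imW_pow, imW_append, ← hv, imW_nil, imW_cons, hinv6, ← hfac hwSi, hconjW]
        have h3 : (U * S⁻¹) ^ 3 = 1 := by
          rw [hU, ← hinv6, ← imW_cons, ← imW_pow, imW_eq (v := []) (by decide +kernel), imW_nil]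
        rw [h3, mul_one, hw2]
      · refine eqS_of_im P.model.inj (hpw hs7 7) rfl ?_
        rw [imW_pow, imW_append, ← hv, imW_nil, imW_cons, imW_cons 5, ← hU, ← hS, ← hfac hwS2, hconjW]
        have h7 : (U * (S * S)) ^ 7 = 1 := by
          rw [hU, hS, ← imW_cons, ← imW_cons, ← imW_pow, imW_eq (v := []) (by decide +kernel), imW_nil]
        rw [h7, mul_one, hw2]
      · refine Bool.eq_false_iff.2 fun e => ?_
        have e' := imW_eq (φ := φ) e
        rw [imW_pow, imW_append, imW_append, ← hv, imW_nil, imW_cons, ← hU, ← hS, ← hX,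
          show v * (U * S) * X = v * (U * (S * X)) by group, ← hfac hwSX, hconjW] at e'
        have e2 : (U * (S * X)) ^ 3 = 1 := by
          calc (U * (S * X)) ^ 3 = w * w * (U * (S * X)) ^ 3 * (w * w) := by rw [hw2, one_mul, mul_one]
            _ = w * (w * (U * (S * X)) ^ 3 * w) * w := by group
            _ = 1 := by rw [e', mul_one, hw2]
        rw [hU, hS, hX, ← imW_append, ← imW_append, ← imW_pow, ← imW_nil (φ := φ)] at e2
        exact absurd (eqS_of_im P.model.inj (by decide +kernel) rfl e2) (by decide +kernel)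
    have hc := allLo_spec (allLo_spec v_check hj) hq
    rw [hok, hin] at hc
    simp only [Bool.not_true, Bool.false_or, Bool.or_eq_true] at hc
    have hU' : wv (gB φ b) [10] = U⁻¹ := by rw [imW_gB (φ := φ) (w := [10]) rfl b]; exact imW_winv [9]
    rcases hc with hc | hc
    · right
      rw [uFalse]
      simp only [hWw, hW, hU', imW_gB (φ := φ) (w := [9]) rfl b, ← hU]
      calc U⁻¹ * w * U * w = U⁻¹ * (w * U * w) := by group
        _ = 1 := by rw [hvu, hv, imW_eq hc, imW_nil, one_mul, inv_mul_cancel]
    · left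
      rw [show uTrue = [10] ++ [1, 2, 0, 1] ++ [9] ++ wX ++ [4] from rfl]
      simp only [hWw, hW, hW', hU', imW_gB (φ := φ) (w := [9]) rfl b, imW_gB (φ := φ) (w := [4]) rfl b, ← hU, ← hE]
      have hEU : Commute E U := imW_comm (by decide +kernel)
      calc U⁻¹ * w * U * w * E = U⁻¹ * (w * U * w) * E := by group
        _ = U⁻¹ * (E * U) * E := by rw [hvu, hv, imW_eq hc]
        _ = 1 := by rw [hEU.eq, inv_mul_cancel_left, hE2]
  · have hga : Commute g' a := P.im_comm rfl
    have hgC : g' * C * g'⁻¹ = a * C * X := by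
      have h := imW_eq (φ := φ) (u := gX ++ [2] ++ winv iv11 gX) (v := [0] ++ [2] ++ xW) (by decide +kernel)
      rwa [imW_append, imW_append, imW_append, imW_append, imW_winv, P.im_a] at h
    have hgX : Commute g' X := imW_comm (by decide +kernel)
    have hgT : Commute g' T := imW_comm (by decide +kernel)
    have hXa : Commute X a := P.im_comm rfl
    have hXC : Commute X C := imW_comm (by decide +kernel)
    set K := w * g' with hK
    have k1 : K * a * K⁻¹ = C := by
      calc K * a * K⁻¹ = w * (g' * a * g'⁻¹) * w⁻¹ := by rw [hK]; group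
        _ = C := by rw [hga.eq, mul_inv_cancel_right, hwi, hwa]
    have kx : K * X * K⁻¹ = X := mul_inv_eq_iff_eq_mul.2 (hwx.symm.mul_left hgX).eq
    have k2 : K * C * K⁻¹ = a * C * X := by
      calc K * C * K⁻¹ = w * (g' * C * g'⁻¹) * w⁻¹ := by rw [hK]; group
        _ = a * C * X := by
          rw [hgC, hwi]
          calc w * (a * C * X) * w = w * (a * C) * (X * w) := by group
            _ = a * C * w * (w * X) := by rw [hwac.eq, hwx.eq]
            _ = a * C * (w * w) * X := by group
            _ = _ := by rw [hw2, mul_one]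
    have k3 : K * (a * C * X) * K⁻¹ = a := by
      calc K * (a * C * X) * K⁻¹ = K * a * K⁻¹ * (K * C * K⁻¹) * (K * X * K⁻¹) := by group
        _ = C * (a * C * X) * X := by rw [k1, k2, kx]
        _ = C * (a * C) * (X * X) := by group
        _ = a := by
          rw [hX2, mul_one, ← hCa, ← mul_assoc, hC2, one_mul]
    set Y := K * K * K with hY
    have hYa : Y * a = a * Y := by
      refine mul_inv_eq_iff_eq_mul.1 ?_
      calc Y * a * Y⁻¹ = K * (K * (K * a * K⁻¹) * K⁻¹) * K⁻¹ := by rw [hY]; group
        _ = a := by rw [k1, k2, k3]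
    have hYC : Commute Y C := by
      refine mul_inv_eq_iff_eq_mul.1 ?_
      calc Y * C * Y⁻¹ = K * (K * (K * C * K⁻¹) * K⁻¹) * K⁻¹ := by rw [hY]; group
        _ = C := by rw [k2, k3, k1]
    have hKX : Commute K X := hwx.symm.mul_left hgX
    have hKT : Commute K T := hwT.mul_left hgT
    have hYX : Commute Y X := (hKX.mul_left hKX).mul_left hKX
    have hYT : Commute Y T := (hKT.mul_left hKT).mul_left hKT
    obtain ⟨y0, hy0⟩ := P.pre hYa
    have e2 : φ y0 * C = C * φ y0 := hy0 ▸ hYC.eq
    rw [hC, imW_letter (l := 2) (by norm_num) (by norm_num), ← map_mul, ← map_mul] at e2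
    obtain ⟨i, hi, q, hq, hyw, -, hqc⟩ := stab_form y0.2 (congrArg Subtype.val (P.model.inj e2))
    set Z := qW q ++ stabW i with hZ
    have hzs : okSide true Z = true := okSide_append (qW_side hq) (stab_side hi)
    have hYw : Y = imW φ Z := by rw [← hy0, imW_el hzs]; exact congrArg φ (Subtype.ext hyw)
    have h7 : eqS true (Z ++ [7]) ([7] ++ Z) = true := by
      refine eqS_of_im P.model.inj (okSide_append hzs rfl) (okSide_append rfl hzs) ?_
      rw [imW_append Z [7], imW_append [7] Z, ← hYw]; exact hYT.eq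
    have hx' : eqS true (Z ++ xW) (xW ++ Z) = true := by
      refine eqS_of_im P.model.inj (okSide_append hzs rfl) (okSide_append rfl hzs) ?_
      rw [imW_append Z xW, imW_append xW Z, ← hYw]; exact hYX.eq
    have h2 : eqS true (qW q ++ [2]) ([2] ++ qW q) = true := by
      refine eqS_true (okSide_append (qW_side hq) rfl) (okSide_append rfl (qW_side hq)) ?_
      rw [wv_append, wv_append, wv_singleton]; exact hqc
    have h9 : eq9 (stabW i ++ [7]) ([7] ++ stabW i) = true := by
      refine eq9_true (okSide_append (stab_side hi) rfl) (okSide_append rfl (stab_side hi)) ?_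
      have hq9 : wv p9 (qW q) = 1 := nine_of_Q0 (qW_side hq) (mem_Q0.2 ⟨q, hq, rfl⟩)
      have := p9_congr hC0 hcard0 (eqS_side h7).1 (eqS_side h7).2 (eqS_eq h7)
      simp only [hZ, wv_append, hq9, one_mul] at this ⊢
      exact this
    have hc := allLo_spec cent_check hi
    rw [h9, Bool.not_true, Bool.false_or] at hc
    have hc := allLo_spec hc hq
    rw [← hZ, h7, hx', h2] at hc
    simp only [Bool.not_true, Bool.false_or, List.any_eq_true] at hc
    obtain ⟨j, -, m, hm, hjm⟩ := hc
    set M := imW φ (mW m) with hM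
    have hmW : ∀ p : ℕ × ℕ × ℕ, imW φ (mW p) = a ^ p.1 * C ^ p.2.1 * X ^ p.2.2 := fun p => by
      rw [mW, imW_append, imW_append, imW_pow, imW_pow, imW_pow, P.im_a]
    have hYm : Y = T ^ j * M := by rw [hYw, imW_eq hjm, imW_append, imW_pow]
    have hTM : Commute T M := by
      rw [hM, hmW]
      exact ((hTa.symm.pow_right _).mul_right (hTC.symm.pow_right _)).mul_right
        ((show Commute T X from imW_comm (by decide +kernel)).pow_right _)
    have hM2 : M * M = 1 := by
      have hh : (mWords.all fun m => eqS true (mW m ++ mW m) []) = true := by decide +kernel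
      rw [hM, ← imW_append, imW_eq (List.all_eq_true.1 hh m hm), imW_nil]
    have hMi : M⁻¹ = M := inv_eq_of_mul_eq_one_left hM2
    have hMac : Commute (a * C) M := by
      rw [hM, hmW]
      exact ((((Commute.refl a).mul_left (show Commute C a from hCa)).pow_right _).mul_right
        (((show Commute a C from hCa.symm).mul_left (Commute.refl C)).pow_right _)).mul_right
        ((hXa.symm.mul_left hXC.symm).pow_right _)
    set Z2 := a * C with hZ2
    have hZ22 : Z2 * Z2 = 1 := by
      calc Z2 * Z2 = a * (C * a) * C := by rw [hZ2]; group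
        _ = a * a * (C * C) := by rw [hCa, hZ2]; group
        _ = 1 := by rw [P.setup.a_sq, hC2, mul_one]
    have hgi : Z2 * g' * Z2 = g'⁻¹ := by
      have h := imW_eq (φ := φ) (u := [0] ++ [2] ++ gX ++ ([0] ++ [2])) (v := winv iv11 gX) (by decide +kernel)
      rwa [imW_append, imW_append, imW_append, imW_winv, P.im_a] at h
    have hrev : Z2 * Y * Z2 = w * Y⁻¹ * w := by
      have hZK : Z2 * K * Z2 = w * g'⁻¹ := by
        calc Z2 * K * Z2 = Z2 * w * (g' * Z2) := by rw [hK]; group
          _ = w * (Z2 * g' * Z2) := by rw [← hwac.eq]; group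
          _ = _ := by rw [hgi]
      calc Z2 * Y * Z2 = Z2 * K * 1 * K * 1 * K * Z2 := by rw [hY]; group
        _ = Z2 * K * (Z2 * Z2) * K * (Z2 * Z2) * K * Z2 := by rw [hZ22]
        _ = Z2 * K * Z2 * (Z2 * K * Z2) * (Z2 * K * Z2) := by group
        _ = w * (g'⁻¹ * w⁻¹) * (g'⁻¹ * w⁻¹) * g'⁻¹ := by rw [hZK, hwi]; group
        _ = w * Y⁻¹ * w := by rw [hY, hK]; group
    have hwTj : Commute w (T ^ j) := hwT.pow_right j
    have hTM' : T ^ j * M = w * M * w * (T ^ j)⁻¹ := by
      have e1 : Z2 * Y * Z2 = T ^ j * M := by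
        have hc1 : Commute Z2 Y := by
          rw [hYm]; exact ((hTa.mul_left hTC).pow_right j).mul_right hMac
        rw [hc1.eq, mul_assoc, hZ22, mul_one, hYm]
      rw [← e1, hrev, hYm, mul_inv_rev, hMi]
      calc w * (M * (T ^ j)⁻¹) * w = w * M * ((T ^ j)⁻¹ * w) := by group
        _ = _ := by rw [← hwTj.inv_right.eq]; group
    have hMw2 : w * M * w * M * (w * M * w * M) = 1 := by
      have hwX' : w * X * w = X := by rw [← hwx.eq, mul_assoc, hw2, mul_one]
      have hwMw : w * M * w = C ^ m.1 * a ^ m.2.1 * X ^ m.2.2 := by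
        have hp : ∀ (y : G) (n : ℕ), w * y ^ n * w = (w * y * w) ^ n := fun y n => by
          calc w * y ^ n * w = w * y ^ n * w⁻¹ := by rw [hwi]
            _ = (w * y * w⁻¹) ^ n := (conj_pow).symm
            _ = _ := by rw [hwi]
        calc w * M * w = w * a ^ m.1 * 1 * C ^ m.2.1 * 1 * X ^ m.2.2 * w := by rw [hM, hmW]; group
          _ = w * a ^ m.1 * (w * w) * C ^ m.2.1 * (w * w) * X ^ m.2.2 * w := by rw [hw2]
          _ = w * a ^ m.1 * w * (w * C ^ m.2.1 * w) * (w * X ^ m.2.2 * w) := by group
          _ = _ := by rw [hp, hp, hp, hwa, hwC, hwX']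
      rw [hwMw, hM, hmW, ← P.im_a, hC, hX, ← imW_pow, ← imW_pow, ← imW_pow, ← imW_pow, ← imW_pow,
        ← imW_append, ← imW_append, ← imW_append, ← imW_append, ← imW_append, ← imW_append]
      have hh : (mWords.all fun m => eqS true (powW [2] m.1 ++ powW [0] m.2.1 ++ powW xW m.2.2 ++
          (powW [0] m.1 ++ powW [2] m.2.1 ++ powW xW m.2.2) ++
          (powW [2] m.1 ++ powW [0] m.2.1 ++ powW xW m.2.2 ++
          (powW [0] m.1 ++ powW [2] m.2.1 ++ powW xW m.2.2))) []) = true := by decide +kernel
      rw [imW_eq (List.all_eq_true.1 hh m hm), imW_nil]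
    have hT4 : T ^ (4 * j) = 1 := by
      have h1 : w * M * w * M = T ^ j * T ^ j := by
        calc w * M * w * M = w * M * w * (T ^ j)⁻¹ * (T ^ j * M) := by group
          _ = T ^ j * (M * T ^ j) * M := by rw [← hTM']; group
          _ = T ^ j * T ^ j * (M * M) := by rw [← (hTM.pow_left j).eq]; group
          _ = _ := by rw [hM2, mul_one]
      rw [h1] at hMw2
      calc T ^ (4 * j) = T ^ j * T ^ j * (T ^ j * T ^ j) := by rw [← pow_add, ← pow_add]; congr 1; ring
        _ = 1 := hMw2
    have hT3 : T ^ 3 = 1 := by rw [hT, ← imW_pow, imW_eq (v := []) (by decide +kernel), imW_nil]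
    have hTj : T ^ j = 1 := by
      have : T ^ (4 * j) = T ^ j * (T ^ 3) ^ j := by rw [← pow_mul, ← pow_add]; congr 1; ring
      rw [this, hT3, one_pow, mul_one] at hT4
      exact hT4
    rw [hTj, one_mul, inv_one, mul_one] at hTM'
    rw [hTj, one_mul] at hYm
    have hgM : Commute M g' := by
      have hYK : Commute Y K := ((Commute.refl K).mul_left (Commute.refl K)).mul_left (Commute.refl K)
      have hMw : Commute M w := by
        calc M * w = w * M * w * w := by rw [← hTM']
          _ = w * M := by rw [mul_assoc, hw2, mul_one]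
      have : g' = w⁻¹ * K := by rw [hK]; group
      rw [this]
      exact hMw.inv_right.mul_right (hYm ▸ hYK)
    have hmside : okSide true (mW m) = true ∧ okSide true (mW (m.2.1, m.1, m.2.2)) = true := by
      have hh : (mWords.all fun m => okSide true (mW m) && okSide true (mW (m.2.1, m.1, m.2.2))) = true := by
        decide +kernel
      simpa [Bool.and_eq_true] using List.all_eq_true.1 hh m hm
    have hm1 : eqS true (mW m ++ gX) (gX ++ mW m) = true := by
      refine eqS_of_im P.model.inj (okSide_append hmside.1 rfl) (okSide_append rfl hmside.1) ?_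
      rw [imW_append, imW_append]; exact hgM.eq
    have hm2 : eqS true (mW m) (mW (m.2.1, m.1, m.2.2)) = true := by
      refine eqS_of_im P.model.inj hmside.1 hmside.2 ?_
      rw [← hM, hmW, hTM']
      have hp : ∀ (y : G) (n : ℕ), w * y ^ n * w = (w * y * w) ^ n := fun y n => by
        calc w * y ^ n * w = w * y ^ n * w⁻¹ := by rw [hwi]
          _ = (w * y * w⁻¹) ^ n := (conj_pow).symm
          _ = _ := by rw [hwi]
      have hwX' : w * X * w = X := by rw [← hwx.eq, mul_assoc, hw2, mul_one]
      calc w * M * w = w * a ^ m.1 * 1 * C ^ m.2.1 * 1 * X ^ m.2.2 * w := by rw [hM, hmW]; group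
        _ = w * a ^ m.1 * (w * w) * C ^ m.2.1 * (w * w) * X ^ m.2.2 * w := by rw [hw2]
        _ = w * a ^ m.1 * w * (w * C ^ m.2.1 * w) * (w * X ^ m.2.2 * w) := by group
        _ = C ^ m.1 * a ^ m.2.1 * X ^ m.2.2 := by rw [hp, hp, hp, hwa, hwC, hwX']
        _ = _ := by rw [((show Commute C a from hCa).pow_pow m.1 m.2.1).eq]
    have hfin := List.all_eq_true.1 m_check m hm
    rw [hm1, hm2] at hfin
    simp only [Bool.not_true, Bool.false_or, Bool.or_eq_true] at hfin
    have hgB : wv (gB φ b) gX = g' := imW_gB (φ := φ) (w := gX) rfl b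
    rcases hfin with hf | hf
    · right
      rw [yFalse]
      simp only [hWw, hW, hgB]
      calc w * g' * w * g' * w * g' = Y := by rw [hY, hK]; group
        _ = 1 := by rw [hYm, hM, imW_eq hf, imW_nil]
    · left
      rw [yTrue]
      simp only [hWw, hW, hgB, imW_gB (φ := φ) (w := xW) rfl b, ← hX]
      calc w * g' * w * g' * w * g' * X = Y * X := by rw [hY, hK]; group
        _ = 1 := by rw [hYm, hM, imW_eq hf, ← hX, hX2]

/-- **The local data exist.** -/
theorem Duo.exists_local [Finite G] : ∃ b : G, Local φ b := by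
  obtain ⟨x, hxa, hxS, hxT⟩ := P.exists_x
  set C := imW φ [2] with hC
  set S := imW φ [5] with hS
  set T := imW φ [7] with hT
  set D := imW φ [3] with hD
  have hC2 : C * C = 1 := by rw [hC, ← imW_append, imW_eq (v := []) (by decide +kernel), imW_nil]
  have hD2 : D * D = 1 := by rw [hD, ← imW_append, imW_eq (v := []) (by decide +kernel), imW_nil]
  have hDi : D⁻¹ = D := inv_eq_of_mul_eq_one_left hD2
  have hSa : Commute a S := (P.im_comm rfl).symm
  have hTa : Commute a T := (P.im_comm rfl).symm
  have hDa : Commute D a := P.im_comm rfl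
  have hSC : Commute C S := imW_comm (by decide +kernel)
  have hTC : Commute C T := imW_comm (by decide +kernel)
  have hDS : D * S * D = S⁻¹ := by
    rw [hD, hS, ← imW_winv, ← imW_append, ← imW_append]; exact imW_eq (by decide +kernel)
  have hDT : Commute D T := imW_comm (by decide +kernel)
  let W : Subgroup G := Subgroup.centralizer ({S, T} : Set G)
  have hmemW : ∀ {y : G}, y ∈ W ↔ Commute y S ∧ Commute y T := by
    intro y
    rw [Subgroup.mem_centralizer_iff]
    constructor
    · exact fun h => ⟨(h S (Or.inl rfl)).symm, (h T (Or.inr rfl)).symm⟩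
    · rintro ⟨h1, h2⟩ z (rfl | rfl)
      exacts [h1.eq.symm, h2.eq.symm]
  have hstab : ∀ y ∈ W, D * y * D ∈ W := by
    intro y hy
    obtain ⟨h1, h2⟩ := hmemW.1 hy
    refine hmemW.2 ⟨?_, (hDT.mul_left h2).mul_left hDT⟩
    have h1' : Commute y S⁻¹ := h1.inv_right
    show D * y * D * S = S * (D * y * D)
    have eS : S = D * S⁻¹ * D := by
      rw [← hDS]
      calc S = 1 * S * 1 := by group
        _ = D * D * S * (D * D) := by rw [hD2]
        _ = _ := by group
    calc D * y * D * S = D * y * D * (D * S⁻¹ * D) := by rw [← eS]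
      _ = D * (y * (D * D) * S⁻¹) * D := by group
      _ = D * (S⁻¹ * (D * D) * y) * D := by rw [hD2, mul_one, mul_one, h1'.eq]
      _ = D * S⁻¹ * D * (D * y * D) := by group
      _ = _ := by rw [← eS]
  have hinv : ∀ y : G, D * (D * y * D) * D = y := fun y => by
    calc D * (D * y * D) * D = D * D * y * (D * D) := by group
      _ = y := by rw [hD2, one_mul, mul_one]
  let σ : ↥W ≃* ↥W :=
    { toFun := fun y => ⟨D * y * D, hstab _ y.2⟩
      invFun := fun y => ⟨D * y * D, hstab _ y.2⟩
      left_inv := fun y => Subtype.ext (hinv y)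
      right_inv := fun y => Subtype.ext (hinv y)
      map_mul' := fun y z => Subtype.ext (by
        show D * ((y : G) * z) * D = D * y * D * (D * z * D)
        calc D * ((y : G) * z) * D = D * y * 1 * z * D := by group
          _ = D * y * (D * D) * z * D := by rw [hD2]
          _ = _ := by group) }
  have hσ : ∀ y : ↥W, (σ y : G) = D * y * D := fun _ => rfl
  let aW : ↥W := ⟨a, hmemW.2 ⟨hSa, hTa⟩⟩
  let cW : ↥W := ⟨C, hmemW.2 ⟨hSC, hTC⟩⟩
  let xw : ↥W := ⟨x, hmemW.2 ⟨hxS, hxT⟩⟩
  haveI : Finite ↥W := inferInstance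
  have hsc : (σ cW : G) = imW φ [3, 2, 3] := by
    rw [hσ]
    show D * C * D = _
    rw [hD, hC, ← imW_append, ← imW_append]; rfl
  have hao : orderOf aW = 2 := by
    rw [← Subgroup.orderOf_coe]; exact P.setup.ha
  have hfix : σ aW = aW := Subtype.ext (by
    rw [hσ]
    show D * a * D = a
    rw [hDa.eq, mul_assoc, hD2, mul_one])
  have hsq : (cW * σ cW) * (cW * σ cW) = aW := Subtype.ext (by
    simp only [Subgroup.coe_mul, hσ]
    show C * (D * C * D) * (C * (D * C * D)) = a
    rw [hC, hD, ← P.im_a, ← imW_append, ← imW_append, ← imW_append, ← imW_append]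
    exact imW_eq (by decide +kernel))
  have hlist : ∀ w : ↥W, w * aW = aW * w →
      w ∈ [1, aW, cW, σ cW, aW * cW, aW * σ cW, cW * σ cW, σ cW * cW] := by
    intro w hw
    have hwa : (w : G) * a = a * (w : G) := congrArg Subtype.val hw
    obtain ⟨v, hv⟩ := P.pre hwa
    obtain ⟨h1, h2⟩ := hmemW.1 w.2
    have e5 : φ v * S = S * φ v := hv ▸ h1.eq
    have e7 : φ v * T = T * φ v := hv ▸ h2.eq
    rw [hS, imW_letter (l := 5) (by norm_num) (by norm_num), ← map_mul, ← map_mul] at e5
    rw [hT, imW_letter (l := 7) (by norm_num) (by norm_num), ← map_mul, ← map_mul] at e7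
    obtain ⟨d, hd, hvd⟩ := cent_st v.2 (congrArg Subtype.val (P.model.inj e5))
      (congrArg Subtype.val (P.model.inj e7))
    have hw' : (w : G) = imW φ d := by
      rw [← hv, imW_el (List.all_eq_true.1 d8_seven d hd)]; exact congrArg φ (Subtype.ext hvd)
    simp only [d8W, List.mem_cons, List.not_mem_nil, or_false] at hd
    simp only [List.mem_cons, List.not_mem_nil, or_false]
    rcases hd with rfl | rfl | rfl | rfl | rfl | rfl | rfl | rfl
    · exact Or.inl (Subtype.ext (hw'.trans imW_nil))
    · exact Or.inr (Or.inl (Subtype.ext (hw'.trans P.im_a)))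
    · exact Or.inr (Or.inr (Or.inl (Subtype.ext hw')))
    · exact Or.inr (Or.inr (Or.inr (Or.inl (Subtype.ext (hw'.trans hsc.symm)))))
    · refine Or.inr (Or.inr (Or.inr (Or.inr (Or.inl (Subtype.ext (hw'.trans ?_))))))
      show imW φ ([0] ++ [2]) = a * C
      rw [imW_append, P.im_a]
    · refine Or.inr (Or.inr (Or.inr (Or.inr (Or.inr (Or.inl (Subtype.ext (hw'.trans ?_)))))))
      show imW φ ([0] ++ [3, 2, 3]) = a * (σ cW : G)
      rw [imW_append, P.im_a, hsc]
    · refine Or.inr (Or.inr (Or.inr (Or.inr (Or.inr (Or.inr (Or.inl (Subtype.ext (hw'.trans ?_))))))))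
      show imW φ ([2] ++ [3, 2, 3]) = C * (σ cW : G)
      rw [imW_append, hsc]
    · refine Or.inr (Or.inr (Or.inr (Or.inr (Or.inr (Or.inr (Or.inr (Subtype.ext (hw'.trans ?_))))))))
      show imW φ ([3, 2, 3] ++ [2]) = (σ cW : G) * C
      rw [imW_append, hsc]
  rcases small_cases σ aW cW (fun y => Subtype.ext (hinv y)) hao hfix (Subtype.ext hC2)
    (Subtype.ext (P.im_comm rfl)) hsq hlist ⟨xw, Subtype.ext hxa⟩ with ⟨y, hy5, hyσ⟩ | ⟨b, r, hbb, hnab, hab, hbc, hbσ, hr⟩
  · exfalso
    set K := imW φ kW with hK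
    have hKS : Commute K S := imW_comm (by decide +kernel)
    have hKT : Commute K T := imW_comm (by decide +kernel)
    have hKz : K * x * a * (K * x)⁻¹ = a * C := by
      calc K * x * a * (K * x)⁻¹ = K * (x * a * x⁻¹) * K⁻¹ := by group
        _ = a * C := by
          rw [hxa, hC, ← imW_winv, ← imW_append, ← imW_append, ← P.im_a, ← imW_append]
          exact imW_eq (by decide +kernel)
    obtain ⟨p, hpT, hp⟩ := P.d_conj hKz (hKT.mul_left hxT).eq hxa hxT
    have hyD : Commute (y : G) D := by
      have e : D * (y : G) * D = y := congrArg Subtype.val hyσ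
      calc (y : G) * D = D * y * D * D := by rw [e]
        _ = D * y := by rw [mul_assoc, hD2, mul_one]
    have hyT : Commute (y : G) T := (hmemW.1 y.2).2
    refine P.five_false (y := p⁻¹ * y * p) ?_ ?_
      (((show Commute p T from hpT).inv_left.mul_left hyT).mul_left hpT).eq
    · have hc : p⁻¹ * (y : G) * p = MulAut.conj p⁻¹ (y : G) := by simp [MulAut.conj_apply]
      rw [hc, MulEquiv.orderOf_eq, Subgroup.orderOf_coe, hy5]
    · have ea : a = p⁻¹ * D * p := by rw [hD, ← hp]; group
      calc p⁻¹ * y * p * a = p⁻¹ * y * p * (p⁻¹ * D * p) := by rw [← ea]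
        _ = p⁻¹ * ((y : G) * D) * p := by group
        _ = p⁻¹ * D * p * (p⁻¹ * y * p) := by rw [hyD.eq]; group
        _ = _ := by rw [← ea]
  · obtain ⟨hb1, hb2⟩ := hmemW.1 b.2
    obtain ⟨hr1, hr2⟩ := hmemW.1 r.2
    have B : BData φ a (b : G) (r : G) :=
      { bb := congrArg Subtype.val hbb
        nab := fun e => hnab (Subtype.ext e)
        ab := congrArg Subtype.val hab
        bc := congrArg Subtype.val hbc
        bs := hb1.eq
        bt := hb2.eq
        rs := hr1.eq
        rt := hr2.eq
        r_map := congrArg Subtype.val hr }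
    obtain ⟨we, wx, wu, wy⟩ := P.words B
    have e0 : gB φ (b : G) 0 = a := by rw [gB_im (φ := φ) (by norm_num), P.im_a]
    have e2 : gB φ (b : G) 2 = C := gB_im (φ := φ) (by norm_num) _
    have e3 : gB φ (b : G) 3 = D := gB_im (φ := φ) (by norm_num) _
    have e5 : gB φ (b : G) 5 = S := gB_im (φ := φ) (by norm_num) _
    have e7 : gB φ (b : G) 7 = T := gB_im (φ := φ) (by norm_num) _
    have nab : (b : G) * gB φ (b : G) 0 ≠ gB φ (b : G) 0 * b := by
      rw [e0]; exact fun e => B.nab e.symm
    rcases hbσ with hbσ | hbσ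
    · have e : D * (b : G) * D = b := congrArg Subtype.val hbσ
      refine ⟨b, ⟨P.model.inj, B.bb, nab, by rw [e0]; exact B.ab, by rw [e2]; exact B.bc, ?_,
        by rw [e5]; exact B.bs, by rw [e7]; exact B.bt, we, wx, wu, wy⟩⟩
      rw [e3]
      calc (b : G) * D = D * b * D * D := by rw [e]
        _ = D * b := by rw [mul_assoc, hD2, mul_one]
    · exfalso
      have e : D * (b : G) * D = a * b * a := congrArg Subtype.val hbσ
      refine bad_false B.bb nab (by rw [e0]; exact B.ab) (by rw [e2]; exact B.bc) ?_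
        (by rw [e7]; exact B.bt) we wx wu
      rw [e0, e3]
      calc (b : G) * (a * D) = (a * a) * b * a * D := by rw [P.setup.a_sq, one_mul]; group
        _ = a * (D * b * D) * D := by rw [e]; group
        _ = a * D * b * (D * D) := by group
        _ = a * D * b := by rw [hD2, mul_one]

end

end

end Cfsg.Agent.ThRec
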