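import Cfsg.Agent.Lib.ThRec.StabCheck
import Cfsg.Agent.Lib.ThRec.Centraliser

/-!
The model near `c`, `s` and `t`: centralisers, the stabiliser of `c` in normal form, and the witnesses used by
the local argument.
-/

set_option autoImplicit false
set_option maxRecDepth 100000
set_option maxHeartbeats 1000000
set_option Elab.async false
set_option linter.style.haveILetI false

namespace Cfsg.Agent.ThRec

open Cfsg.Agent.HN Cfsg.Agent.Th Cfsg.Agent.ThOut Equiv

noncomputable section

/-- The element of a word without `b`. -/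
def el0 (w : List ℕ) (h : okSide true w = true) : ↥CA := ⟨wv g11 w, (hC0 _).2 ⟨w, h, rfl⟩⟩

theorem nine9_el0 {w : List ℕ} (h : okSide true w = true) : nine9 (el0 w h) = (wv p9 w : Perm (Fin 9)) :=
  toNine_mk hC0 hcard0 h

theorem eqS_side {u v : List ℕ} (h : eqS true u v = true) : okSide true u = true ∧ okSide true v = true := by
  simp only [eqS, Bool.and_eq_true] at h
  exact h.1

/-- Membership of the words. -/
theorem word_mem {w : List ℕ} (h : okSide true w = true) : wv g11 w ∈ CA := (hC0 _).2 ⟨w, h, rfl⟩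

theorem wv_winv11 (w : List ℕ) : wv g11 (winv iv11 w) = (wv g11 w)⁻¹ := wv_winv g11 g11_inv w

theorem eqS_true {u v : List ℕ} (hu : okSide true u = true) (hv : okSide true v = true)
    (e : wv g11 u = wv g11 v) : eqS true u v = true :=
  (eqS_iff psi_injective hu hv).2 e

theorem cjW_side {d z : List ℕ} (hz : okSide true z = true) (hd : okSide true d = true)
    (hd' : okSide true (winv iv11 d) = true) : okSide true (cjW d z) = true :=
  okSide_append (okSide_append hd' hz) hd

/-! ### The permutations commuting with the images of `s` and `t` -/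

/-- The image of a letter on nine points. -/
def q9 (l : ℕ) : Perm (Fin 9) := p9 l

theorem nine9_q9 {l : ℕ} (h : l < 11) (h1 : l ≠ 1) : nine9 ⟨g11 l, letter_mem h h1⟩ = q9 l := nine9_letter h h1

theorem sigma_facts : (∀ i : Fin 9, decide (i = 4 ∨ i = 8) = true ∨
      ((List.range 7).any fun k => decide (((q9 5) ^ k) 0 = i)) = true) ∧
    decide ((q9 5) 4 = 4 ∧ (q9 5) 8 = 8 ∧
      ((q9 5) 0 ≠ 0)) = true ∧
    ((List.range 7).all fun k => decide (k = 0) ||
      !(decide ((q9 5) ^ k * q9 7 = q9 7 * (q9 5) ^ k))) = true := by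
  decide +kernel

theorem sigma_fix {i : Fin 9} (h : (q9 5) i = i) : i = 4 ∨ i = 8 := by
  have hc : ((List.finRange 9).all fun i =>
      !(decide ((q9 5) i = i)) || decide (i = 4 ∨ i = 8)) = true := by decide +kernel
  have := List.all_eq_true.1 hc i (List.mem_finRange i)
  simpa [h] using this

theorem cent_sigma {τ : Perm (Fin 9)} (hτ : Perm.sign τ = 1) (hc : τ * q9 5 = (q9 5) * τ) :
    ∃ k < 7, τ = (q9 5) ^ k := by
  set σ : Perm (Fin 9) := (q9 5) with hσ
  obtain ⟨hcov, hfix, -⟩ := sigma_facts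
  rw [← hσ] at hfix
  obtain ⟨h4, h8, h0⟩ := of_decide_eq_true hfix
  have hcx : ∀ i, τ (σ i) = σ (τ i) := fun i => by
    rw [← Perm.mul_apply, hc, Perm.mul_apply]
  have ht0 : ¬ (τ 0 = 4 ∨ τ 0 = 8) := fun h => h0 (τ.injective (by
    rw [hcx]
    rcases h with h | h <;> rw [h]
    exacts [h4, h8]))
  obtain ⟨k, hk, hk0⟩ : ∃ k < 7, (σ ^ k) 0 = τ 0 := by
    rcases hcov (τ 0) with h | h
    · exact absurd (of_decide_eq_true h) ht0
    · obtain ⟨k, hk, h⟩ := List.any_eq_true.1 h
      exact ⟨k, List.mem_range.1 hk, of_decide_eq_true h⟩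
  refine ⟨k, hk, ?_⟩
  set ρ : Perm (Fin 9) := (σ ^ k)⁻¹ * τ with hρ
  have hρc : ∀ n : ℕ, ρ * σ ^ n = σ ^ n * ρ := fun n => by
    have h1 : Commute τ σ := hc
    exact ((((Commute.refl σ).pow_left k).inv_left).mul_left h1).pow_right n
  have hρ0 : ρ 0 = 0 := by rw [hρ, Perm.mul_apply, ← hk0, Perm.inv_def, Equiv.symm_apply_apply]
  have hρi : ∀ i, ¬ (i = 4 ∨ i = 8) → ρ i = i := fun i hi => by
    rcases hcov i with h | h
    · exact absurd (of_decide_eq_true h) hi
    · obtain ⟨n, -, h⟩ := List.any_eq_true.1 h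
      have h' : (σ ^ n) 0 = i := of_decide_eq_true h
      calc ρ i = ρ ((σ ^ n) 0) := congrArg ρ h'.symm
        _ = (ρ * σ ^ n) 0 := rfl
        _ = i := by rw [hρc, Perm.mul_apply, hρ0, h']
  have hsw : ρ = 1 ∨ ρ = swap 4 8 := by
    by_cases h : ρ 4 = 4
    · left
      refine Equiv.ext fun i => ?_
      rcases em (i = 4) with rfl | h4'
      · exact h
      rcases em (i = 8) with rfl | h8'
      · by_contra h88
        have : ρ (ρ 8) = ρ 8 := by
          rcases em (ρ 8 = 4) with e | e
          · rw [e, h]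
          · exact hρi _ (by rintro (e' | e') <;> [exact e e'; exact h88 e'])
        exact h88 (ρ.injective this)
      · exact hρi i (by rintro (e | e) <;> [exact h4' e; exact h8' e])
    · right
      have h48 : ρ 4 = 8 := by
        by_contra e
        exact h (ρ.injective (hρi _ (by rintro (e' | e') <;> [exact h e'; exact e e'])))
      have h84 : ρ 8 = 4 := by
        by_contra e
        rcases em (ρ 8 = 8) with e' | e'
        · exact absurd (ρ.injective (h48.trans e'.symm)) (by decide)
        · exact e' (ρ.injective (hρi _ (by rintro (e'' | e'') <;> [exact e e''; exact e' e''])))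
      refine Equiv.ext fun i => ?_
      rcases em (i = 4) with rfl | h4'
      · rw [h48, swap_apply_left]
      rcases em (i = 8) with rfl | h8'
      · rw [h84, swap_apply_right]
      · rw [hρi i (by rintro (e | e) <;> [exact h4' e; exact h8' e]), swap_apply_of_ne_of_ne h4' h8']
  rcases hsw with e | e
  · rw [← mul_inv_cancel_left (σ ^ k) τ, ← hρ, e, mul_one]
  · exfalso
    have hs : Perm.sign ρ = 1 := by
      have h5 : Perm.sign σ = 1 := sign_p9 5 (by norm_num)
      rw [hρ, map_mul, map_inv, map_pow, h5, hτ, one_pow, inv_one, one_mul]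
    rw [e, Perm.sign_swap (by decide)] at hs
    exact absurd hs (by decide)

/-! ### The centraliser of `s` -/

/-- The eight words of the centraliser of `s` in the normal subgroup. -/
def d8W : List (List ℕ) := [[], [0], [2], [3, 2, 3], [0, 2], [0, 3, 2, 3], [2, 3, 2, 3], [3, 2, 3, 2]]

theorem d8_check : allLo (fun q => !(eqS true (qW q ++ [5]) ([5] ++ qW q)) ||
    d8W.any fun d => eqS true (qW q) d) 512 = true := by decide +kernel

/-- The centraliser of `s` in the model. -/
theorem cent_s {x : Cfsg.Spor.Th} (hx : x ∈ CA) (hs : x * g11 5 = g11 5 * x) :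
    ∃ k < 7, ∃ d ∈ d8W, x = g11 5 ^ k * wv g11 d := by
  set X : ↥CA := ⟨x, hx⟩
  set s5 : ↥CA := ⟨g11 5, letter_mem (by norm_num) (by norm_num)⟩
  have h5 : nine9 s5 = (q9 5) := nine9_q9 (by norm_num) (by norm_num)
  have hc : nine9 X * q9 5 = (q9 5) * nine9 X := by
    rw [← h5, ← map_mul, ← map_mul, show X * s5 = s5 * X from Subtype.ext hs]
  obtain ⟨k, hk, e⟩ := cent_sigma (nine9_sign X) hc
  have hq : (((s5 ^ k)⁻¹ * X : ↥CA) : Cfsg.Spor.Th) ∈ Q0 := by
    rw [mem_Q0_iff]
    show nine9 _ = (1 : Perm (Fin 9))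
    rw [map_mul, map_inv, map_pow, h5, e, inv_mul_cancel]
  obtain ⟨q, hq1, hqe⟩ := mem_Q0.1 hq
  simp only [Subgroup.coe_mul, Subgroup.coe_inv, SubgroupClass.coe_pow, X, s5] at hqe
  have hcomm : wv g11 (qW q ++ [5]) = wv g11 ([5] ++ qW q) := by
    rw [wv_append, wv_append, wv_singleton, ← hqe]
    exact (((Commute.refl (g11 5)).pow_left k).inv_left.mul_left (show Commute x (g11 5) from hs)).eq
  have h := allLo_spec d8_check hq1
  rw [eqS_true (okSide_append (qW_side hq1) (by rfl)) (okSide_append (by rfl) (qW_side hq1)) hcomm,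
    Bool.not_true, Bool.false_or] at h
  obtain ⟨d, hd, he⟩ := List.any_eq_true.1 h
  exact ⟨k, hk, d, hd, by rw [← eqS_eq he, ← hqe, mul_inv_cancel_left]⟩

theorem d8_facts : (d8W.all fun d => eqS true (d ++ [5]) ([5] ++ d) && eqS true (d ++ [7]) ([7] ++ d)) = true ∧
    ((List.range 7).all fun k => (List.range 7).any fun j =>
      eqS true ([7] ++ List.replicate k 5) (List.replicate j 5 ++ [7] ++ List.replicate j 6)) = true := by
  decide +kernel

/-- The centraliser of `s` and `t` in the model. -/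
theorem cent_st {x : Cfsg.Spor.Th} (hx : x ∈ CA) (hs : x * g11 5 = g11 5 * x) (ht : x * g11 7 = g11 7 * x) :
    ∃ d ∈ d8W, x = wv g11 d := by
  obtain ⟨k, hk, d, hd, e⟩ := cent_s hx hs
  rcases Nat.eq_zero_or_pos k with rfl | hk0
  · exact ⟨d, hd, by rw [e, pow_zero, one_mul]⟩
  exfalso
  have hd' := List.all_eq_true.1 d8_facts.1 d hd
  simp only [Bool.and_eq_true] at hd'
  have hdt := eqS_eq hd'.2
  rw [wv_append, wv_append, wv_singleton] at hdt
  have hdm : wv g11 d ∈ CA := word_mem ((eqS_side hd'.2).1 |> fun h => by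
    simp only [okSide, cond_true, List.all_append, Bool.and_eq_true] at h ⊢
    exact h.1)
  have hkt : g11 5 ^ k * g11 7 = g11 7 * g11 5 ^ k := by
    refine mul_right_cancel (b := wv g11 d) ?_
    rw [mul_assoc, mul_assoc, ← hdt, ← mul_assoc, ← e, ht, e]
  set s5 : ↥CA := ⟨g11 5, letter_mem (by norm_num) (by norm_num)⟩
  set t7 : ↥CA := ⟨g11 7, letter_mem (by norm_num) (by norm_num)⟩
  have h := congrArg nine9 (show s5 ^ k * t7 = t7 * s5 ^ k from Subtype.ext (by
    simpa [s5, t7] using hkt))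
  rw [map_mul, map_mul, map_pow, nine9_q9 (by norm_num) (by norm_num),
    nine9_q9 (by norm_num) (by norm_num)] at h
  have h3 := List.all_eq_true.1 sigma_facts.2.2 k (List.mem_range.2 hk)
  simp only [Bool.or_eq_true, decide_eq_true_eq, Bool.not_eq_true', decide_eq_false_iff_not] at h3
  rcases h3 with h3 | h3
  · omega
  · exact h3 h

/-! ### The stabiliser of `c` -/

theorem stab_side {i : ℕ} (hi : i < 1344) : okSide true (stabW i) = true := by
  have := allLo_spec stab_words hi
  simp only [Bool.and_eq_true] at this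
  exact this.1.1.1

theorem stab_c {i : ℕ} (hi : i < 1344) : wv g11 (stabW i) * g11 2 = g11 2 * wv g11 (stabW i) := by
  have := allLo_spec stab_words hi
  simp only [Bool.and_eq_true] at this
  rw [← Subgroup.mem_centralizer_singleton_iff]
  refine wv_mem _ fun l hl => Subgroup.mem_centralizer_singleton_iff.2 ?_
  have hl' := List.all_eq_true.1 this.1.1.2 l hl
  simp only [Bool.or_eq_true, Nat.beq_eq] at hl'
  have hc : (([4, 5, 7, 9] : List ℕ).all fun m => eqS true [m, 2] [2, m]) = true := by decide +kernel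
  have hm : l ∈ ([4, 5, 7, 9] : List ℕ) := by
    rcases hl' with ((h | h) | h) | h <;> subst h <;> decide
  have h := eqS_eq (List.all_eq_true.1 hc l hm)
  rw [wv_cons, wv_cons, wv_cons, wv_cons, wv_nil, mul_one, mul_one] at h
  exact h

/-- The permutations of the list. -/
def stabPerm (i : ℕ) : Perm (Fin 9) := (wv p9 (stabW i) : Perm (Fin 9))

theorem actW_congr {u v : List ℕ} (hu : ∀ l ∈ u, l < nine.k) (hv : ∀ l ∈ v, l < nine.k)
    (e : wv p9 u = wv p9 v) (q : Fin nine.n) : nine.actW u q = nine.actW v q := by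
  rw [← wv_sig_inv_apply nine_ok u hu q, ← wv_sig_inv_apply nine_ok v hv q]
  show (((wv p9 u)⁻¹ q : Fin nine.n) : ℕ) = _
  rw [e]
  rfl

theorem code_congr {u v : List ℕ} (hu : ∀ l ∈ u, l < nine.k) (hv : ∀ l ∈ v, l < nine.k)
    (e : wv p9 u = wv p9 v) : code u = code v := by
  have h : ∀ q < 9, nine.actW u q = nine.actW v q := fun q hq => actW_congr hu hv e ⟨q, hq⟩
  have key : ∀ n ≤ 9,
      Nat.rec (motive := fun _ => ℕ) 0 (fun q r => Nat.add r (Nat.shiftLeft (nine.actW u q) (Nat.mul 4 q))) n =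
      Nat.rec (motive := fun _ => ℕ) 0 (fun q r => Nat.add r (Nat.shiftLeft (nine.actW v q) (Nat.mul 4 q))) n := by
    intro n
    induction n with
    | zero => intro _; rfl
    | succ m ih =>
      intro hm
      show Nat.add _ _ = Nat.add _ _
      rw [ih (by omega), h m (by omega)]
  exact key 9 le_rfl

theorem side_lt {w : List ℕ} (h : okSide true w = true) : ∀ l ∈ w, l < nine.k := by
  intro l hl
  simp only [okSide, cond_true, List.all_eq_true, Bool.and_eq_true, Nat.blt_eq] at h
  exact (h l hl).1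

theorem stabPerm_inj {i j : ℕ} (hi : i < 1344) (hj : j < 1344) (e : stabPerm i = stabPerm j) : i = j := by
  have hcode : ∀ k < 1344, code (stabW k) = Stab.codes.get k := fun k hk => by
    have := allLo_spec stab_words hk
    simp only [Bool.and_eq_true, Nat.beq_eq] at this
    exact this.1.2
  have hstep : ∀ k, k + 1 < 1344 → Stab.codes.get k < Stab.codes.get (k + 1) := fun k hk => by
    have := allLo_spec stab_words hk
    simp only [Bool.and_eq_true, Bool.or_eq_true, Nat.beq_eq, Nat.blt_eq] at this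
    exact this.2.resolve_left (Nat.succ_ne_zero k)
  have hmono : ∀ {m k : ℕ}, m < k → k < 1344 → Stab.codes.get m < Stab.codes.get k := by
    intro m k hmk hk
    induction k with
    | zero => omega
    | succ k ih =>
      rcases Nat.lt_succ_iff_lt_or_eq.1 hmk with h | h
      · exact (ih h (by omega)).trans (hstep k hk)
      · exact h ▸ hstep k hk
  have h := code_congr (side_lt (stab_side hi)) (side_lt (stab_side hj)) e
  rw [hcode i hi, hcode j hj] at h
  rcases lt_trichotomy i j with l | l | l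
  · exact absurd h (hmono l hj).ne
  · exact l
  · exact absurd h.symm (hmono l hi).ne

theorem invol_many : 270 ≤ (List.range 512).countP (fun q =>
    eqS true (qW q ++ qW q) [] && !(eqS true (qW q) []) && !(eqS true (qW q) [0])) := by
  decide +kernel

theorem fix_many : 256 ≤ (List.range 512).countP (fun q => eqS true (qW q ++ [2]) ([2] ++ qW q)) := by
  decide +kernel

theorem countP_eq (p : ℕ → Bool) (n : ℕ) :
    (List.range n).countP p = Nat.card {i : Fin n // p i = true} := by
  classical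
  rw [Nat.card_eq_fintype_card, Fintype.card_subtype, List.countP_eq_length_filter]
  rw [← Finset.card_map Fin.valEmbedding]
  rw [show ((List.range n).filter p).length = ((Finset.range n).filter fun i => p i = true).card by
    simp [Finset.card_def, Finset.filter_val, Finset.range_val, Multiset.range]]
  congr 1
  ext i
  simp only [Finset.mem_filter, Finset.mem_range, Finset.mem_map, Finset.mem_univ, true_and,
    Fin.valEmbedding_apply]
  exact ⟨fun h => ⟨⟨i, h.1⟩, h.2, rfl⟩, fun ⟨j, hj, e⟩ => e ▸ ⟨j.2, hj⟩⟩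

/-- The stabiliser of `c` in the model. -/
def stC : Subgroup ↥CA := (Subgroup.centralizer ({g11 2} : Set Cfsg.Spor.Th)).subgroupOf CA

theorem mem_stC {x : ↥CA} : x ∈ stC ↔ (x : Cfsg.Spor.Th) * g11 2 = g11 2 * x :=
  Subgroup.mem_subgroupOf.trans Subgroup.mem_centralizer_singleton_iff

theorem card_stC_le : Nat.card ↥stC ≤ 344064 := by
  haveI := finite_CA
  classical
  let p : ℕ → Bool := fun q =>
    eqS true (qW q ++ qW q) [] && !(eqS true (qW q) []) && !(eqS true (qW q) [0])
  have hex : ∀ i : {i : Fin 512 // p i = true}, ∃ g : ↥CA,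
      (g : Cfsg.Spor.Th)⁻¹ * g11 2 * g = wv g11 (qW i.1) := by
    rintro ⟨⟨q, hq⟩, h⟩
    simp only [p, Bool.and_eq_true, Bool.not_eq_true'] at h
    have h2 := eqS_eq h.1.1
    rw [wv_append, wv_nil] at h2
    obtain ⟨g, hg, e⟩ := singular_conj (mem_Q0.2 ⟨q, hq, rfl⟩) h2
      (fun e => ne_of_eqS psi_injective (qW_side hq) rfl h.1.2 (e.trans (wv_nil g11).symm))
      (fun e => ne_of_eqS psi_injective (qW_side hq) rfl h.2 (e.trans (wv_singleton g11 0).symm))
    exact ⟨⟨g, hg⟩, by rw [← e]; group⟩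
  choose g hg using hex
  have h270 : 270 ≤ stC.index := by
    refine le_trans (invol_many.trans (le_of_eq (countP_eq p 512))) ?_
    refine Nat.card_le_card_of_injective (fun i => (QuotientGroup.mk (g i)⁻¹ : ↥CA ⧸ stC)) fun i j e => ?_
    rw [QuotientGroup.eq, inv_inv, mem_stC] at e
    refine Subtype.ext (Fin.ext (qW_inj psi_injective i.1.2 j.1.2 ?_))
    rw [← hg i, ← hg j]
    simp only [Subgroup.coe_mul, Subgroup.coe_inv] at e
    calc (g i : Cfsg.Spor.Th)⁻¹ * g11 2 * g i
        = (g i : Cfsg.Spor.Th)⁻¹ * (g11 2 * ((g i : Cfsg.Spor.Th) * (g j : Cfsg.Spor.Th)⁻¹)) * g j := by group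
      _ = _ := by rw [← e]; group
  have h := stC.card_mul_index
  rw [hcard0] at h
  nlinarith

/-- The normal form in the stabiliser of `c`. -/
theorem stab_form {x : Cfsg.Spor.Th} (hx : x ∈ CA) (hc : x * g11 2 = g11 2 * x) :
    ∃ i < 1344, ∃ q < 512, x = wv g11 (qW q ++ stabW i) ∧ nine9 ⟨x, hx⟩ = stabPerm i ∧
      wv g11 (qW q) * g11 2 = g11 2 * wv g11 (qW q) := by
  haveI := finite_CA
  classical
  let ψ : ↥stC →* Perm (Fin 9) := nine9.comp stC.subtype
  have hker : 256 ≤ Nat.card ↥ψ.ker := by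
    refine le_trans (fix_many.trans (le_of_eq (countP_eq _ 512))) (Nat.card_le_card_of_injective
      (fun i => (⟨⟨el0 (qW i.1.1) (qW_side i.1.2), mem_stC.2 ?_⟩, ?_⟩ : ↥ψ.ker)) fun i j e => ?_)
    · have := eqS_eq i.2
      rw [wv_append, wv_append, wv_singleton] at this
      exact this
    · exact (mem_Q0_iff (x := el0 (qW i.1.1) (qW_side i.1.2))).1 (mem_Q0.2 ⟨i.1.1, i.1.2, rfl⟩)
    · exact Subtype.ext (Fin.ext (qW_inj psi_injective i.1.2 j.1.2
        (congrArg (fun v : ↥ψ.ker => ((v.1.1 : ↥CA) : Cfsg.Spor.Th)) e)))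
  have h := Subgroup.card_eq_card_quotient_mul_card_subgroup ψ.ker
  rw [Nat.card_congr (QuotientGroup.quotientKerEquivRange ψ).toEquiv] at h
  have hmem : ∀ i : Fin 1344, stabPerm i ∈ ψ.range := fun i =>
    ⟨⟨el0 _ (stab_side i.2), mem_stC.2 (stab_c i.2)⟩, nine9_el0 (stab_side i.2)⟩
  have hcover : Function.Surjective (fun i : Fin 1344 => (⟨stabPerm i, hmem i⟩ : ↥ψ.range)) := by
    have hinj : Function.Injective (fun i : Fin 1344 => (⟨stabPerm i, hmem i⟩ : ↥ψ.range)) :=
      fun i j e => Fin.ext (stabPerm_inj i.2 j.2 (congrArg Subtype.val e))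
    refine (hinj.bijective_of_nat_card_le ?_).2
    have := card_stC_le
    rw [Nat.card_fin]
    nlinarith
  obtain ⟨i, hi⟩ := hcover ⟨ψ ⟨⟨x, hx⟩, mem_stC.2 hc⟩, ⟨_, rfl⟩⟩
  have hi' : nine9 ⟨x, hx⟩ = stabPerm i := (congrArg Subtype.val hi).symm
  have hq : (((⟨x, hx⟩ : ↥CA) * (el0 _ (stab_side i.2))⁻¹ : ↥CA) : Cfsg.Spor.Th) ∈ Q0 := by
    rw [mem_Q0_iff]
    show nine9 _ = (1 : Perm (Fin 9))
    rw [map_mul, map_inv, hi', nine9_el0, mul_inv_eq_one]
    rfl
  obtain ⟨q, hq1, hqe⟩ := mem_Q0.1 hq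
  simp only [Subgroup.coe_mul, Subgroup.coe_inv, el0] at hqe
  refine ⟨i, i.2, q, hq1, ?_, hi', ?_⟩
  · rw [wv_append, ← hqe, inv_mul_cancel_right]
  · rw [← hqe]
    have h1 : Commute x (g11 2) := hc
    have h2 : Commute (wv g11 (stabW i)) (g11 2) := stab_c i.2
    exact (h1.mul_left h2.inv_left).eq

end

end Cfsg.Agent.ThRec
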