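import Cfsg.Agent.Lib.ThRec.LocalBase

/-!
An element centralising `s` and `t` and moving `a` to the image of `c`, and the absence of elements of order
five centralising `a` and `t`.
-/

set_option autoImplicit false
set_option maxRecDepth 100000
set_option maxHeartbeats 1000000
set_option Elab.async false
set_option linter.style.haveILetI false

namespace Cfsg.Agent.ThRec

open Cfsg.Agent.HN Cfsg.Agent.Th Cfsg.Agent.ThOut Equiv

noncomputable section

theorem card_stC : Nat.card ↥stC = 344064 := by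
  haveI := finite_CA
  refine le_antisymm card_stC_le ?_
  let f : Fin 1344 × {i : Fin 512 // eqS true (qW i ++ [2]) ([2] ++ qW i) = true} → ↥stC := fun p =>
    ⟨el0 (qW p.2.1) (qW_side p.2.1.2) * el0 _ (stab_side p.1.2), mem_stC.2 (by
      have h := eqS_eq p.2.2
      rw [wv_append, wv_append, wv_singleton] at h
      exact ((show Commute (wv g11 (qW p.2.1)) (g11 2) from h).mul_left
        (show Commute (wv g11 (stabW p.1)) (g11 2) from stab_c p.1.2)).eq)⟩
  have hf : Function.Injective f := by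
    intro p r e
    have e1 := congrArg Subtype.val e
    have hq : ∀ x : {i : Fin 512 // eqS true (qW i ++ [2]) ([2] ++ qW i) = true},
        nine9 (el0 (qW x.1) (qW_side x.1.2)) = 1 := fun x =>
      (mem_Q0_iff (x := el0 (qW x.1) (qW_side x.1.2))).1 (mem_Q0.2 ⟨x.1.1, x.1.2, rfl⟩)
    have e2 := congrArg nine9 e1
    simp only [f, map_mul, hq, one_mul, nine9_el0] at e2
    have hi : p.1 = r.1 := Fin.ext (stabPerm_inj p.1.2 r.1.2 e2)
    have e3 := congrArg Subtype.val e1
    simp only [f, Subgroup.coe_mul, el0, hi] at e3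
    exact Prod.ext hi (Subtype.ext (Fin.ext (qW_inj psi_injective p.2.1.2 r.2.1.2 (mul_right_cancel e3))))
  refine le_trans ?_ (Nat.card_le_card_of_injective f hf)
  rw [Nat.card_prod, Nat.card_fin, ← countP_eq (fun q => eqS true (qW q ++ [2]) ([2] ++ qW q)) 512]
  have := fix_many
  omega

theorem zpowers_sylow {H : Type*} [Group H] [Finite H] (hH : Nat.card H = 344064) {x : H} (h7 : x ^ 7 = 1)
    (h1 : x ≠ 1) : ∃ P : Sylow 7 H, (P : Subgroup H) = Subgroup.zpowers x := by
  haveI : Fact (Nat.Prime 7) := ⟨by norm_num⟩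
  have ho : orderOf x = 7 := orderOf_eq_prime h7 h1
  have hc : Nat.card ↥(Subgroup.zpowers x) = 7 ^ 1 := by rw [Nat.card_zpowers, ho, pow_one]
  obtain ⟨P, hP⟩ := (IsPGroup.of_card hc).exists_le_sylow
  refine ⟨P, (Subgroup.eq_of_le_of_card_ge hP ?_).symm⟩
  obtain ⟨n, hn⟩ := IsPGroup.iff_card.1 P.isPGroup'
  have hd : 7 ^ n ∣ 344064 := hn ▸ hH ▸ Subgroup.card_subgroup_dvd_card (P : Subgroup H)
  rw [hn, hc]
  refine Nat.pow_le_pow_right (by norm_num) ?_
  by_contra hc'
  exact absurd ((pow_dvd_pow 7 (show 2 ≤ n by omega)).trans hd) (by norm_num)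

theorem exp_table : ∀ k < 7, k ≠ 0 → ∃ e < 2, ∃ i < 3, 4 ^ i * k * 6 ^ e % 7 = 1 := by decide

theorem d8_powers : (d8W.all fun d => eqS true (powW d 4) []) = true := by decide +kernel

variable {G : Type*} [Group G] {φ : ↥CA →* G} {a : G} {Q : Subgroup G} {θ : ↥Q0 ≃* ↥Q} {g : G}

theorem imW_comm {u v : List ℕ} (h : eqS true (u ++ v) (v ++ u) = true) :
    imW φ u * imW φ v = imW φ v * imW φ u := by
  have := imW_eq (φ := φ) h
  rwa [imW_append, imW_append] at this

theorem imW_letter {l : ℕ} (h : l < 11) (h1 : l ≠ 1) : imW φ [l] = φ ⟨g11 l, letter_mem h h1⟩ := by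
  rw [imW_el (letter_side h h1)]
  exact congrArg φ (Subtype.ext (wv_singleton g11 l))

theorem T_conj (n i : ℕ) :
    imW φ [7] ^ i * imW φ [5] ^ n * (imW φ [7] ^ i)⁻¹ = imW φ [5] ^ (4 ^ i * n) := by
  have h1 : imW φ [7] * imW φ [5] * (imW φ [7])⁻¹ = imW φ [5] ^ 4 := by
    have h := imW_eq (φ := φ) (u := [7] ++ [5] ++ [8]) (v := powW [5] 4) (by decide +kernel)
    rwa [imW_append, imW_append, imW_pow, show imW φ [8] = (imW φ [7])⁻¹ from imW_winv [7]] at h
  induction i generalizing n with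
  | zero => simp
  | succ i ih =>
    have h2 : imW φ [7] * imW φ [5] ^ n * (imW φ [7])⁻¹ = imW φ [5] ^ (4 * n) := by
      rw [← conj_pow, h1, pow_mul]
    calc imW φ [7] ^ (i + 1) * imW φ [5] ^ n * (imW φ [7] ^ (i + 1))⁻¹
        = imW φ [7] ^ i * (imW φ [7] * imW φ [5] ^ n * (imW φ [7])⁻¹) * (imW φ [7] ^ i)⁻¹ := by
          rw [pow_succ]; group
      _ = _ := by rw [h2, ih, pow_succ]; congr 1; ring

section

variable (P : Duo a Q θ φ g)
include P

theorem Duo.exists_x : ∃ x : G, x * a * x⁻¹ = imW φ [2] ∧ x * imW φ [5] = imW φ [5] * x ∧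
    x * imW φ [7] = imW φ [7] * x := by
  haveI := finite_CA
  set C := imW φ [2] with hC
  set S := imW φ [5] with hS
  set T := imW φ [7] with hT
  set D := imW φ [3] with hD
  have hSa : S * a = a * S := P.im_comm rfl
  have hTa : T * a = a * T := P.im_comm rfl
  have hCa : C * a = a * C := P.im_comm rfl
  have hDa : D * a = a * D := P.im_comm rfl
  have hSC : S * C = C * S := imW_comm (by decide +kernel)
  have hTC : T * C = C * T := imW_comm (by decide +kernel)
  have hS7 : S ^ 7 = 1 := by rw [hS, ← imW_pow, imW_eq (v := []) (by decide +kernel), imW_nil]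
  have hS1 : S ≠ 1 := by
    intro e
    rw [← imW_nil (φ := φ)] at e
    exact absurd (eqS_of_im P.model.inj (u := [5]) (v := []) rfl rfl e) (by decide +kernel)
  have hmem : ∀ {y : G}, y * a = a * y → y * C = C * y → ∃ v : ↥stC, φ v.1 = y := by
    intro y hy hyC
    obtain ⟨v, rfl⟩ := P.pre hy
    refine ⟨⟨v, mem_stC.2 ?_⟩, rfl⟩
    rw [hC, imW_el (w := [2]) rfl, ← map_mul, ← map_mul] at hyC
    have e := congrArg Subtype.val (P.model.inj hyC)
    rw [Subgroup.coe_mul, Subgroup.coe_mul] at e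
    rw [← wv_singleton g11 2]
    exact e
  obtain ⟨s0, hs0⟩ := hmem hSa hSC
  obtain ⟨s1, hs1⟩ := hmem (y := g * S * g⁻¹)
    (by
      calc g * S * g⁻¹ * a = g * S * g⁻¹ * (g * C * g⁻¹) := by rw [P.gC]
        _ = g * (S * C) * g⁻¹ := by group
        _ = g * C * g⁻¹ * (g * S * g⁻¹) := by rw [hSC]; group
        _ = _ := by rw [P.gC])
    (by
      calc g * S * g⁻¹ * C = g * S * g⁻¹ * (g * a * g⁻¹) := by rw [P.gA]
        _ = g * (S * a) * g⁻¹ := by group
        _ = g * a * g⁻¹ * (g * S * g⁻¹) := by rw [hSa]; group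
        _ = _ := by rw [P.gA])
  have hφ7 : ∀ v : ↥stC, φ v.1 ^ 7 = 1 → v ^ 7 = 1 := fun v hv =>
    Subtype.ext (P.model.inj (by rw [SubgroupClass.coe_pow, map_pow, hv, OneMemClass.coe_one, map_one]))
  have h0 := hφ7 s0 (by rw [hs0, hS7])
  have h1 := hφ7 s1 (by rw [hs1, conj_pow, hS7, mul_one, mul_inv_cancel])
  have n0 : s0 ≠ 1 := fun e => hS1 (by rw [← hs0, e, OneMemClass.coe_one, map_one])
  have n1 : s1 ≠ 1 := fun e => hS1 (by
    calc S = g⁻¹ * (g * S * g⁻¹) * g := by group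
      _ = 1 := by rw [← hs1, e, OneMemClass.coe_one, map_one, mul_one, inv_mul_cancel])
  haveI : Fact (Nat.Prime 7) := ⟨by norm_num⟩
  obtain ⟨P0, hP0⟩ := zpowers_sylow card_stC h0 n0
  obtain ⟨P1, hP1⟩ := zpowers_sylow card_stC h1 n1
  obtain ⟨h, hh⟩ := MulAction.exists_smul_eq ↥stC P1 P0
  have hconj : h * s1 * h⁻¹ ∈ Subgroup.zpowers s0 := by
    rw [← hP0, ← hh, Sylow.coe_subgroup_smul]
    exact Subgroup.smul_mem_pointwise_smul s1 (MulAut.conj h) (P1 : Subgroup ↥stC)
      (hP1 ▸ Subgroup.mem_zpowers s1)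
  obtain ⟨k0, hk0⟩ := Submonoid.mem_powers_iff _ _ |>.1 (mem_powers_iff_mem_zpowers.2 hconj)
  set k := k0 % 7 with hkdef
  have hk : φ h.1 * (g * S * g⁻¹) * (φ h.1)⁻¹ = S ^ k := by
    have e := congrArg (fun v : ↥stC => φ v.1) hk0
    simp only [SubgroupClass.coe_pow, Subgroup.coe_mul, Subgroup.coe_inv, map_pow, map_mul, map_inv,
      hs0, hs1] at e
    rw [← e, hkdef]
    conv_lhs => rw [← Nat.mod_add_div k0 7, pow_add, pow_mul, hS7, one_pow, mul_one]
  have hk_ne : k ≠ 0 := by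
    intro e
    rw [e, pow_zero, mul_inv_eq_one] at hk
    have e' : g * S * g⁻¹ = 1 := mul_left_cancel (a := φ h.1) (hk.trans (mul_one _).symm)
    exact hS1 (by
      calc S = g⁻¹ * (g * S * g⁻¹) * g := by group
        _ = 1 := by rw [e', mul_one, inv_mul_cancel])
  obtain ⟨e, -, i, -, hei⟩ := exp_table k (Nat.mod_lt _ (by norm_num)) hk_ne
  have hhC : φ h.1 * C = C * φ h.1 := by
    rw [hC, imW_el (w := [2]) rfl, ← map_mul, ← map_mul]
    refine congrArg φ (Subtype.ext ?_)
    show ((h.1 : ↥CA) : Cfsg.Spor.Th) * wv g11 [2] = wv g11 [2] * ((h.1 : ↥CA) : Cfsg.Spor.Th)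
    rw [wv_singleton]
    exact mem_stC.1 h.2
  set x1 := T ^ i * φ h.1 * g * D ^ e with hx1
  have hx1a : x1 * a * x1⁻¹ = C := by
    have hDe : D ^ e * a = a * D ^ e := ((show Commute D a from hDa).pow_left e).eq
    have hTi : T ^ i * C = C * T ^ i := ((show Commute T C from hTC).pow_left i).eq
    calc x1 * a * x1⁻¹ = T ^ i * φ h.1 * g * (D ^ e * a) * (D ^ e)⁻¹ * g⁻¹ * (φ h.1)⁻¹ * (T ^ i)⁻¹ := by
          rw [hx1]; group
      _ = T ^ i * (φ h.1 * (g * a * g⁻¹)) * (φ h.1)⁻¹ * (T ^ i)⁻¹ := by rw [hDe]; group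
      _ = T ^ i * C * (T ^ i)⁻¹ := by rw [P.gA, hhC]; group
      _ = C := by rw [hTi, mul_inv_cancel_right]
  have hDS : D ^ e * S * (D ^ e)⁻¹ = S ^ 6 ^ e := by
    have h6 : D * S * D⁻¹ = S ^ 6 := by
      have h := imW_eq (φ := φ) (u := [3] ++ [5] ++ winv iv11 [3]) (v := powW [5] 6) (by decide +kernel)
      rwa [imW_append, imW_append, imW_pow, imW_winv] at h
    clear_value x1
    clear hx1 hx1a hei
    induction e with
    | zero => simp
    | succ m ih =>
      calc D ^ (m + 1) * S * (D ^ (m + 1))⁻¹ = D * (D ^ m * S * (D ^ m)⁻¹) * D⁻¹ := by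
            rw [pow_succ']; group
        _ = _ := by rw [ih, ← conj_pow, h6, ← pow_mul, pow_succ']
  have hx1S : x1 * S = S * x1 := by
    have e1 : x1 * S * x1⁻¹ = S := by
      calc x1 * S * x1⁻¹ = T ^ i * (φ h.1 * (g * (D ^ e * S * (D ^ e)⁻¹) * g⁻¹) * (φ h.1)⁻¹) * (T ^ i)⁻¹ := by
            rw [hx1]; group
        _ = T ^ i * (φ h.1 * (g * S * g⁻¹) * (φ h.1)⁻¹) ^ 6 ^ e * (T ^ i)⁻¹ := by
            rw [hDS, ← conj_pow, ← conj_pow]
        _ = S ^ (4 ^ i * (k * 6 ^ e)) := by rw [hk, ← pow_mul, T_conj]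
        _ = S := by
          rw [← Nat.mod_add_div (4 ^ i * (k * 6 ^ e)) 7, ← mul_assoc (4 ^ i), hei, pow_add, pow_mul, hS7,
            one_pow, mul_one, pow_one]
    exact mul_inv_eq_iff_eq_mul.1 e1
  clear_value x1
  -- the image of `t`
  set T' := x1 * T * x1⁻¹ with hT'
  have hS' : x1 * S * x1⁻¹ = S := mul_inv_eq_iff_eq_mul.2 hx1S
  have hT'C : T' * C = C * T' := by
    rw [hT', ← hx1a, conj_mul, conj_mul, hTa]
  obtain ⟨p, hp⟩ := P.pre (y := x1⁻¹ * a * x1) (by
    have h : x1⁻¹ * C * x1 = a := by rw [← hx1a]; group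
    calc x1⁻¹ * a * x1 * a = x1⁻¹ * (a * C) * x1 := by nth_rw 2 [← h]; group
      _ = x1⁻¹ * (C * a) * x1 := by rw [hCa]
      _ = x1⁻¹ * C * x1 * (x1⁻¹ * a * x1) := by group
      _ = _ := by rw [h])
  have hpS : (p : Cfsg.Spor.Th) * g11 5 = g11 5 * p := by
    have e1 : φ p * S = S * φ p := by
      have hS'' : x1⁻¹ * S * x1 = S := by
        calc x1⁻¹ * S * x1 = x1⁻¹ * (S * x1) := by group
          _ = S := by rw [← hx1S, inv_mul_cancel_left]
      calc φ p * S = x1⁻¹ * a * x1 * (x1⁻¹ * S * x1) := by rw [hp, hS'']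
        _ = x1⁻¹ * (a * S) * x1 := by group
        _ = x1⁻¹ * (S * a) * x1 := by rw [hSa]
        _ = x1⁻¹ * S * x1 * (x1⁻¹ * a * x1) := by group
        _ = _ := by rw [hS'', hp]
    rw [hS, imW_letter (by norm_num) (by norm_num), ← map_mul, ← map_mul] at e1
    exact congrArg Subtype.val (P.model.inj e1)
  obtain ⟨n, -, d, hd, hpd⟩ := cent_s p.2 hpS
  have hd' := List.all_eq_true.1 d8_facts.1 d hd
  simp only [Bool.and_eq_true] at hd'
  have hds : okSide true d = true := by
    have := (eqS_side hd'.1).1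
    simp only [okSide, cond_true, List.all_append, Bool.and_eq_true] at this ⊢
    exact this.1
  have hp' : φ p = S ^ n * imW φ d := by
    rw [hS, imW_letter (by norm_num) (by norm_num), imW_el hds, ← map_pow, ← map_mul]
    exact congrArg φ (Subtype.ext hpd)
  have cdS : imW φ d * S = S * imW φ d := imW_comm hd'.1
  have cdT : imW φ d * T = T * imW φ d := imW_comm hd'.2
  have hp7 : φ p = imW φ d ^ 7 := by
    have h2 : φ p * φ p = 1 := by
      rw [hp]
      calc x1⁻¹ * a * x1 * (x1⁻¹ * a * x1) = x1⁻¹ * (a * a) * x1 := by group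
        _ = 1 := by rw [P.setup.a_sq, mul_one, inv_mul_cancel]
    calc φ p = φ p ^ 7 := by
          rw [pow_succ, show φ p ^ 6 = (φ p * φ p) ^ 3 by rw [← pow_two, ← pow_mul], h2, one_pow, one_mul]
      _ = (S ^ n) ^ 7 * imW φ d ^ 7 := by
          rw [hp', ((show Commute (imW φ d) S from cdS).pow_right n).symm.mul_pow]
      _ = _ := by rw [← pow_mul, mul_comm, pow_mul, hS7, one_pow, one_mul]
  have hT'a : T' * a = a * T' := by
    have hpT : φ p * T = T * φ p := by rw [hp7]; exact ((show Commute _ T from cdT).pow_left 7).eq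
    have ea : a = x1 * φ p * x1⁻¹ := by rw [hp]; group
    rw [hT', ea, conj_mul, conj_mul, hpT]
  obtain ⟨t', ht'⟩ := P.pre hT'a
  have hT'S : T' * S * T'⁻¹ = S ^ 4 := by
    calc T' * S * T'⁻¹ = x1 * T * (x1⁻¹ * (S * x1)) * T⁻¹ * x1⁻¹ := by rw [hT']; group
      _ = x1 * (T * S * T⁻¹) * x1⁻¹ := by rw [← hx1S]; group
      _ = x1 * S ^ 4 * x1⁻¹ := by
        have := T_conj (φ := φ) 1 1
        simp only [pow_one, mul_one] at this
        rw [this]
      _ = S ^ 4 := by rw [← conj_pow, hS']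
  obtain ⟨m, hm⟩ := P.pre (y := T⁻¹ * T') (by
    calc T⁻¹ * T' * a = T⁻¹ * (a * T') := by rw [← hT'a]; group
      _ = _ := by
        rw [← mul_assoc, show T⁻¹ * a = a * T⁻¹ from ((show Commute T a from hTa).inv_left).eq, mul_assoc])
  have hmS : (m : Cfsg.Spor.Th) * g11 5 = g11 5 * m := by
    have h4 : T * S * T⁻¹ = S ^ 4 := by
      have := T_conj (φ := φ) 1 1
      simpa using this
    have e1 : φ m * S = S * φ m := by
      rw [hm]
      calc T⁻¹ * T' * S = T⁻¹ * (T' * S * T'⁻¹) * T' := by group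
        _ = T⁻¹ * (T * S * T⁻¹) * T' := by rw [hT'S, h4]
        _ = _ := by group
    rw [hS, imW_letter (by norm_num) (by norm_num), ← map_mul, ← map_mul] at e1
    exact congrArg Subtype.val (P.model.inj e1)
  obtain ⟨k2, hk2, d2, hd2, hmd⟩ := cent_s m.2 hmS
  have hd2' := List.all_eq_true.1 d8_facts.1 d2 hd2
  simp only [Bool.and_eq_true] at hd2'
  have hd2s : okSide true d2 = true := by
    have := (eqS_side hd2'.1).1
    simp only [okSide, cond_true, List.all_append, Bool.and_eq_true] at this ⊢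
    exact this.1
  have hT'd : T' = T * S ^ k2 * imW φ d2 := by
    calc T' = T * φ m := by rw [hm]; group
      _ = T * (S ^ k2 * imW φ d2) := by
        rw [hS, imW_letter (l := 5) (by norm_num) (by norm_num), imW_el hd2s, ← map_pow, ← map_mul]
        exact congrArg (T * φ ·) (Subtype.ext hmd)
      _ = _ := by group
  obtain ⟨j, -, hj⟩ := List.any_eq_true.1 (List.all_eq_true.1 d8_facts.2 k2 (List.mem_range.2 hk2))
  have hrep : ∀ (l n : ℕ), imW φ (List.replicate n l) = imW φ [l] ^ n := fun l n => by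
    induction n with
    | zero => simp [imW_nil]
    | succ n ih => rw [List.replicate_succ, imW_cons, ih, pow_succ']
  have hTk : T * S ^ k2 = S ^ j * T * (S ^ j)⁻¹ := by
    have h := imW_eq (φ := φ) hj
    rw [imW_append, imW_append, imW_append, hrep, hrep, hrep,
      show imW φ [6] = (imW φ [5])⁻¹ from imW_winv [5], inv_pow] at h
    exact h
  have hT3 : T ^ 3 = 1 := by rw [hT, ← imW_pow, imW_eq (v := []) (by decide +kernel), imW_nil]
  have hd3 : imW φ d2 ^ 3 = 1 := by
    have h3 : T' ^ 3 = 1 := by rw [hT', conj_pow, hT3, mul_one, mul_inv_cancel]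
    have hcm : Commute (T * S ^ k2) (imW φ d2) :=
      ((show Commute (imW φ d2) T from imW_comm hd2'.2).mul_right
        ((show Commute (imW φ d2) S from imW_comm hd2'.1).pow_right k2)).symm
    rw [hT'd, hcm.mul_pow, hTk, conj_pow, hT3, mul_one, mul_inv_cancel, one_mul] at h3
    exact h3
  have hd1 : imW φ d2 = 1 := by
    have h4 : imW φ d2 ^ 4 = 1 := by
      rw [← imW_pow, imW_eq (v := []) (List.all_eq_true.1 d8_powers d2 hd2), imW_nil]
    rwa [pow_succ, hd3, one_mul] at h4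
  refine ⟨(S ^ j)⁻¹ * x1, ?_, ?_, ?_⟩
  · calc (S ^ j)⁻¹ * x1 * a * ((S ^ j)⁻¹ * x1)⁻¹ = (S ^ j)⁻¹ * (x1 * a * x1⁻¹) * S ^ j := by group
      _ = C := by rw [hx1a, mul_assoc, ← ((show Commute S C from hSC).pow_left j).eq, inv_mul_cancel_left]
  · exact (((Commute.refl S).pow_left j).inv_left.mul_left (show Commute x1 S from hx1S)).eq
  · have e1 : (S ^ j)⁻¹ * x1 * T * ((S ^ j)⁻¹ * x1)⁻¹ = T := by
      calc (S ^ j)⁻¹ * x1 * T * ((S ^ j)⁻¹ * x1)⁻¹ = (S ^ j)⁻¹ * T' * S ^ j := by rw [hT']; group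
        _ = T := by rw [hT'd, hd1, mul_one, hTk]; group
    exact mul_inv_eq_iff_eq_mul.1 e1

/-- No element of order five centralises `a` and the image of `t`. -/
theorem Duo.five_false {y : G} (h5 : orderOf y = 5) (ha : y * a = a * y)
    (ht : y * imW φ [7] = imW φ [7] * y) : False := by
  obtain ⟨x, rfl⟩ := P.pre ha
  rw [imW_letter (l := 7) (by norm_num) (by norm_num), ← map_mul, ← map_mul] at ht
  have hxt := P.model.inj ht
  have hx5 : orderOf x = 5 := by rwa [orderOf_injective φ P.model.inj] at h5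
  set t7 : ↥CA := ⟨g11 7, letter_mem (by norm_num) (by norm_num)⟩
  have hτ : nine9 t7 = q9 7 := nine9_q9 (by norm_num) (by norm_num)
  have hchk : decide (q9 7 ^ 3 = 1 ∧ (q9 7).support.card = 6) = true := by decide +kernel
  obtain ⟨h3, hsupp⟩ := of_decide_eq_true hchk
  have hne : q9 7 ≠ 1 := by
    intro e
    rw [e, Perm.support_one, Finset.card_empty] at hsupp
    omega
  obtain ⟨m, hm⟩ := Perm.cycleType_prime_order (σ := q9 7)
    (by rw [orderOf_eq_prime h3 hne]; norm_num)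
  rw [orderOf_eq_prime h3 hne] at hm
  have hm2 : m + 1 = 2 := by
    have := Perm.sum_cycleType (q9 7)
    rw [hm, hsupp, Multiset.sum_replicate, smul_eq_mul] at this
    omega
  rw [hm2] at hm
  have hcard : Nat.card (Subgroup.centralizer ({q9 7} : Set (Perm (Fin 9)))) = 108 := by
    rw [Perm.nat_card_centralizer, hm, Fintype.card_fin, Multiset.sum_replicate, Multiset.prod_replicate,
      Multiset.toFinset_replicate, if_neg (by norm_num), Finset.prod_singleton, Multiset.count_replicate_self]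
    decide
  have hσ : nine9 x = 1 := by
    by_contra hne'
    have ho : orderOf (nine9 x) = 5 := by
      have hd : orderOf (nine9 x) ∣ 5 := hx5 ▸ orderOf_map_dvd nine9 x
      exact ((Nat.dvd_prime (by norm_num)).1 hd).resolve_left fun h => hne' (orderOf_eq_one_iff.1 h)
    have hmem : nine9 x ∈ Subgroup.centralizer ({q9 7} : Set (Perm (Fin 9))) := by
      rw [Subgroup.mem_centralizer_singleton_iff, ← hτ, ← map_mul, ← map_mul, hxt]
    have hd : orderOf (nine9 x) ∣ 108 := by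
      rw [← hcard, ← Subgroup.orderOf_mk (nine9 x) hmem]
      exact orderOf_dvd_natCard _
    rw [ho] at hd
    omega
  have h4 : x ^ 4 = 1 := by
    rcases Q0_sq ((mem_Q0_iff (x := x)).2 hσ) with e | e
    · rw [show x ^ 4 = (x * x) ^ 2 by rw [← pow_two, ← pow_mul], show x * x = 1 from Subtype.ext e, one_pow]
    · refine Subtype.ext ?_
      rw [SubgroupClass.coe_pow, show (x : Cfsg.Spor.Th) ^ 4 = (x : Cfsg.Spor.Th) * x * ((x : Cfsg.Spor.Th) * x) by
        simp [pow_succ, mul_assoc], e, sq_one 0 (by norm_num)]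
      rfl
  have h5' := orderOf_dvd_of_pow_eq_one h4
  rw [hx5] at h5'
  omega

end

end

end Cfsg.Agent.ThRec
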