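import Cfsg.Agent.Lib.ThRec.LocalModel

/-!
The second extraspecial subgroup inside the model, identified by conditions on words, and the finite checks
of the local argument.
-/

set_option autoImplicit false
set_option maxRecDepth 100000
set_option maxHeartbeats 1000000
set_option Elab.async false
set_option linter.style.haveILetI false

namespace Cfsg.Agent.ThRec

open Cfsg.Agent.HN Cfsg.Agent.Th Cfsg.Agent.ThOut Equiv

noncomputable section

/-- The indices of the eight permutations. -/
def smallI (j : ℕ) : ℕ := ([52, 280, 410, 513, 731, 886, 1157, 1343] : List ℕ).getD j 1343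

/-- The word of a candidate. -/
def nW (j q : ℕ) : List ℕ := bif Nat.beq j 7 then qW q else qW q ++ stabW (smallI j)

/-- The conditions on a candidate. -/
def inN (j q : ℕ) : Bool := bif Nat.beq j 7 then eCond (qW q) else nCond (qW q ++ stabW (smallI j))

/-- The properties of the second extraspecial subgroup used below. -/
structure SecondQ (N : Subgroup Cfsg.Spor.Th) : Prop where
  le : ∀ z ∈ N, z ∈ CA ∧ z * g11 2 = g11 2 * z
  sq : ∀ z ∈ N, z * z = 1 ∨ z * z = g11 2
  comm : ∀ z ∈ N, ∀ z' ∈ N, z * z' = z' * z ∨ z * z' = z' * z * g11 2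
  inQ : ∀ z ∈ N, ∀ z' ∈ N, z ∈ Q0 → z' ∈ Q0 → z * z' = z' * z ∧ z * z = 1
  norm : ∀ δ ∈ CA, δ * g11 2 = g11 2 * δ → ∀ z ∈ N, δ⁻¹ * z * δ ∈ N
  card : 256 ≤ Nat.card ↥N

variable {N : Subgroup Cfsg.Spor.Th}

theorem smallI_eq : ∀ j < 8, smallI j < 1344 := by decide

theorem conj_word {z d : List ℕ} (hd : okSide true d = true) :
    wv g11 (cjW d z) = (wv g11 d)⁻¹ * wv g11 z * wv g11 d := by
  rw [cjW, wv_append, wv_append, wv_winv11]

theorem conj_lists_ok : ((conjW ++ conjE ++ [[4], [5], [7], [9]]).all fun d =>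
      okSide true (winv iv11 d) && eqS true (d ++ [2]) ([2] ++ d)) = true ∧
    (eGens.all fun y => okSide true y && ((List.range 512).any fun q => eqS true y (qW q) && eCond (qW q))) = true := by
  decide +kernel

theorem conj_list_facts {d : List ℕ} (hd : d ∈ conjW ++ conjE ++ [[4], [5], [7], [9]]) :
    okSide true d = true ∧ okSide true (winv iv11 d) = true ∧ wv g11 d * g11 2 = g11 2 * wv g11 d := by
  have h := List.all_eq_true.1 conj_lists_ok.1 d hd
  simp only [Bool.and_eq_true] at h
  have he := eqS_eq h.2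
  rw [wv_append, wv_append, wv_singleton] at he
  have hs := (eqS_side h.2).2
  simp only [okSide, cond_true, List.all_append, Bool.and_eq_true] at hs ⊢
  exact ⟨hs.2, h.1, he⟩

theorem SecondQ.conj_mem (S : SecondQ N) {z : List ℕ} (hz : wv g11 z ∈ N) {d : List ℕ}
    (hd : d ∈ conjW ++ conjE ++ [[4], [5], [7], [9]]) : wv g11 (cjW d z) ∈ N := by
  obtain ⟨h1, -, h3⟩ := conj_list_facts hd
  rw [conj_word h1]
  exact S.norm _ (word_mem h1) h3 _ hz

theorem SecondQ.eq_comm (S : SecondQ N) {z y : List ℕ} (hzs : okSide true z = true) (hys : okSide true y = true)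
    (hz : wv g11 z ∈ N) (hy : wv g11 y ∈ N) :
    (eqS true (z ++ y) (y ++ z) || eqS true (z ++ y) (y ++ z ++ [2])) = true := by
  have hc : okSide true [2] = true := rfl
  rw [Bool.or_eq_true]
  refine (S.comm _ hz _ hy).imp (fun e => eqS_true (okSide_append hzs hys) (okSide_append hys hzs) ?_)
    fun e => eqS_true (okSide_append hzs hys) (okSide_append (okSide_append hys hzs) hc) ?_
  · rw [wv_append, wv_append]; exact e
  · rw [wv_append, wv_append, wv_append, wv_singleton]; exact e

theorem SecondQ.head_true (S : SecondQ N) {z : List ℕ} (hzs : okSide true z = true) (hz : wv g11 z ∈ N) :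
    eqS true (z ++ [2]) ([2] ++ z) = true ∧ (eqS true (z ++ z) [] || eqS true (z ++ z) [2]) = true := by
  refine ⟨eqS_true (okSide_append hzs rfl) (okSide_append rfl hzs) ?_, ?_⟩
  · rw [wv_append, wv_append, wv_singleton]; exact (S.le _ hz).2
  · rw [Bool.or_eq_true]
    refine (S.sq _ hz).imp (fun e => eqS_true (okSide_append hzs hzs) rfl ?_)
      fun e => eqS_true (okSide_append hzs hzs) rfl ?_
    · rw [wv_append, wv_nil]; exact e
    · rw [wv_append, wv_singleton]; exact e

theorem SecondQ.eCond_true (S : SecondQ N) {q : ℕ} (hq : q < 512) (hz : wv g11 (qW q) ∈ N) :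
    eCond (qW q) = true := by
  have hzs := qW_side hq
  have hQ : wv g11 (qW q) ∈ Q0 := mem_Q0.2 ⟨q, hq, rfl⟩
  simp only [eCond, Bool.and_eq_true, List.all_eq_true]
  refine ⟨⟨(S.head_true hzs hz).1, eqS_true (okSide_append hzs hzs) rfl ?_⟩, fun d hd => ?_⟩
  · rw [wv_append, wv_nil]; exact (S.inQ _ hz _ hz hQ hQ).2
  · have hd' : d ∈ conjW ++ conjE ++ [[4], [5], [7], [9]] :=
      List.mem_append_left _ (List.mem_append_right _ hd)
    obtain ⟨h1, h2, -⟩ := conj_list_facts hd'
    have hcs := cjW_side hzs h1 h2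
    have hcQ : wv g11 (cjW d (qW q)) ∈ Q0 := by
      rw [conj_word h1]
      have h := conj_mem_Q0 (inv_mem (word_mem h1)) hQ
      rwa [inv_inv] at h
    refine eqS_true (okSide_append hzs hcs) (okSide_append hcs hzs) ?_
    rw [wv_append, wv_append]
    exact (S.inQ _ hz _ (S.conj_mem hz hd') hQ hcQ).1

theorem eq9_true {u v : List ℕ} (hu : okSide true u = true) (hv : okSide true v = true)
    (e : wv p9 u = wv p9 v) : eq9 u v = true := by
  simp only [eq9, Bool.and_eq_true]
  refine ⟨⟨?_, ?_⟩, ?_⟩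
  · simpa [letOK, Nat.blt_eq, show nine.k = 11 from rfl] using side_lt hu
  · simpa [letOK, Nat.blt_eq, show nine.k = 11 from rfl] using side_lt hv
  · have h : ∀ q < 9, Nat.beq (nine.actW u q) (nine.actW v q) = true := fun q hq => by
      rw [actW_congr (side_lt hu) (side_lt hv) e ⟨q, hq⟩]
      exact Nat.beq_refl _
    have key : ∀ n ≤ 9, allLo (fun q => Nat.beq (nine.actW u q) (nine.actW v q)) n = true := by
      intro n
      induction n with
      | zero => intro _; rfl
      | succ m ih =>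
        intro hm
        show Bool.rec false _ (Nat.beq (nine.actW u m) (nine.actW v m)) = true
        rw [h m (by omega)]
        exact ih (by omega)
    exact key 9 le_rfl

theorem nine_of_Q0 {w : List ℕ} (hw : okSide true w = true) (h : wv g11 w ∈ Q0) : wv p9 w = 1 :=
  (toNine_mk hC0 hcard0 hw).symm.trans (mem_Q0_iff.1 (show ((el0 w hw : ↥CA) : Cfsg.Spor.Th) ∈ Q0 from h))

/-- The image of an element of the subgroup is one of eight permutations. -/
theorem SecondQ.small (S : SecondQ N) {z : Cfsg.Spor.Th} (hz : z ∈ N) :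
    ∃ j < 8, ∃ q < 512, z = wv g11 (nW j q) ∧ nine9 ⟨z, (S.le z hz).1⟩ = stabPerm (smallI j) := by
  obtain ⟨i, hi, q, hq, e, hn, -⟩ := stab_form (S.le z hz).1 (S.le z hz).2
  have hzs : okSide true (qW q ++ stabW i) = true := okSide_append (qW_side hq) (stab_side hi)
  have hqn : wv p9 (qW q) = 1 := nine_of_Q0 (qW_side hq) (mem_Q0.2 ⟨q, hq, rfl⟩)
  have himg : wv p9 (qW q ++ stabW i) = wv p9 (stabW i) := by rw [wv_append, hqn, one_mul]
  have hc2 : wv p9 [2] = 1 := nine_of_Q0 (w := [2]) rfl (by rw [wv_singleton]; exact c0_mem_Q0)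
  rw [e] at hz
  have key : ∀ {u v : List ℕ}, okSide true u = true → okSide true v = true →
      (eqS true u v || eqS true u (v ++ [2])) = true → wv p9 u = wv p9 v := by
    intro u v hu hv h
    rw [Bool.or_eq_true] at h
    rcases h with h | h
    · exact p9_congr hC0 hcard0 hu hv (eqS_eq h)
    · rw [p9_congr hC0 hcard0 hu (okSide_append hv (rfl : okSide true [2] = true)) (eqS_eq h), wv_append, hc2,
        mul_one]
  have h1 : eq9 (stabW i ++ stabW i) [] = true := by
    refine eq9_true (okSide_append (stab_side hi) (stab_side hi)) rfl ?_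
    have := key (okSide_append hzs hzs) (v := []) rfl (S.head_true hzs hz).2
    rwa [wv_append, himg, ← wv_append] at this
  have h2 : (([[4], [5], [7], [9]] : List (List ℕ)).all fun d =>
      eq9 (stabW i ++ cjW d (stabW i)) (cjW d (stabW i) ++ stabW i)) = true := by
    refine List.all_eq_true.2 fun d hd => ?_
    have hd' : d ∈ conjW ++ conjE ++ [[4], [5], [7], [9]] := List.mem_append_right _ hd
    obtain ⟨g1, g2, -⟩ := conj_list_facts hd'
    have hcs := cjW_side hzs g1 g2
    have hcs' := cjW_side (stab_side hi) g1 g2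
    refine eq9_true (okSide_append (stab_side hi) hcs') (okSide_append hcs' (stab_side hi)) ?_
    have := key (okSide_append hzs hcs) (v := cjW d (qW q ++ stabW i) ++ (qW q ++ stabW i))
      (okSide_append hcs hzs) (S.eq_comm hzs hcs hz (S.conj_mem hz hd'))
    simp only [cjW, wv_append, hqn, one_mul] at this ⊢
    exact this
  have h := allLo_spec small_ok hi
  rw [h1, h2] at h
  simp only [Bool.not_true, Bool.false_or, List.any_eq_true, Nat.beq_eq] at h
  obtain ⟨m, hm, rfl⟩ := h
  have hj : ∀ m ∈ Stab.small, ∃ j < 8, smallI j = m := by decide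
  obtain ⟨j, hj8, rfl⟩ := hj i hm
  rcases eq_or_ne j 7 with rfl | hj7
  · have hone : wv p9 (stabW 1343) = 1 := (eq9_eq small_id).trans (wv_nil p9)
    have hzQ : z ∈ Q0 := (mem_Q0_iff (x := ⟨z, _⟩)).2 (hn.trans hone)
    obtain ⟨q', hq', e'⟩ := mem_Q0.1 hzQ
    exact ⟨7, by norm_num, q', hq', e', hn⟩
  · refine ⟨j, hj8, q, hq, ?_, hn⟩
    rw [e, nW, show Nat.beq j 7 = false from Bool.eq_false_iff.2 fun h => hj7 (Nat.eq_of_beq_eq_true h),
      cond_false]

theorem SecondQ.finite (S : SecondQ N) : Finite ↥N := Nat.finite_of_card_ne_zero (by have := S.card; omega)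

/-- The intersection with the normal subgroup: all candidates. -/
theorem SecondQ.mem_e (S : SecondQ N) {q : ℕ} (hq : q < 512) (h : eCond (qW q) = true) :
    wv g11 (qW q) ∈ N := by
  classical
  haveI := S.finite
  let ψ : ↥N →* Perm (Fin 9) := nine9.comp (Subgroup.inclusion fun z hz => (S.le z hz).1)
  have hr : Nat.card ↥ψ.range ≤ 8 := by
    have hsub : ∀ σ : ↥ψ.range, ∃ j : Fin 8, (σ : Perm (Fin 9)) = stabPerm (smallI j) := fun σ => by
      obtain ⟨⟨z, hz⟩, e⟩ := σ.2
      obtain ⟨j, hj, -, -, -, hn⟩ := S.small hz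
      exact ⟨⟨j, hj⟩, e.symm.trans hn⟩
    choose f hf using hsub
    have := Nat.card_le_card_of_injective f fun σ τ e => Subtype.ext ((hf σ).trans (e ▸ (hf τ).symm))
    rwa [Nat.card_fin] at this
  have hker : ∀ v : ↥ψ.ker, ∃ i : {i : Fin 512 // eCond (qW i) = true}, (v.1 : Cfsg.Spor.Th) = wv g11 (qW i.1) := by
    intro v
    have hv : (v.1 : Cfsg.Spor.Th) ∈ Q0 := (mem_Q0_iff (x := ⟨_, (S.le _ v.1.2).1⟩)).2 v.2
    obtain ⟨i, hi, e⟩ := mem_Q0.1 hv
    exact ⟨⟨⟨i, hi⟩, S.eCond_true hi (e ▸ v.1.2)⟩, e⟩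
  choose g hg using hker
  have hcount : Nat.card {i : Fin 512 // eCond (qW i) = true} ≤ 32 :=
    (countP_eq (fun q => eCond (qW q)) 512).symm.le.trans e_count
  have hginj : Function.Injective g := fun v w e => Subtype.ext (Subtype.ext (by rw [hg v, hg w, e]))
  have hN := Subgroup.card_eq_card_quotient_mul_card_subgroup ψ.ker
  rw [Nat.card_congr (QuotientGroup.quotientKerEquivRange ψ).toEquiv] at hN
  have hbij := hginj.bijective_of_nat_card_le (by have := S.card; nlinarith)
  obtain ⟨v, hv⟩ := hbij.2 ⟨⟨q, hq⟩, h⟩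
  have := hg v
  rw [hv] at this
  exact this ▸ v.1.2

theorem SecondQ.eGens_mem (S : SecondQ N) {y : List ℕ} (hy : y ∈ eGens) :
    okSide true y = true ∧ wv g11 y ∈ N := by
  have h := List.all_eq_true.1 conj_lists_ok.2 y hy
  simp only [Bool.and_eq_true, List.any_eq_true, List.mem_range] at h
  obtain ⟨h1, q, hq, e, he⟩ := h
  exact ⟨h1, eqS_eq e ▸ S.mem_e hq he⟩

theorem nW_side {j q : ℕ} (hj : j < 8) (hq : q < 512) : okSide true (nW j q) = true := by
  unfold nW
  cases Nat.beq j 7
  · exact okSide_append (qW_side hq) (stab_side (smallI_eq j hj))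
  · exact qW_side hq

/-- The conditions hold on the subgroup. -/
theorem SecondQ.cover (S : SecondQ N) {z : Cfsg.Spor.Th} (hz : z ∈ N) :
    ∃ j < 8, ∃ q < 512, z = wv g11 (nW j q) ∧ inN j q = true := by
  obtain ⟨j, hj, q, hq, e, -⟩ := S.small hz
  refine ⟨j, hj, q, hq, e, ?_⟩
  subst e
  have hzs := nW_side hj hq
  revert hz hzs
  unfold nW inN
  cases Nat.beq j 7
  · simp only [cond_false]
    intro hz hzs
    simp only [nCond, Bool.and_eq_true, List.all_eq_true]
    refine ⟨⟨⟨(S.head_true hzs hz).1, (S.head_true hzs hz).2⟩, fun y hy => ?_⟩, fun d hd => ?_⟩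
    · exact S.eq_comm hzs (S.eGens_mem hy).1 hz (S.eGens_mem hy).2
    · have hd' : d ∈ conjW ++ conjE ++ [[4], [5], [7], [9]] :=
        List.mem_append_left _ (List.mem_append_left _ hd)
      obtain ⟨g1, g2, -⟩ := conj_list_facts hd'
      exact S.eq_comm hzs (cjW_side hzs g1 g2) hz (S.conj_mem hz hd')
  · simp only [cond_true]
    intro hz _
    exact S.eCond_true hq hz

/-- **The candidates are exactly the subgroup.** -/
theorem SecondQ.mem (S : SecondQ N) {j q : ℕ} (hj : j < 8) (hq : q < 512) (h : inN j q = true) :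
    wv g11 (nW j q) ∈ N := by
  classical
  haveI := S.finite
  have hfib : ∀ j : Fin 8, Nat.card {i : Fin 512 // inN j i = true} ≤ 32 := by
    intro j
    refine (countP_eq (fun q => inN j q) 512).symm.le.trans ?_
    fin_cases j
    exacts [n_count52, n_count280, n_count410, n_count513, n_count731, n_count886, n_count1157, e_count]
  have hsum : Nat.card (Σ j : Fin 8, {i : Fin 512 // inN j i = true}) ≤ 256 := by
    rw [Nat.card_sigma]
    exact (Finset.sum_le_sum fun j _ => hfib j).trans (by simp)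
  have key : ∀ v : ↥N, ∃ p : (Σ j : Fin 8, {i : Fin 512 // inN j i = true}),
      (v : Cfsg.Spor.Th) = wv g11 (nW p.1 p.2.1) := fun v => by
    obtain ⟨j, hj, q, hq, e, h⟩ := S.cover v.2
    exact ⟨⟨⟨j, hj⟩, ⟨⟨q, hq⟩, h⟩⟩, e⟩
  choose f hf using key
  have hinj : Function.Injective f := fun v w e => Subtype.ext (by rw [hf v, hf w, e])
  obtain ⟨v, hv⟩ := (hinj.bijective_of_nat_card_le (hsum.trans S.card)).2 ⟨⟨j, hj⟩, ⟨⟨q, hq⟩, h⟩⟩
  have := hf v
  rw [hv] at this
  exact this ▸ v.2

end

end Cfsg.Agent.ThRec
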