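import Cfsg.Agent.Lib.ThRec.Setup
import Cfsg.Agent.Lib.ThOut.Fusion
import Mathlib.GroupTheory.SpecificGroups.Alternating.Simple

/-!
Facts on the model: the centraliser of `a` in the presented group and its extraspecial subgroup.
-/

set_option autoImplicit false
set_option maxRecDepth 100000
set_option maxHeartbeats 1000000
set_option Elab.async false

namespace Cfsg.Agent.ThRec

open Cfsg.Agent.HN Cfsg.Agent.Th Cfsg.Agent.ThOut

noncomputable section

/-- The action of the model on nine points. -/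
abbrev nineHom : ↥CA →* Equiv.Perm (Fin nine.n) := toNine hC0 hcard0

theorem qW_side {q : ℕ} (hq : q < 512) : okSide true (qW q) = true :=
  (kWord_ok (Bool.and_eq_true_iff.1 (allLo_spec words_ok.1 hq)).1).1

/-- The elements of the normal subgroup are the values of the 512 words. -/
theorem mem_Q0 {x : Cfsg.Spor.Th} : x ∈ Q0 ↔ ∃ q < 512, x = wv g11 (qW q) := by
  constructor
  · rintro ⟨y, hy, rfl⟩
    obtain ⟨q, hq⟩ := qEl_surjective hC0 hcard0 ⟨y, hy⟩
    exact ⟨q, q.2, congrArg (fun v : ↥(toNine hC0 hcard0).ker => ((v.1 : ↥CA) : Cfsg.Spor.Th)) hq.symm⟩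
  · rintro ⟨q, hq, rfl⟩
    exact ⟨(qEl hC0 hcard0 ⟨q, hq⟩).1, (qEl hC0 hcard0 ⟨q, hq⟩).2, rfl⟩

theorem Q0_le : Q0 ≤ CA := Subgroup.map_subtype_le _

theorem mem_Q0_iff {x : ↥CA} : (x : Cfsg.Spor.Th) ∈ Q0 ↔ nineHom x = 1 := by
  constructor
  · rintro ⟨y, hy, e⟩
    exact (Subtype.ext e : y = x) ▸ hy
  · exact fun h => ⟨x, h, rfl⟩

theorem card_Q0 : Nat.card ↥Q0 = 512 := by
  rw [show Q0 = (toNine hC0 hcard0).ker.map CA.subtype from rfl,
    Subgroup.card_map_of_injective CA.subtype_injective, card_ker hC0 hcard0]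

theorem conj_mem_Q0 {x q : Cfsg.Spor.Th} (hx : x ∈ CA) (hq : q ∈ Q0) : x * q * x⁻¹ ∈ Q0 := by
  have h := Q0_le hq
  rw [show x * q * x⁻¹ = ((⟨x, hx⟩ * ⟨q, h⟩ * ⟨x, hx⟩⁻¹ : ↥CA) : Cfsg.Spor.Th) from rfl, mem_Q0_iff]
  simp only [map_mul, map_inv]
  rw [(mem_Q0_iff (x := ⟨q, h⟩)).1 hq, mul_one, mul_inv_cancel]

theorem letter_side {l : ℕ} (h : l < 11) (h1 : l ≠ 1) : okSide true [l] = true := by
  interval_cases l <;> first | rfl | omega

theorem letter_mem {l : ℕ} (h : l < 11) (h1 : l ≠ 1) : g11 l ∈ CA :=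
  (hC0 _).2 ⟨[l], letter_side h h1, wv_singleton g11 l⟩

theorem a0_mem_Q0 : g11 0 ∈ Q0 := by
  have hc : ((List.range 512).any fun q => eqS true (qW q) [0]) = true := by decide +kernel
  obtain ⟨q, hq, e⟩ := List.any_eq_true.1 hc
  exact mem_Q0.2 ⟨q, List.mem_range.1 hq, ((eqS_eq e).trans (wv_singleton g11 0)).symm⟩

theorem c0_mem_Q0 : g11 2 ∈ Q0 := by
  have hc : ((List.range 512).any fun q => eqS true (qW q) [2]) = true := by decide +kernel
  obtain ⟨q, hq, e⟩ := List.any_eq_true.1 hc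
  exact mem_Q0.2 ⟨q, List.mem_range.1 hq, ((eqS_eq e).trans (wv_singleton g11 2)).symm⟩

theorem a0_ne : g11 0 ≠ 1 ∧ g11 2 ≠ 1 ∧ g11 2 ≠ g11 0 := by
  have hc : eqS true [0] [] = false ∧ eqS true [2] [] = false ∧ eqS true [2] [0] = false := by
    decide +kernel
  refine ⟨fun e => ?_, fun e => ?_, fun e => ?_⟩
  · exact ne_of_eqS psi_injective rfl rfl hc.1 ((wv_singleton g11 0).trans (e.trans (wv_nil g11).symm))
  · exact ne_of_eqS psi_injective rfl rfl hc.2.1 ((wv_singleton g11 2).trans (e.trans (wv_nil g11).symm))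
  · exact ne_of_eqS psi_injective rfl rfl hc.2.2
      ((wv_singleton g11 2).trans (e.trans (wv_singleton g11 0).symm))

theorem a0_central {x : Cfsg.Spor.Th} (hx : x ∈ CA) : g11 0 * x = x * g11 0 :=
  (Subgroup.mem_centralizer_singleton_iff.1 hx).symm

/-- The centre of the normal subgroup. -/
theorem center_Q0 {x : Cfsg.Spor.Th} (hx : x ∈ Q0) (h : ∀ q ∈ Q0, x * q = q * x) : x = 1 ∨ x = g11 0 := by
  obtain ⟨q, hq, rfl⟩ := mem_Q0.1 hx
  have hc : allLo (fun q => eqS true (qW q) [] || eqS true (qW q) [0] ||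
      Form.qgens.any fun g => !(eqS true (qW q ++ g) (g ++ qW q))) 512 = true := by decide +kernel
  have hg : (Form.qgens.all fun g => okSide true g && eq9 g []) = true := by decide +kernel
  have := allLo_spec hc hq
  simp only [Bool.or_eq_true, List.any_eq_true, Bool.not_eq_true'] at this
  rcases this with (e | e) | ⟨g, hgm, e⟩
  · exact Or.inl ((eqS_eq e).trans (wv_nil g11))
  · exact Or.inr ((eqS_eq e).trans (wv_singleton g11 0))
  · exfalso
    have hs := List.all_eq_true.1 hg g hgm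
    rw [Bool.and_eq_true] at hs
    have hmem : wv g11 g ∈ Q0 := by
      refine (mem_Q0_iff (x := ⟨wv g11 g, (hC0 _).2 ⟨g, hs.1, rfl⟩⟩)).2 ?_
      exact (toNine_mk hC0 hcard0 hs.1).trans (eq9_eq hs.2)
    refine ne_of_eqS psi_injective (okSide_append (qW_side hq) hs.1) (okSide_append hs.1 (qW_side hq)) e ?_
    rw [wv_append, wv_append]
    exact h _ hmem

/-- The involutions of the normal subgroup other than `a` are conjugate to `c`. -/
theorem singular_conj {x : Cfsg.Spor.Th} (hx : x ∈ Q0) (h2 : x * x = 1) (h1 : x ≠ 1) (ha : x ≠ g11 0) :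
    ∃ g ∈ CA, g * x * g⁻¹ = g11 2 := by
  obtain ⟨q, hq, rfl⟩ := mem_Q0.1 hx
  have hc : allLo (fun q => Nat.beq (FusData.cwit.get q) 0 ||
      Nat.blt (Nat.land (FusData.cwit.get q) 255) 4) 512 = true := by decide +kernel
  have hw : allLo (fun q => eqW (qW (Nat.land q 511) ++ FusData.reps.getD (Nat.shiftRight q 9) []) (qW q))
      512 = true := by decide +kernel
  have h := c_ok (i := q) (by omega)
  have e : qW (Nat.land q 511) ++ FusData.reps.getD (Nat.shiftRight q 9) [] = qW q :=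
    eq_of_eqW (allLo_spec hw hq)
  unfold cOK at h
  simp only [e] at h
  cases hv : Nat.beq (FusData.cwit.get q) 0 with
  | true =>
    exfalso
    rw [hv, cond_true, Bool.not_eq_true'] at h
    refine ne_of_eqS psi_injective (okSide_append (qW_side hq) (qW_side hq)) rfl h ?_
    rw [wv_append, wv_nil, h2]
  | false =>
    have h4 := allLo_spec hc hq
    rw [hv, Bool.false_or, Nat.blt_eq] at h4
    rw [hv, cond_false] at h
    simp only [Bool.and_eq_true, Nat.blt_eq] at h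
    obtain ⟨⟨hg, -⟩, hE⟩ := h
    set g := unp (Nat.shiftRight (FusData.cwit.get q) 8)
    set t := Nat.sub (Nat.land (FusData.cwit.get q) 255) 1
    have ht : t < 3 := by
      show Nat.land (FusData.cwit.get q) 255 - 1 < 3
      omega
    have hgm : wv g11 g ∈ CA := (hC0 _).2 ⟨g, hg, rfl⟩
    have hE' := eqS_eq hE
    rw [wv_append, wv_append, wv_winv g11 g11_inv] at hE'
    interval_cases t
    · exfalso
      rw [show tgtW 0 = [] from rfl, wv_nil, mul_one, inv_mul_cancel] at hE'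
      exact h1 hE'
    · exfalso
      rw [show tgtW 1 = [0] from rfl, wv_singleton, mul_assoc, a0_central hgm, inv_mul_cancel_left] at hE'
      exact ha hE'
    · refine ⟨_, hgm, ?_⟩
      rw [hE', show tgtW 2 = [2] from rfl, wv_singleton]
      group

/-- An involution count. -/
theorem count_invol : Nat.card {x : ↥Q0 // x * x = 1 ∧ (x : Cfsg.Spor.Th) ≠ 1 ∧ (x : Cfsg.Spor.Th) ≠ g11 0} ≤ 270 := by
  classical
  let T := (Finset.range 512).filter fun q =>
    eqS true (qW q ++ qW q) [] && !(eqS true (qW q) []) && !(eqS true (qW q) [0])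
  have hT : T.card ≤ 270 := by
    have h : (List.range 512).countP (fun q =>
        eqS true (qW q ++ qW q) [] && !(eqS true (qW q) []) && !(eqS true (qW q) [0])) ≤ 270 := by
      decide +kernel
    refine le_trans (le_of_eq ?_) h
    rw [List.countP_eq_length_filter]
    rfl
  refine le_trans ?_ hT
  rw [← Nat.card_eq_finsetCard]
  have key : ∀ x : {x : ↥Q0 // x * x = 1 ∧ (x : Cfsg.Spor.Th) ≠ 1 ∧ (x : Cfsg.Spor.Th) ≠ g11 0},
      ∃ q ∈ T, ((x.1 : ↥Q0) : Cfsg.Spor.Th) = wv g11 (qW q) := by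
    rintro ⟨⟨x, hx⟩, h2, h1, ha⟩
    obtain ⟨q, hq, rfl⟩ := mem_Q0.1 hx
    refine ⟨q, Finset.mem_filter.2 ⟨Finset.mem_range.2 hq, ?_⟩, rfl⟩
    simp only [Bool.and_eq_true, Bool.not_eq_true', Bool.eq_false_iff]
    refine ⟨⟨(eqS_iff psi_injective (okSide_append (qW_side hq) (qW_side hq)) rfl).2 ?_, fun e => ?_⟩,
      fun e => ?_⟩
    · rw [wv_append, wv_nil]; exact congrArg Subtype.val h2
    · exact h1 ((eqS_eq e).trans (wv_nil g11))
    · exact ha ((eqS_eq e).trans (wv_singleton g11 0))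
  choose f hf hf' using key
  exact Nat.card_le_card_of_injective (fun x => (⟨f x, hf x⟩ : ↥T)) fun x y e =>
    Subtype.ext (Subtype.ext ((hf' x).trans ((congrArg (fun v : ↥T => wv g11 (qW v.1)) e).trans (hf' y).symm)))

/-- `u` moves the normal subgroup modulo its centre. -/
theorem u_moves : ∃ q ∈ Q0, g11 9 * q * (g11 9)⁻¹ ≠ q ∧ g11 9 * q * (g11 9)⁻¹ ≠ q * g11 0 := by
  have hc : (Form.qgens.any fun g => eq9 g [] && okSide true g && !(eqS true ([9] ++ g ++ [10]) g) &&
      !(eqS true ([9] ++ g ++ [10]) (g ++ [0]))) = true := by decide +kernel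
  obtain ⟨g, -, h⟩ := List.any_eq_true.1 hc
  simp only [Bool.and_eq_true, Bool.not_eq_true'] at h
  obtain ⟨⟨⟨h9, hs⟩, e1⟩, e2⟩ := h
  have hmem : wv g11 g ∈ Q0 :=
    (mem_Q0_iff (x := ⟨wv g11 g, (hC0 _).2 ⟨g, hs, rfl⟩⟩)).2
      ((toNine_mk hC0 hcard0 hs).trans (eq9_eq h9))
  have hu : okSide true ([9] ++ g ++ [10]) = true :=
    okSide_append (okSide_append rfl hs) rfl
  have hval : wv g11 ([9] ++ g ++ [10]) = g11 9 * wv g11 g * (g11 9)⁻¹ := by
    rw [wv_append, wv_append, wv_singleton, wv_singleton, ← g11_inv 9]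
    rfl
  refine ⟨_, hmem, fun e => ?_, fun e => ?_⟩
  · exact ne_of_eqS psi_injective hu hs e1 (hval.trans e)
  · refine ne_of_eqS psi_injective hu (okSide_append hs rfl) e2 (hval.trans (e.trans ?_))
    rw [wv_append, wv_singleton]

instance : Nontrivial (Fin nine.n) := ⟨⟨⟨0, by decide⟩, ⟨1, by decide⟩, by decide⟩⟩

theorem nine_simple : IsSimpleGroup (alternatingGroup (Fin nine.n)) :=
  alternatingGroup.isSimpleGroup (by rw [Nat.card_eq_fintype_card, Fintype.card_fin]; decide)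

theorem Q0_sq {x : Cfsg.Spor.Th} (hx : x ∈ Q0) : x * x = 1 ∨ x * x = g11 0 := by
  obtain ⟨q, hq, rfl⟩ := mem_Q0.1 hx
  have hc : allLo (fun q => eqS true (qW q ++ qW q) [] || eqS true (qW q ++ qW q) [0]) 512 = true := by
    decide +kernel
  have := allLo_spec hc hq
  rw [Bool.or_eq_true] at this
  refine this.imp (fun e => ?_) fun e => ?_ <;> have := eqS_eq e <;> rw [wv_append] at this
  · exact this.trans (wv_nil g11)
  · exact this.trans (wv_singleton g11 0)

theorem Q0_comm {x y : Cfsg.Spor.Th} (hx : x ∈ Q0) (hy : y ∈ Q0) : x * y = y * x ∨ x * y = y * g11 0 * x := by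
  have ha : g11 0 * g11 0 = 1 := sq_one 0 (by norm_num)
  have hxA : g11 0 * x = x * g11 0 := a0_central (Q0_le hx)
  have hyA : g11 0 * y = y * g11 0 := a0_central (Q0_le hy)
  obtain ⟨X, hX, hXc⟩ : ∃ X, x * x = X ∧ (X = 1 ∨ X = g11 0) := ⟨_, rfl, Q0_sq hx⟩
  obtain ⟨Y, hY, hYc⟩ : ∃ Y, y * y = Y ∧ (Y = 1 ∨ Y = g11 0) := ⟨_, rfl, Q0_sq hy⟩
  obtain ⟨W, hW, hWc⟩ : ∃ W, x * y * (x * y) = W ∧ (W = 1 ∨ W = g11 0) := ⟨_, rfl, Q0_sq (mul_mem hx hy)⟩
  have hXy : X * y = y * X := by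
    rcases hXc with e | e <;> subst e
    · rw [one_mul, mul_one]
    · exact hyA
  have hXY : X * Y * (X * Y) = 1 := by
    rcases hXc with e | e <;> rcases hYc with e' | e' <;> simp [e, e', ha]
  have key : x * y = W * (X * Y) * (y * x) := by
    calc x * y = x * y * (X * Y * (X * Y)) := by rw [hXY, mul_one]
      _ = x * y * (x * (Y * (x * (X * Y)))) := by
        have hYx : Y * x = x * Y := by
          rcases hYc with e | e <;> subst e
          · rw [one_mul, mul_one]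
          · exact hxA
        calc x * y * (X * Y * (X * Y)) = x * y * (x * (x * Y) * (X * Y)) := by rw [← hX]; group
          _ = _ := by rw [← hYx]; group
      _ = x * y * (x * y) * y * (x * (X * Y)) := by rw [← hY]; group
      _ = W * (y * x) * (X * Y) := by rw [hW]; group
      _ = _ := by
        rcases hXc with e | e <;> rcases hYc with e' | e' <;> subst e <;> subst e' <;>
          simp only [one_mul, mul_one, ha]
        all_goals
          rw [mul_assoc W, mul_assoc W, mul_assoc, ← hxA, ← mul_assoc y, ← hyA, mul_assoc]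
  have hc : W * (X * Y) = 1 ∨ W * (X * Y) = g11 0 := by
    rcases hWc with e | e <;> rcases hXc with e' | e' <;> rcases hYc with e'' | e'' <;> simp [e, e', e'', ha]
  rcases hc with e | e <;> rw [e] at key
  · left; rw [key, one_mul]
  · right; rw [key, ← mul_assoc, hyA]

/-- An element centralising the normal subgroup is central. -/
theorem centralizer_Q0 {x : Cfsg.Spor.Th} (hx : x ∈ CA) (h : ∀ q ∈ Q0, x * q = q * x) :
    x = 1 ∨ x = g11 0 := by
  refine center_Q0 ?_ h
  by_contra hn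
  let K : Subgroup ↥CA := (Subgroup.centralizer (Q0 : Set Cfsg.Spor.Th)).subgroupOf CA
  have hK : K.Normal := ⟨fun k hk g => by
    rw [Subgroup.mem_subgroupOf, Subgroup.mem_centralizer_iff] at hk ⊢
    intro q hq
    have h1 := hk _ (conj_mem_Q0 (inv_mem g.2) hq)
    show q * (((g : Cfsg.Spor.Th)) * k * (g : Cfsg.Spor.Th)⁻¹) = g * k * (g : Cfsg.Spor.Th)⁻¹ * q
    calc q * ((g : Cfsg.Spor.Th) * k * (g : Cfsg.Spor.Th)⁻¹)
        = g * ((g : Cfsg.Spor.Th)⁻¹ * q * ((g : Cfsg.Spor.Th)⁻¹)⁻¹ * k) * (g : Cfsg.Spor.Th)⁻¹ := by group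
      _ = g * (k * ((g : Cfsg.Spor.Th)⁻¹ * q * ((g : Cfsg.Spor.Th)⁻¹)⁻¹)) * (g : Cfsg.Spor.Th)⁻¹ := by rw [h1]
      _ = _ := by group⟩
  let A := alternatingGroup (Fin nine.n)
  have hr := toNine_range hC0 hcard0
  let f : ↥CA →* ↥A := nineHom.codRestrict A fun y => by
    show nineHom y ∈ alternatingGroup (Fin nine.n)
    rw [← hr]
    exact ⟨y, rfl⟩
  have hsurj : Function.Surjective f := fun σ => by
    obtain ⟨y, hy⟩ := (hr.symm ▸ σ.2 : (σ : Equiv.Perm (Fin nine.n)) ∈ nineHom.range)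
    exact ⟨y, Subtype.ext hy⟩
  haveI := nine_simple
  rcases (hK.map f hsurj).eq_bot_or_eq_top with e | e
  · refine hn ((mem_Q0_iff (x := ⟨x, hx⟩)).2 ?_)
    have : f ⟨x, hx⟩ ∈ K.map f :=
      ⟨⟨x, hx⟩, Subgroup.mem_centralizer_iff.2 fun q hq => (h q hq).symm, rfl⟩
    rw [e, Subgroup.mem_bot] at this
    exact congrArg Subtype.val this
  · obtain ⟨q, hq, h1, h2⟩ := u_moves
    obtain ⟨k, hk, hku⟩ := (e.symm ▸ Subgroup.mem_top _ :
      f ⟨g11 9, letter_mem (by norm_num) (by norm_num)⟩ ∈ K.map f)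
    have hr0 : ((k⁻¹ * ⟨g11 9, letter_mem (by norm_num) (by norm_num)⟩ : ↥CA) : Cfsg.Spor.Th) ∈ Q0 := by
      rw [mem_Q0_iff, map_mul, map_inv]
      have := congrArg Subtype.val hku
      change nineHom k = nineHom _ at this
      rw [← this, inv_mul_cancel]
    set r : Cfsg.Spor.Th := (k : Cfsg.Spor.Th)⁻¹ * g11 9
    change r ∈ Q0 at hr0
    have e9 : g11 9 = k * r := by simp [r]
    have hcq : r * q * r⁻¹ * (k : Cfsg.Spor.Th) = (k : Cfsg.Spor.Th) * (r * q * r⁻¹) :=
      Subgroup.mem_centralizer_iff.1 hk _ (conj_mem_Q0 (Q0_le hr0) hq)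
    have e2 : g11 9 * q * (g11 9)⁻¹ = r * q * r⁻¹ := by
      rw [e9]
      calc (k : Cfsg.Spor.Th) * r * q * (k * r)⁻¹ = k * (r * q * r⁻¹) * (k : Cfsg.Spor.Th)⁻¹ := by group
        _ = _ := by rw [← hcq]; group
    rcases Q0_comm hr0 hq with hh | hh
    · exact h1 (e2.trans (by rw [hh]; group))
    · refine h2 (e2.trans ?_)
      rw [hh, mul_inv_cancel_right]

end

end Cfsg.Agent.ThRec
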