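import Cfsg.Agent.Lib.ThRec.FusionKey

/-!
Two centralisers with coordinates in the spin module: an isomorphism of the extraspecial groups carrying
the action of one into the action of the other.
-/

set_option autoImplicit false
set_option maxRecDepth 100000

namespace Cfsg.Agent.ThRec

open Equiv Eight

variable {G G' : Type*} [Group G] [Group G'] {a : G} {Q : Subgroup G} {a' : G'} {Q' : Subgroup G'} {md : Md}

theorem Coords.tw_comm (S : Setup a Q) (e : Bool) {x : G} (hx : x ∈ Q) : tw a e * x = x * tw a e := by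
  cases e
  · simp [tw]
  · exact (S.q_comm hx).symm

theorem Coords.c_tw (S : Setup a Q) (K : Coords a Q md) (e : Bool) : K.c (tw a e) = 0 := by
  cases e
  · exact K.c_one
  · exact K.c_a S

theorem xor_small {v j : ℕ} (hv : v < 2 ^ (j + 1)) (hb : v.testBit j = true) : v ^^^ 2 ^ j < 2 ^ j := by
  refine Nat.lt_pow_two_of_testBit _ fun i hi => ?_
  rw [Nat.testBit_xor]
  rcases eq_or_lt_of_le hi with rfl | h
  · rw [hb, Nat.testBit_two_pow_self]; rfl
  · rw [Nat.testBit_lt_two_pow (lt_of_lt_of_le hv (Nat.pow_le_pow_right two_pos (by omega))),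
      Nat.testBit_two_pow_of_ne (by omega)]; rfl

/-- A common sign for the two groups. -/
def both (a : G) (a' : G') (e : Bool) : G × G' := (tw a e, tw a' e)

theorem graph_step (S : Setup a Q) (S' : Setup a' Q') (K : Coords a Q md) (K' : Coords a' Q' md) :
    ∀ j ≤ 8, ∃ H : Subgroup (G × G'),
      (∀ p ∈ H, p.1 ∈ Q ∧ p.2 ∈ Q' ∧ K.c p.1 = K'.c p.2 ∧ K.c p.1 < 2 ^ j ∧
        (K.c p.1 = 0 → ∃ e, p = both a a' e)) ∧
      (∀ e, both a a' e ∈ H) ∧ ∀ v < 2 ^ j, ∃ p ∈ H, K.c p.1 = v := by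
  intro j
  induction j with
  | zero =>
    intro _
    refine ⟨Subgroup.zpowers (both a a' true), fun p hp => ?_, fun e => ?_, fun v hv => ?_⟩
    · have : p = both a a' false ∨ p = both a a' true := by
        obtain ⟨k, rfl⟩ := Subgroup.mem_zpowers_iff.1 hp
        have h2 : both a a' true ^ (2 : ℤ) = 1 := by
          rw [zpow_two, both, tw, tw, cond_true, cond_true, Prod.mk_mul_mk, S.fk_sq, S'.fk_sq]; rfl
        rcases Int.even_or_odd k with ⟨i, hi⟩ | ⟨i, hi⟩
        · left; rw [hi, ← two_mul, zpow_mul, h2, one_zpow]; rfl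
        · right; rw [hi, zpow_add, zpow_mul, h2, one_zpow, one_mul, zpow_one]
      rcases this with rfl | rfl
      · exact ⟨Coords.tw_mem S false, Coords.tw_mem S' false, by rw [both, K.c_tw S, K'.c_tw S'],
          by rw [both, K.c_tw S]; norm_num, fun _ => ⟨false, rfl⟩⟩
      · exact ⟨Coords.tw_mem S true, Coords.tw_mem S' true, by rw [both, K.c_tw S, K'.c_tw S'],
          by rw [both, K.c_tw S]; norm_num, fun _ => ⟨true, rfl⟩⟩
    · cases e
      · exact Subgroup.one_mem _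
      · exact Subgroup.mem_zpowers _
    · exact ⟨1, Subgroup.one_mem _, by rw [Prod.fst_one, K.c_one]; simp at hv; omega⟩
  | succ j ih =>
    intro hj
    obtain ⟨H, hH, hD, hsur⟩ := ih (by omega)
    have h256 : 2 ^ j < 256 := by
      calc 2 ^ j ≤ 2 ^ 7 := Nat.pow_le_pow_right two_pos (by omega)
        _ < 256 := by norm_num
    obtain ⟨x, hx, hxc⟩ := K.c_surj _ h256
    obtain ⟨y, hy, hyc⟩ := K'.c_surj _ h256
    set t : G × G' := (x, y) with ht
    have htt : t * t ∈ H := by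
      rw [ht, Prod.mk_mul_mk, K.sq x hx, K'.sq y hy, hxc, hyc]
      exact hD _
    have hswap : ∀ p ∈ H, ∃ p' ∈ H, t * p = p' * t := by
      intro p hp
      obtain ⟨h1, h2, hc, -, -⟩ := hH p hp
      refine ⟨p * both a a' (md.B (K.c p.1) (2 ^ j)), H.mul_mem hp (hD _), Prod.ext ?_ ?_⟩
      · show x * p.1 = p.1 * tw a _ * x
        rw [K.swap_mul S h1 hx, hxc, mul_assoc p.1 (tw a _) x, Coords.tw_comm S _ hx, ← mul_assoc]
      · show y * p.2 = p.2 * tw a' _ * y
        rw [K'.swap_mul S' h2 hy, hyc, ← hc, mul_assoc p.2 (tw a' _) y, Coords.tw_comm S' _ hy, ← mul_assoc]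
    let H' : Subgroup (G × G') :=
      { carrier := {p | p ∈ H ∨ ∃ k ∈ H, p = k * t}
        one_mem' := Or.inl H.one_mem
        mul_mem' := by
          rintro p q (hp | ⟨k, hk, rfl⟩) (hq | ⟨l, hl, rfl⟩)
          · exact Or.inl (H.mul_mem hp hq)
          · exact Or.inr ⟨p * l, H.mul_mem hp hl, by rw [mul_assoc]⟩
          · obtain ⟨q', hq', e⟩ := hswap q hq
            exact Or.inr ⟨k * q', H.mul_mem hk hq', by rw [mul_assoc, e, mul_assoc]⟩
          · obtain ⟨q', hq', e⟩ := hswap l hl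
            refine Or.inl ?_
            rw [show k * t * (l * t) = k * (t * l) * t by group, e, show k * (q' * t) * t = k * q' * (t * t) by group]
            exact H.mul_mem (H.mul_mem hk hq') htt
        inv_mem' := by
          rintro p (hp | ⟨k, hk, rfl⟩)
          · exact Or.inl (H.inv_mem hp)
          · obtain ⟨q', hq', e⟩ := hswap _ (H.inv_mem hk)
            refine Or.inr ⟨(t * t)⁻¹ * q', H.mul_mem (H.inv_mem htt) hq', ?_⟩
            rw [mul_assoc, ← e]; group }
    have hxy : ∀ k ∈ H, (k * t).1 ∈ Q ∧ (k * t).2 ∈ Q' ∧ K.c (k * t).1 = K.c k.1 ^^^ 2 ^ j ∧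
        K'.c (k * t).2 = K'.c k.2 ^^^ 2 ^ j := fun k hk => by
      obtain ⟨h1, h2, -, -, -⟩ := hH k hk
      exact ⟨Q.mul_mem h1 hx, Q'.mul_mem h2 hy, by rw [← hxc]; exact K.c_mul _ h1 _ hx,
        by rw [← hyc]; exact K'.c_mul _ h2 _ hy⟩
    refine ⟨H', ?_, fun e => Or.inl (hD e), fun v hv => ?_⟩
    · rintro p (hp | ⟨k, hk, rfl⟩)
      · obtain ⟨h1, h2, hc, hlt, h0⟩ := hH p hp
        exact ⟨h1, h2, hc, lt_of_lt_of_le hlt (Nat.pow_le_pow_right two_pos (by omega)), h0⟩
      · obtain ⟨h1, h2, hc, hlt, -⟩ := hH k hk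
        obtain ⟨q1, q2, qc, qc'⟩ := hxy k hk
        refine ⟨q1, q2, by rw [qc, qc', hc], ?_, fun h => ?_⟩
        · rw [qc]
          exact Nat.xor_lt_two_pow (lt_of_lt_of_le hlt (Nat.pow_le_pow_right two_pos (by omega)))
            (Nat.pow_lt_pow_right (by norm_num) (by omega))
        · rw [qc] at h
          have := Nat.xor_eq_zero_iff.1 h
          omega
    · by_cases hb : v.testBit j = true
      · obtain ⟨k, hk, hkv⟩ := hsur _ (xor_small hv hb)
        refine ⟨k * t, Or.inr ⟨k, hk, rfl⟩, ?_⟩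
        rw [(hxy k hk).2.2.1, hkv, Nat.xor_assoc, Nat.xor_self, Nat.xor_zero]
      · have : v < 2 ^ j := Nat.lt_pow_two_of_testBit _ fun i hi => by
          rcases eq_or_lt_of_le hi with rfl | h
          · simpa using hb
          · exact Nat.testBit_lt_two_pow (lt_of_lt_of_le hv (Nat.pow_le_pow_right two_pos (by omega)))
        obtain ⟨p, hp, hpv⟩ := hsur v this
        exact ⟨p, Or.inl hp, hpv⟩

/-- **An isomorphism compatible with the codes.** -/
theorem exists_iso (S : Setup a Q) (S' : Setup a' Q') (K : Coords a Q md) (K' : Coords a' Q' md) :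
    ∃ θ : ↥Q ≃* ↥Q', (∀ q : ↥Q, (q : G) = a → (θ q : G') = a') ∧ ∀ q : ↥Q, K'.c (θ q) = K.c q := by
  obtain ⟨H, hH, hD, hsur⟩ := graph_step S S' K K' 8 le_rfl
  have hex : ∀ q : ↥Q, ∃ y : ↥Q', ((q : G), (y : G')) ∈ H := fun q => by
    obtain ⟨p, hp, hpc⟩ := hsur (K.c q) (by simpa using K.c_lt q q.2)
    obtain ⟨h1, h2, -, -, -⟩ := hH p hp
    obtain ⟨e, he⟩ := K.c_eq h1 q.2 hpc
    refine ⟨⟨p.2 * tw a' e, Q'.mul_mem h2 (Coords.tw_mem S' e)⟩, ?_⟩
    have : ((q : G), p.2 * tw a' e) = p * both a a' e := Prod.ext he rfl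
    show ((q : G), p.2 * tw a' e) ∈ H
    rw [this]; exact H.mul_mem hp (hD e)
  have huniq : ∀ (x : G) (y y' : G'), (x, y) ∈ H → (x, y') ∈ H → y = y' := fun x y y' h h' => by
    have h1 := H.mul_mem (H.inv_mem h) h'
    obtain ⟨-, -, -, -, h0⟩ := hH _ h1
    obtain ⟨e, he⟩ := h0 (by
      show K.c (x⁻¹ * x) = 0
      rw [inv_mul_cancel, K.c_one])
    have e1 : x⁻¹ * x = tw a e := congrArg Prod.fst he
    have e2 : y⁻¹ * y' = tw a' e := congrArg Prod.snd he
    rw [inv_mul_cancel] at e1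
    cases e
    · simp only [tw, cond_false] at e2; exact inv_mul_eq_one.1 e2
    · exact absurd e1.symm S.fk_ne
  choose θ hθ using hex
  have hinj : Function.Injective θ := fun q r e => by
    have h' := hθ r
    rw [← e] at h'
    have h1 := H.mul_mem (H.inv_mem (hθ q)) h'
    obtain ⟨-, -, hc, -, h0⟩ := hH _ h1
    have hzero : K'.c ((θ q : G')⁻¹ * (θ q : G')) = 0 := by rw [inv_mul_cancel, K'.c_one]
    obtain ⟨b, hb⟩ := h0 (hc.trans hzero)
    have e1 : (q : G)⁻¹ * r = tw a b := congrArg Prod.fst hb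
    have e2 : (θ q : G')⁻¹ * (θ q : G') = tw a' b := congrArg Prod.snd hb
    rw [inv_mul_cancel] at e2
    cases b
    · exact Subtype.ext (inv_mul_eq_one.1 (by simpa [tw] using e1))
    · exact absurd e2.symm S'.fk_ne
  let f : ↥Q →* ↥Q' := MonoidHom.mk' θ fun q r => Subtype.ext
    (huniq _ _ _ (hθ (q * r)) (H.mul_mem (hθ q) (hθ r)))
  haveI : Finite ↥Q := Nat.finite_of_card_ne_zero (by rw [S.card]; norm_num)
  haveI : Finite ↥Q' := Nat.finite_of_card_ne_zero (by rw [S'.card]; norm_num)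
  have hbij : Function.Bijective f :=
    Function.Injective.bijective_of_nat_card_le hinj (by rw [S.card, S'.card])
  refine ⟨MulEquiv.ofBijective f hbij, fun q hq => huniq a _ _ ?_ (hD true), fun q => (hH _ (hθ q)).2.2.1.symm⟩
  have h := hθ q
  rw [hq] at h
  exact h

/-- The dual basis of the spin module. -/
theorem spin_dual : allV (fun t => (List.range 8).all fun j =>
    mS.B (ap [128, 64, 32, 16, 8, 4, 2, 1] t) (2 ^ j) == odd (Nat.shiftRight t j)) = true := by decide +kernel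

/-- An endomorphism of `Q` which fixes codes is inner. -/
theorem exists_inner (S : Setup a Q) (K : Coords a Q mS) (ψ : ↥Q →* ↥Q)
    (hψ : ∀ q : ↥Q, K.c (ψ q) = K.c q) (ha : ∀ q : ↥Q, (q : G) = a → (ψ q : G) = a) :
    ∃ r ∈ Q, ∀ q : ↥Q, (ψ q : G) = r * q * r⁻¹ := by
  choose b hbQ hbc using K.c_surj
  have hlt : ∀ j < 8, 2 ^ j < 256 := fun j hj => by
    calc 2 ^ j ≤ 2 ^ 7 := Nat.pow_le_pow_right two_pos (by omega)
      _ < 256 := by norm_num
  have he : ∀ j : Fin 8, ∃ e, (ψ ⟨b _ (hlt j j.2), hbQ _ _⟩ : G) = b _ (hlt j j.2) * tw a e := fun j =>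
    K.c_eq (hbQ _ _) (ψ _).2 (hψ ⟨b _ (hlt j j.2), hbQ _ _⟩).symm
  choose e he using he
  set T := Nat.ofBits e with hT
  have hT256 : T < 256 := Nat.ofBits_lt_two_pow e
  have hr256 : ap [128, 64, 32, 16, 8, 4, 2, 1] T < 256 := ap_lt (n := 8) (by decide) T
  obtain ⟨r, hrQ, hrc⟩ := K.c_surj _ hr256
  refine ⟨r, hrQ, ?_⟩
  have hgen : ∀ j : Fin 8, (ψ ⟨b _ (hlt j j.2), hbQ _ _⟩ : G) = r * b _ (hlt j j.2) * r⁻¹ := fun j => by
    have hB := beq_iff_eq.1 (List.all_eq_true.1 (allV_spec spin_dual hT256) j.val (List.mem_range.2 j.2))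
    rw [he j, K.swap_mul S (hbQ _ (hlt j j.2)) hrQ, hrc, hbc _ (hlt j j.2)]
    have hsym : ∀ u v, mS.B u v = mS.B v u := fun u v => by
      simp only [Md.B]
      rw [show Nat.xor u v = u ^^^ v from rfl, show Nat.xor v u = v ^^^ u from rfl, Nat.xor_comm]
      cases mS.q (v ^^^ u) <;> cases mS.q u <;> cases mS.q v <;> rfl
    rw [hsym, hB, odd_eq, show Nat.shiftRight T j.val = T >>> j.val from rfl, Nat.testBit_shiftRight, Nat.add_zero,
      hT, Nat.testBit_ofBits_lt _ _ j.2]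
    have hc := Coords.tw_comm S (e ⟨j.val, j.2⟩) hrQ
    calc b _ (hlt j j.2) * tw a (e j) = b _ (hlt j j.2) * (tw a (e j) * r) * r⁻¹ := by group
      _ = _ := by rw [hc]; group
  intro q
  suffices ∀ j ≤ 8, ∀ q : ↥Q, K.c q < 2 ^ j → (ψ q : G) = r * q * r⁻¹ from
    this 8 le_rfl q (by simpa using K.c_lt q q.2)
  intro j
  induction j with
  | zero =>
    intro _ q hq
    have h0 : K.c q = 0 := by simpa using hq
    rcases (K.c_ker _ q.2).1 h0 with h | h
    · rw [show q = 1 from Subtype.ext h, map_one]; simp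
    · rw [ha q h, h, S.q_comm hrQ]; group
  | succ j ih =>
    intro hj q hq
    by_cases hb : (K.c q).testBit j = true
    · set t : ↥Q := ⟨b _ (hlt j (by omega)), hbQ _ _⟩ with ht
      have h1 : K.c ((q * t : ↥Q) : G) < 2 ^ j := by
        rw [Subgroup.coe_mul, K.c_mul _ q.2 _ t.2, ht, hbc]
        exact xor_small hq hb
      have h2 := ih (by omega) (q * t) h1
      have h3 := hgen ⟨j, by omega⟩
      rw [map_mul, Subgroup.coe_mul, Subgroup.coe_mul] at h2
      calc (ψ q : G) = (ψ q : G) * (ψ t : G) * (ψ t : G)⁻¹ := by group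
        _ = r * ((q : G) * (t : G)) * r⁻¹ * (r * (t : G) * r⁻¹)⁻¹ := by rw [h2, h3]
        _ = _ := by group
    · refine ih (by omega) q (Nat.lt_pow_two_of_testBit _ fun i hi => ?_)
      rcases eq_or_lt_of_le hi with rfl | h
      · simpa using hb
      · exact Nat.testBit_lt_two_pow (lt_of_lt_of_le hq (Nat.pow_le_pow_right two_pos (by omega)))

theorem act_cube : ((List.range 7).all fun r => allV fun v => Nat.beq (Eight.act sX [r, r, r] v) v) = true := by
  decide +kernel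

/-- The matrices of words are injective. -/
theorem act_inj (hb : mS.X.all (fun M => M.all fun c => Nat.blt c 256) = true) :
    ∀ (w : List ℕ) {u v : ℕ}, u < 256 → v < 256 → Eight.act mS.X w u = Eight.act mS.X w v → u = v
  | [], _, _, _, _, h => h
  | i :: w, u, v, hu, hv, h => by
    refine act_inj hb w hu hv ?_
    have key : ∀ z < 256, Eight.act mS.X [i, i] (ap (gen mS.X i) z) = z := fun z hz => by
      have h3 := Nat.eq_of_beq_eq_true (allV_spec (List.all_eq_true.1 act_cube (i % 7)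
        (List.mem_range.2 (Nat.mod_lt _ (by norm_num)))) hz)
      have eg : gen sX (i % 7) = gen sX i := by simp [gen]
      simp only [Eight.act, eg] at h3 ⊢
      exact h3
    have := congrArg (Eight.act mS.X [i, i]) h
    simp only [Eight.act] at this key
    rwa [key _ (act_lt hb w hu), key _ (act_lt hb w hv)] at this

/-- **The compatible isomorphism.** -/
theorem exists_act (S : Setup a Q) (S' : Setup a' Q') (K : Coords a Q mS) (K' : Coords a' Q' mS) :
    ∃ θ : ↥Q ≃* ↥Q', (∀ q : ↥Q, (q : G) = a → (θ q : G') = a') ∧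
      ∀ x ∈ Subgroup.centralizer ({a} : Set G), ∃ y ∈ Subgroup.centralizer ({a'} : Set G'),
        ∀ q r : ↥Q, (r : G) = x * q * x⁻¹ → (θ r : G') = y * θ q * y⁻¹ := by
  obtain ⟨θ, hθa, hθc⟩ := exists_iso S S' K K'
  refine ⟨θ, hθa, fun x hx => ?_⟩
  obtain ⟨w, hw⟩ := exists_word (K.sign_π ⟨x, hx⟩)
  obtain ⟨h, hh⟩ := K'.surj (permW w) (sign_permW w)
  let C' := Subgroup.centralizer ({a'} : Set G')
  have hconj : ∀ q : ↥Q, x * (q : G) * x⁻¹ ∈ Q := fun q => S.norm x hx q q.2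
  have hback : ∀ q : ↥Q', (h : G')⁻¹ * q * h ∈ Q' := fun q => by
    have := S'.norm _ (C'.inv_mem h.2) q q.2
    rwa [inv_inv] at this
  let cx : ↥Q →* ↥Q := MonoidHom.mk' (fun q => ⟨x * q * x⁻¹, hconj q⟩) fun q r =>
    Subtype.ext (show x * ((q : G) * r) * x⁻¹ = x * q * x⁻¹ * (x * r * x⁻¹) by group)
  let ch : ↥Q' →* ↥Q' := MonoidHom.mk' (fun q => ⟨(h : G')⁻¹ * q * h, hback q⟩) fun q r =>
    Subtype.ext (show (h : G')⁻¹ * ((q : G') * r) * h = (h : G')⁻¹ * q * h * ((h : G')⁻¹ * r * h) by group)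
  let ψ : ↥Q' →* ↥Q' := ch.comp (θ.toMonoidHom.comp (cx.comp θ.symm.toMonoidHom))
  have hψ : ∀ q : ↥Q', (h : G') * (ψ q : G') * (h : G')⁻¹ = (θ (cx (θ.symm q)) : G') := fun q => by
    show (h : G') * ((h : G')⁻¹ * (θ (cx (θ.symm q)) : G') * h) * (h : G')⁻¹ = _
    group
  have hψc : ∀ q : ↥Q', K'.c (ψ q) = K'.c q := fun q => by
    set z := θ.symm q with hz
    have hq : q = θ z := (θ.apply_symm_apply q).symm
    have h1 := K'.act h w hh.symm _ (ψ q).2
    rw [hψ, hθc, ← hz] at h1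
    have h2 := K.act ⟨x, hx⟩ w hw _ z.2
    have h3 : K.c (cx z : G) = Eight.act mS.X w (K.c z) := h2
    rw [h3] at h1
    rw [hq, hθc]
    rw [← hq]
    have hb : mS.X.all (fun M => M.all fun c => Nat.blt c 256) = true := by decide +kernel
    exact act_inj hb w (K'.c_lt _ (ψ q).2) (K.c_lt _ z.2) h1.symm
  have hψa : ∀ q : ↥Q', (q : G') = a' → (ψ q : G') = a' := fun q hq => by
    have hza : ((θ.symm q : ↥Q) : G) = a := by
      have h1 := hθa ⟨a, S.a_mem⟩ rfl
      have : θ ⟨a, S.a_mem⟩ = q := Subtype.ext (h1.trans hq.symm)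
      rw [← this, θ.symm_apply_apply]
    show (h : G')⁻¹ * (θ (cx (θ.symm q)) : G') * h = a'
    rw [hθa (cx (θ.symm q)) (by
      show x * ((θ.symm q : ↥Q) : G) * x⁻¹ = a
      rw [hza, Subgroup.mem_centralizer_singleton_iff.1 hx, mul_inv_cancel_right])]
    rw [mul_assoc, ← Subgroup.mem_centralizer_singleton_iff.1 h.2, inv_mul_cancel_left]
  obtain ⟨r, hr, hψr⟩ := exists_inner S' K' ψ hψc hψa
  refine ⟨(h : G') * r, C'.mul_mem h.2 (S'.le hr), fun q s hs => ?_⟩
  have e : s = cx (θ.symm (θ q)) := by rw [θ.symm_apply_apply]; exact Subtype.ext hs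
  rw [e, ← hψ, hψr]
  group

end Cfsg.Agent.ThRec
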