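import Cfsg.Agent.Lib.ThRec.ModuleTriples
import Cfsg.Agent.Lib.ThRec.ModuleCheck
import Cfsg.Agent.Lib.ThRec.NinePerm

/-!
The permutation module: supports of codes, orbit representatives of the singular vectors, and the bound on
elementary abelian sets of permutations normalised by the stabiliser of a code.
-/

set_option autoImplicit false
set_option maxRecDepth 100000

namespace Cfsg.Agent.ThRec.Eight

open Equiv

/-- A point lies in the even subset of a code. -/
def hit (v i : ℕ) : Bool := cond (Nat.beq i 8) (par8 8 v) (odd (Nat.shiftRight v i))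
where
  /-- Parity of the first bits. -/
  par8 : ℕ → ℕ → Bool
    | 0, _ => false
    | n + 1, d => odd d ^^ par8 n (Nat.div d 2)

theorem hit_step : ((List.range 7).all fun r => allV fun v => (List.range 9).all fun i =>
    hit (ap (pX.getD r []) v) (step r i) == hit v i) = true := by decide +kernel

theorem pX_bound : pX.all (fun M => M.all fun c => Nat.blt c 256) = true := by decide +kernel

theorem hit_act : ∀ (w : List ℕ) (v : ℕ), v < 256 → ∀ i : Fin 9,
    hit (act pX w v) (permW w i).val = hit v i.val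
  | [], _, _, _ => rfl
  | r :: w, v, hv, i => by
    have hu := act_lt pX_bound w hv
    have h := List.all_eq_true.1 (allV_spec (List.all_eq_true.1 hit_step (r % 7)
      (List.mem_range.2 (Nat.mod_lt _ (by norm_num)))) hu) (permW w i).val (List.mem_range.2 (permW w i).isLt)
    have e : cx (r % 7) = cx r := by simp [cx, third]
    rw [← cx_val, e] at h
    rw [act, permW, Perm.mul_apply]
    exact (beq_iff_eq.1 h).trans (hit_act w v hv i)

theorem hit_ext {u v : ℕ} (hu : u < 256) (hv : v < 256) (h : ∀ i : Fin 9, hit u i.val = hit v i.val) : u = v := by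
  refine Nat.eq_of_testBit_eq fun i => ?_
  by_cases hi : i < 8
  · have := h ⟨i, by omega⟩
    have hb : Nat.beq i 8 = false := by
      rw [← Bool.not_eq_true]; intro e; exact absurd (Nat.eq_of_beq_eq_true e) (by omega)
    simp only [hit, hb, cond_false, odd_eq] at this
    rwa [show Nat.shiftRight u i = u >>> i from rfl, show Nat.shiftRight v i = v >>> i from rfl,
      Nat.testBit_shiftRight, Nat.testBit_shiftRight, Nat.add_zero] at this
  · have h8 : (256 : ℕ) ≤ 2 ^ i := le_trans (by norm_num) (Nat.pow_le_pow_right two_pos (show 8 ≤ i by omega))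
    rw [Nat.testBit_lt_two_pow (lt_of_lt_of_le hu h8), Nat.testBit_lt_two_pow (lt_of_lt_of_le hv h8)]

theorem cube_ok : ((List.range 7).all fun r => allV fun v =>
    Nat.beq (act pX [r, r, r] v) v) = true := by decide +kernel

theorem singular_ok : allV (fun v => Nat.beq v 0 || mP.q v || Nat.beq (mP.label v) 1 || Nat.beq (mP.label v) 3)
    = true ∧ (List.range 256).countP (fun v => !(Nat.beq v 0) && !(mP.q v)) = 135 := by decide +kernel

theorem rep_labels : mP.label 15 = 1 ∧ mP.label 255 = 3 ∧ repP.getD 1 0 = 15 ∧ repP.getD 3 0 = 255 := by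
  decide +kernel

/-- A nonzero singular code can be moved to one of two. -/
theorem singular_move {v : ℕ} (hv : v < 256) (h0 : v ≠ 0) (hq : mP.q v = false) :
    ∃ w, act pX w v = 15 ∨ act pX w v = 255 := by
  classical
  have inv : ∀ (t : ℕ), ∀ i u, u < 256 →
      decide (∃ w, act pX w (ap (gen mP.X i) u) = t) = decide (∃ w, act pX w u = t) := by
    intro t i u hu
    rw [decide_eq_decide]
    constructor
    · rintro ⟨w, hw⟩
      exact ⟨w ++ [i], by rw [act_append]; exact hw⟩
    · rintro ⟨w, hw⟩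
      have e : gen mP.X i = gen pX i := rfl
      have h3 := Nat.eq_of_beq_eq_true (allV_spec (List.all_eq_true.1 cube_ok (i % 7)
        (List.mem_range.2 (Nat.mod_lt _ (by norm_num)))) hu)
      have eg : ∀ z, ap (gen pX (i % 7)) z = ap (gen pX i) z := fun z => by simp [gen]
      refine ⟨w ++ [i % 7, i % 7], ?_⟩
      rw [act_append, e]
      have : act pX [i % 7, i % 7] (ap (gen pX i) u) = u := by
        rw [← eg]; exact h3
      rw [this, hw]
  have hl := allV_spec singular_ok.1 hv
  rw [hq, show Nat.beq v 0 = false by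
    rw [← Bool.not_eq_true]; exact fun e => h0 (Nat.eq_of_beq_eq_true e), Bool.false_or, Bool.false_or,
    Bool.or_eq_true] at hl
  rcases hl with e | e
  · obtain ⟨-, -, hf⟩ := label_spec formP (f := fun u => decide (∃ w, act pX w u = 15)) (inv 15) hv h0
    rw [Nat.eq_of_beq_eq_true e, show mP.rep.getD 1 0 = 15 from rep_labels.2.2.1] at hf
    have h15 : decide (∃ w, act pX w 15 = 15) = true := decide_eq_true ⟨[], rfl⟩
    rw [h15] at hf
    obtain ⟨w, hw⟩ := of_decide_eq_true hf
    exact ⟨w, Or.inl hw⟩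
  · obtain ⟨-, -, hf⟩ := label_spec formP (f := fun u => decide (∃ w, act pX w u = 255)) (inv 255) hv h0
    rw [Nat.eq_of_beq_eq_true e, show mP.rep.getD 3 0 = 255 from rep_labels.2.2.2] at hf
    have h15 : decide (∃ w, act pX w 255 = 255) = true := decide_eq_true ⟨[], rfl⟩
    rw [h15] at hf
    obtain ⟨w, hw⟩ := of_decide_eq_true hf
    exact ⟨w, Or.inr hw⟩

/-- The larger block of a canonical singular code. -/
theorem block (v : ℕ) (hv : v = 15 ∨ v = 255) :
    ∃ O : Finset (Fin 9), 5 ≤ O.card ∧ (∀ i j : Fin 9, i ∈ O → (hit v i.val = hit v j.val ↔ j ∈ O)) ∧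
      (4 : Fin 9) ∈ O ∧ 5 ∈ O ∧ 6 ∈ O ∧ 7 ∈ O ∧ (8 ∈ O ∨ ∀ j : Fin 9, j ∉ O → j = 8) := by
  rcases hv with rfl | rfl
  · exact ⟨{4, 5, 6, 7, 8}, by decide, by decide +kernel, by decide, by decide, by decide, by decide, by decide⟩
  · exact ⟨{0, 1, 2, 3, 4, 5, 6, 7}, by decide, by decide +kernel, by decide, by decide, by decide, by decide,
      by decide⟩

/-- **Elementary abelian sets of permutations normalised by the stabiliser of a code are small.** -/
theorem block_bound {v : ℕ} (hv : v = 15 ∨ v = 255) (T : Set (Perm (Fin 9)))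
    (hev : ∀ t ∈ T, Perm.sign t = 1) (hsq : ∀ t ∈ T, t * t = 1) (hcomm : ∀ s ∈ T, ∀ t ∈ T, s * t = t * s)
    (hfix : ∀ t ∈ T, ∀ i : Fin 9, hit v (t i).val = hit v i.val)
    (hconj : ∀ t ∈ T, ∀ s, Perm.sign s = 1 → (∀ i : Fin 9, hit v (s i).val = hit v i.val) →
      s * t * s⁻¹ ∈ T) : T.ncard ≤ 4 := by
  classical
  obtain ⟨O, h5, hO, m4, m5, m6, m7, h8⟩ := block v hv
  have hmem : ∀ t ∈ T, ∀ i, i ∈ O → t i ∈ O := fun t ht i hi => ((hO i (t i) hi).1 (hfix t ht i).symm)
  have hpt : ∀ t ∈ T, ∀ i ∈ O, t i = i := by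
    intro t ht x hx
    by_contra hxy
    set y := t x with hy
    have hyO : y ∈ O := hmem t ht x hx
    have hyx : t y = x := by rw [hy, ← Perm.mul_apply, hsq t ht]; rfl
    have hs : ∀ a b c : Fin 9, a ≠ b → b ≠ c → a ≠ c → a ∈ O → b ∈ O → c ∈ O →
        cy a b c * t * (cy a b c)⁻¹ ∈ T := by
      intro a b c hab hbc hac ha hb hc
      refine hconj t ht _ (sign_cy hab hbc) fun i => ?_
      obtain ⟨e1, e2, e3⟩ := cy_apply a b c hab hbc hac
      by_cases i1 : i = a
      · rw [i1, e1]; exact ((hO a b ha).2 hb).symm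
      by_cases i2 : i = b
      · rw [i2, e2]; exact ((hO b c hb).2 hc).symm
      by_cases i3 : i = c
      · rw [i3, e3]; exact ((hO c a hc).2 ha).symm
      rw [cy_apply_ne i1 i2 i3]
    by_cases hz : ∃ z ∈ O, t z = z
    · obtain ⟨z, hzO, hzz⟩ := hz
      have zx : z ≠ x := fun e => hxy (by rw [← e, hy]; subst e; exact hzz)
      have zy : z ≠ y := fun e => zx (t.injective (hzz.trans e))
      obtain ⟨e1, e2, e3⟩ := cy_apply x y z (Ne.symm hxy) (Ne.symm zy) (Ne.symm zx)
      have hu := hs x y z (Ne.symm hxy) (Ne.symm zy) (Ne.symm zx) hx hyO hzO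
      set s := cy x y z
      have uy : (s * t * s⁻¹) y = z := by
        rw [Perm.mul_apply, Perm.mul_apply, show s⁻¹ y = x from (Perm.inv_eq_iff_eq.2 e1.symm), ← hy, e2]
      have uz : (s * t * s⁻¹) z = y := by
        rw [Perm.mul_apply, Perm.mul_apply, show s⁻¹ z = y from (Perm.inv_eq_iff_eq.2 e2.symm), hyx, e1]
      have h := congrArg (fun p : Perm (Fin 9) => p z) (hcomm _ hu t ht)
      simp only [Perm.mul_apply (s * t * s⁻¹) t, Perm.mul_apply t (s * t * s⁻¹)] at h
      rw [uz, hzz, uz, hyx] at h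
      exact hxy h
    · push Not at hz
      obtain ⟨z, hzO, hz2⟩ : ∃ z ∈ O, z ∉ ({x, y} : Finset (Fin 9)) :=
        Finset.exists_mem_notMem_of_card_lt_card (lt_of_le_of_lt Finset.card_le_two (by omega))
      simp only [Finset.mem_insert, Finset.mem_singleton, not_or] at hz2
      obtain ⟨zx, zy⟩ := hz2
      obtain ⟨v', hvO, hv4⟩ : ∃ v' ∈ O, v' ∉ ({x, y, z, t z} : Finset (Fin 9)) :=
        Finset.exists_mem_notMem_of_card_lt_card (lt_of_le_of_lt Finset.card_le_four (by omega))
      simp only [Finset.mem_insert, Finset.mem_singleton, not_or] at hv4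
      obtain ⟨vx, vy, vz, vtz⟩ := hv4
      have tzx : t z ≠ x := fun e => zy (t.injective (e.trans hyx.symm))
      have tzy : t z ≠ y := fun e => zx (t.injective (e.trans hy))
      obtain ⟨e1, e2, e3⟩ := cy_apply x z v' (Ne.symm zx) (Ne.symm vz) (Ne.symm vx)
      have hu := hs x z v' (Ne.symm zx) (Ne.symm vz) (Ne.symm vx) hx hzO hvO
      set s := cy x z v' with hsdef
      have sy : s y = y := cy_apply_ne hxy (Ne.symm zy) (Ne.symm vy)
      have stz : s (t z) = t z := cy_apply_ne tzx (hz z hzO) (Ne.symm vtz)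
      have uz : (s * t * s⁻¹) z = y := by
        rw [Perm.mul_apply, Perm.mul_apply, show s⁻¹ z = x from (Perm.inv_eq_iff_eq.2 e1.symm), ← hy, sy]
      have utz : (s * t * s⁻¹) (t z) = v' := by
        rw [Perm.mul_apply, Perm.mul_apply, show s⁻¹ (t z) = t z from (Perm.inv_eq_iff_eq.2 stz.symm),
          show t (t z) = z by rw [← Perm.mul_apply, hsq t ht]; rfl, e2]
      have h := congrArg (fun p : Perm (Fin 9) => p z) (hcomm _ hu t ht)
      simp only [Perm.mul_apply (s * t * s⁻¹) t, Perm.mul_apply t (s * t * s⁻¹)] at h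
      rw [utz, uz, hyx] at h
      exact vx h
  have hfix8 : ∀ t ∈ T, t 8 = 8 := fun t ht => by
    rcases h8 with h | h
    · exact hpt t ht 8 h
    by_cases h' : (8 : Fin 9) ∈ O
    · exact hpt t ht 8 h'
    refine h _ fun hm => ?_
    have := hpt t ht _ hm
    exact h' ((t.injective this).symm ▸ hm)
  have h4 : ∀ t ∈ T, ∀ i : Fin 9, 4 ≤ i.val → t i = i := by
    intro t ht i hi
    fin_cases i <;> simp at hi
    · exact hpt t ht _ m4
    · exact hpt t ht _ m5
    · exact hpt t ht _ m6
    · exact hpt t ht _ m7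
    · exact hfix8 t ht
  have h0 : ∀ t ∈ T, (t 0).val < 4 := fun t ht => by
    by_contra hc
    push Not at hc
    have := t.injective ((h4 t ht (t 0) hc).trans rfl)
    rw [this] at hc
    simp at hc
  have hinj : Set.InjOn (fun t : Perm (Fin 9) => t 0) T := by
    intro t ht t' ht' e
    by_contra hne
    have hr : EvenInv (t * t') := by
      refine ⟨?_, fun h => hne ?_, by rw [map_mul, hev t ht, hev t' ht', one_mul]⟩
      · calc t * t' * (t * t') = t * (t' * t) * t' := by group
          _ = (t * t) * (t' * t') := by rw [← hcomm t ht t' ht']; group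
          _ = 1 := by rw [hsq t ht, hsq t' ht', one_mul]
      · calc t = t * (t' * t') := by rw [hsq t' ht', mul_one]
          _ = t' := by rw [← mul_assoc, h, one_mul]
    have hsub : (t * t').support ⊆ ({1, 2, 3} : Finset (Fin 9)) := by
      intro i hi
      rw [Perm.mem_support] at hi
      by_contra hc
      apply hi
      rw [Perm.mul_apply]
      by_cases h4i : 4 ≤ i.val
      · rw [h4 t' ht' i h4i, h4 t ht i h4i]
      · have : i = 0 := by
          fin_cases i <;> simp at hc h4i ⊢
        subst this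
        show t (t' 0) = 0
        rw [← show t 0 = t' 0 from e, ← Perm.mul_apply, hsq t ht]
        rfl
    have := Finset.card_le_card hsub
    have h3 : ({1, 2, 3} : Finset (Fin 9)).card = 3 := rfl
    rcases hr.support_card (Fintype.card_fin 9) with h | h <;> omega
  have himg : ((fun t : Perm (Fin 9) => t 0) '' T).ncard ≤ ({0, 1, 2, 3} : Finset (Fin 9)).card := by
    rw [← Set.ncard_coe_finset]
    refine Set.ncard_le_ncard ?_ (Finset.finite_toSet _)
    rintro _ ⟨t, ht, rfl⟩
    have := h0 t ht
    have key : ∀ j : Fin 9, j.val < 4 → j ∈ ({0, 1, 2, 3} : Finset (Fin 9)) := by decide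
    exact Finset.mem_coe.2 (key _ this)
  rw [Set.InjOn.ncard_image hinj] at himg
  exact himg.trans (by decide)

end Cfsg.Agent.ThRec.Eight
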