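import Cfsg.Agent.Lib.ThRec.FusionKey
import Cfsg.Agent.Lib.ThRec.ModuleBlocks
import Cfsg.Agent.Lib.FGBasics.Extraspecial

/-!
When `a` is fused into its extraspecial group, the module is not the permutation module: two such groups
would meet in an abelian subgroup that is too large.
-/

set_option autoImplicit false
set_option maxRecDepth 100000

namespace Cfsg.Agent.ThRec

open Equiv Eight

variable {G : Type*} [Group G] [Finite G] {a : G} {Q : Subgroup G}

/-- An abelian subgroup of `Q` has order at most 32. -/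
theorem abelian_card_le (S : Setup a Q) (A : Subgroup G) (hA : A ≤ Q)
    (hc : ∀ x ∈ A, ∀ y ∈ A, x * y = y * x) : Nat.card ↥A ≤ 32 := by
  haveI : _root_.Fact (Nat.Prime 2) := ⟨Nat.prime_two⟩
  have hA' : IsMulCommutative ↥(A.subgroupOf Q) :=
    ⟨⟨fun x y => Subtype.ext (Subtype.ext (hc _ (Subgroup.mem_subgroupOf.1 x.2) _ (Subgroup.mem_subgroupOf.1 y.2)))⟩⟩
  have h := FGBasics.XS.card_abelian_sq_le S.extra (A.subgroupOf Q) hA'
  rw [Nat.card_congr (Subgroup.subgroupOfEquivOfLe hA).toEquiv, S.card] at h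
  by_contra hlt
  have : 33 * 33 ≤ Nat.card ↥A * Nat.card ↥A := Nat.mul_le_mul (by omega) (by omega)
  omega

/-- The centraliser in `Q` of an element of `Q` has order at least 256. -/
theorem cent_card_ge (S : Setup a Q) {x : G} (hx : x ∈ Q) :
    256 ≤ Nat.card ↥(Q ⊓ Subgroup.centralizer {x}) := by
  haveI : _root_.Fact (Nat.Prime 2) := ⟨Nat.prime_two⟩
  have h := FGBasics.XS.centralizer_index_le S.extra (⟨x, hx⟩ : ↥Q)
  have h2 := Subgroup.card_mul_index (Subgroup.centralizer ({(⟨x, hx⟩ : ↥Q)} : Set ↥Q))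
  rw [S.card] at h2
  have e : (Subgroup.centralizer ({(⟨x, hx⟩ : ↥Q)} : Set ↥Q)).map Q.subtype ≤ Q ⊓ Subgroup.centralizer {x} := by
    rintro _ ⟨y, hy, rfl⟩
    exact ⟨y.2, Subgroup.mem_centralizer_singleton_iff.2
      (congrArg Subtype.val (Subgroup.mem_centralizer_singleton_iff.1 hy))⟩
  have h3 := Subgroup.card_le_of_le e
  rw [Subgroup.card_map_of_injective Q.subtype_injective] at h3
  by_contra hlt
  have := Nat.mul_le_mul (show Nat.card ↥(Subgroup.centralizer ({(⟨x, hx⟩ : ↥Q)} : Set ↥Q)) ≤ 255 by omega) h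
  omega

namespace Coords

variable {md : Md} (K : Coords a Q md)

include K in
theorem card_cent (S : Setup a Q) : Nat.card ↥(Subgroup.centralizer ({a} : Set G)) = Nat.card ↥Q * 181440 := by
  have hr : K.π.range = alternatingGroup (Fin 9) := by
    ext p
    exact ⟨fun ⟨x, hx⟩ => hx ▸ Perm.mem_alternatingGroup.2 (K.sign_π x),
      fun hp => K.surj p (Perm.mem_alternatingGroup.1 hp)⟩
  have hcardA : Nat.card ↥(alternatingGroup (Fin 9)) = 181440 := by
    have h2 := two_mul_nat_card_alternatingGroup (α := Fin 9)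
    rw [Nat.card_perm, Nat.card_eq_fintype_card (α := Fin 9), Fintype.card_fin] at h2
    have : Nat.factorial 9 = 362880 := by decide
    omega
  rw [← Subgroup.card_mul_index K.π.ker, Subgroup.index_ker, hr, hcardA]
  congr 1
  refine Nat.card_congr
    { toFun := fun x => ⟨(x.1 : G), (K.ker x.1).1 x.2⟩
      invFun := fun q => ⟨⟨q.1, S.le q.2⟩, (K.ker _).2 q.2⟩
      left_inv := fun x => rfl
      right_inv := fun q => rfl }

end Coords

/-- **The permutation module does not occur.** -/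
theorem no_perm (S : Setup a Q) (hf : Fused a Q) (K : Coords a Q mP) : False := by
  classical
  obtain ⟨g, hgQ, hne⟩ := hf
  have hcS : ∀ g : G, g * a * g⁻¹ * (g * a * g⁻¹) = 1 := fun g => by
    rw [show g * a * g⁻¹ * (g * a * g⁻¹) = g * (a * a) * g⁻¹ by group, S.fk_sq]; group
  -- move the code of the conjugate to a canonical one
  have hv0 : K.c (g * a * g⁻¹) ≠ 0 := fun e => by
    rcases (K.c_ker _ hgQ).1 e with h | h
    · exact S.fk_ne (conj_eq_one_iff.1 h)
    · exact hne h
  have hqv : mP.q (K.c (g * a * g⁻¹)) = false := by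
    have h := K.sq _ hgQ
    rw [hcS] at h
    cases hb : mP.q (K.c (g * a * g⁻¹))
    · rfl
    · rw [hb] at h; exact absurd h.symm S.fk_ne
  obtain ⟨w0, hw0⟩ := singular_move (K.c_lt _ hgQ) hv0 hqv
  obtain ⟨h0, hh0⟩ := K.surj (permW w0) (sign_permW w0)
  set g1 := (h0 : G) * g with hg1
  set c := g1 * a * g1⁻¹ with hc
  have hce : c = (h0 : G) * (g * a * g⁻¹) * (h0 : G)⁻¹ := by rw [hc, hg1]; group
  have hcQ : c ∈ Q := hce ▸ S.norm _ h0.2 _ hgQ
  set v := K.c c with hv
  have hv' : v = 15 ∨ v = 255 := by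
    rw [hv, hce, K.act h0 w0 hh0.symm _ hgQ]
    exact hw0
  have hvne : v ≠ 0 := by rcases hv' with e | e <;> rw [e] <;> decide
  have hc2 : c * c = 1 := hcS g1
  have hca : c ≠ a := fun e => hvne (by rw [hv, e, K.c_a S])
  have hc1 : c ≠ 1 := fun e => hvne (by rw [hv, e, K.c_one])
  have hcC : c ∈ Subgroup.centralizer ({a} : Set G) := S.le hcQ
  -- the other centraliser
  let C := Subgroup.centralizer ({a} : Set G)
  let D : Subgroup G := C ⊓ Subgroup.centralizer {c}
  have hDC : ∀ x ∈ D, x * a = a * x ∧ x * c = c * x := fun x hx =>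
    ⟨Subgroup.mem_centralizer_singleton_iff.1 hx.1, Subgroup.mem_centralizer_singleton_iff.1 hx.2⟩
  have hback : ∀ x ∈ D, g1⁻¹ * x * g1 ∈ C := fun x hx => by
    rw [Subgroup.mem_centralizer_singleton_iff]
    calc g1⁻¹ * x * g1 * a = g1⁻¹ * (x * (g1 * a * g1⁻¹)) * g1 := by group
      _ = g1⁻¹ * (g1 * a * g1⁻¹ * x) * g1 := by rw [← hc, (hDC x hx).2]
      _ = _ := by group
  let incl : ↥D →* ↥C := Subgroup.inclusion inf_le_left
  let back : ↥D →* ↥C :=
    { toFun := fun x => ⟨g1⁻¹ * x.1 * g1, hback x.1 x.2⟩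
      map_one' := Subtype.ext (by simp)
      map_mul' := fun x y => Subtype.ext (show g1⁻¹ * (x.1 * y.1) * g1 = g1⁻¹ * x.1 * g1 * (g1⁻¹ * y.1 * g1) by group) }
  let ρ : ↥D →* Perm (Fin 9) := K.π.comp back
  -- the orbit of `c`
  have hcount : Nat.card ↥C ≤ Nat.card ↥D * 270 := by
    let S0 := {q : G // q ∈ Q ∧ q * q = 1 ∧ K.c q ≠ 0}
    have hS : Nat.card S0 ≤ 270 := by
      let W := ((List.range 256).filter fun v => !(Nat.beq v 0) && !(mP.q v)).toFinset
      have hW : W.card ≤ 135 := by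
        refine (List.toFinset_card_le _).trans ?_
        rw [← List.countP_eq_length_filter]
        exact le_of_eq singular_ok.2
      have hmem : ∀ q : S0, K.c q.1 ∈ W := fun q => by
        simp only [W, List.mem_toFinset, List.mem_filter, List.mem_range, Bool.and_eq_true, Bool.not_eq_true']
        refine ⟨K.c_lt _ q.2.1, ?_, ?_⟩
        · rw [← Bool.not_eq_true]; exact fun e => q.2.2.2 (Nat.eq_of_beq_eq_true e)
        · have h := K.sq _ q.2.1
          rw [q.2.2.1] at h
          cases hb : mP.q (K.c q.1)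
          · rfl
          · rw [hb] at h; exact absurd h.symm S.fk_ne
      choose lift hlQ hlc using K.c_surj
      let f : S0 → ↥W × Bool := fun q => (⟨K.c q.1, hmem q⟩, decide (q.1 = lift (K.c q.1) (K.c_lt _ q.2.1)))
      have hf : Function.Injective f := by
        intro q r e
        simp only [f, Prod.mk.injEq, Subtype.mk.injEq] at e
        obtain ⟨e1, e2⟩ := e
        have el : lift (K.c q.1) (K.c_lt _ q.2.1) = lift (K.c r.1) (K.c_lt _ r.2.1) := by simp only [e1]
        have hq := K.c_eq (hlQ _ (K.c_lt _ q.2.1)) q.2.1 (hlc _ _)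
        have hr := K.c_eq (hlQ _ (K.c_lt _ r.2.1)) r.2.1 (hlc _ _)
        obtain ⟨b, hb⟩ := hq
        obtain ⟨b', hb'⟩ := hr
        refine Subtype.ext ?_
        rw [decide_eq_decide] at e2
        cases b <;> cases b' <;> simp only [tw, cond_true, cond_false, mul_one] at hb hb'
        · exact hb.trans (el.trans hb'.symm)
        · exact absurd (e2.1 hb) (fun h => S.fk_ne (mul_eq_left.1 (hb'.symm.trans h)))
        · exact absurd (e2.2 hb') (fun h => S.fk_ne (mul_eq_left.1 (hb.symm.trans h)))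
        · exact hb.trans ((congrArg (· * a) el).trans hb'.symm)
      have := Nat.card_le_card_of_injective f hf
      rw [Nat.card_prod, Nat.card_eq_finsetCard, show Nat.card Bool = 2 by simp] at this
      omega
    have himg : ∀ x : ↥C, (x : G) * c * (x : G)⁻¹ ∈ Q ∧ (x : G) * c * (x : G)⁻¹ * ((x : G) * c * (x : G)⁻¹) = 1 ∧
        K.c ((x : G) * c * (x : G)⁻¹) ≠ 0 := fun x => by
      have hm := S.norm _ x.2 _ hcQ
      refine ⟨hm, ?_, fun e => ?_⟩
      · rw [show (x : G) * c * (x : G)⁻¹ * ((x : G) * c * (x : G)⁻¹) = x * (c * c) * (x : G)⁻¹ by group, hc2]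
        group
      · have hxa := Subgroup.mem_centralizer_singleton_iff.1 x.2
        rcases (K.c_ker _ hm).1 e with h | h
        · exact hc1 (conj_eq_one_iff.1 h)
        · refine hca ?_
          calc c = (x : G)⁻¹ * ((x : G) * c * (x : G)⁻¹) * x := by group
            _ = a := by rw [h, mul_assoc, ← hxa]; group
    let o : ↥C → S0 := fun x => ⟨_, himg x⟩
    have hsel : ∀ s : S0, (∃ x, o x = s) → ∃ x, o x = s := fun s h => h
    let rep : S0 → ↥C := fun s => if h : ∃ x, o x = s then h.choose else 1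
    have hrep : ∀ x, o (rep (o x)) = o x := fun x => by
      have h : ∃ y, o y = o x := ⟨x, rfl⟩
      simp only [rep, dif_pos h]; exact h.choose_spec
    have hD : ∀ x : ↥C, ((rep (o x) : G)⁻¹ * x) ∈ D := fun x => by
      refine ⟨C.mul_mem (C.inv_mem (rep (o x)).2) x.2, Subgroup.mem_centralizer_singleton_iff.2 ?_⟩
      have e := congrArg Subtype.val (hrep x)
      change (rep (o x) : G) * c * (rep (o x) : G)⁻¹ = (x : G) * c * (x : G)⁻¹ at e
      calc (rep (o x) : G)⁻¹ * x * c = (rep (o x) : G)⁻¹ * ((x : G) * c * (x : G)⁻¹) * x := by group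
        _ = (rep (o x) : G)⁻¹ * ((rep (o x) : G) * c * (rep (o x) : G)⁻¹) * x := by rw [e]
        _ = _ := by group
    have hinj : Function.Injective fun x : ↥C => ((⟨_, hD x⟩ : ↥D), o x) := by
      intro x y e
      simp only [Prod.mk.injEq, Subtype.mk.injEq] at e
      have e2 : o x = o y := e.2
      refine Subtype.ext (mul_left_cancel (a := (rep (o x) : G)⁻¹) ?_)
      rw [e.1, e2]
    have := Nat.card_le_card_of_injective _ hinj
    rw [Nat.card_prod] at this
    exact this.trans (Nat.mul_le_mul le_rfl hS)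
  rw [K.card_cent S, S.card] at hcount
  -- the kernel of the second action
  let a' : G := g1⁻¹ * a * g1
  have ha'C : a' ∈ C := hback a ⟨Subgroup.mem_centralizer_singleton_iff.2 rfl,
    Subgroup.mem_centralizer_singleton_iff.2 (S.q_comm hcQ).symm⟩
  have hkerD : Nat.card ↥ρ.ker = Nat.card ↥(Q ⊓ Subgroup.centralizer {a'}) := by
    refine Nat.card_congr
      { toFun := fun x => ⟨g1⁻¹ * x.1.1 * g1, (K.ker _).1 x.2, ?_⟩
        invFun := fun q => ⟨⟨g1 * q.1 * g1⁻¹, ?_, ?_⟩, ?_⟩
        left_inv := fun x => Subtype.ext (Subtype.ext (by simp [mul_assoc]))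
        right_inv := fun q => Subtype.ext (by simp [mul_assoc]) }
    · refine Subgroup.mem_centralizer_singleton_iff.2 ?_
      show g1⁻¹ * x.1.1 * g1 * (g1⁻¹ * a * g1) = g1⁻¹ * a * g1 * (g1⁻¹ * x.1.1 * g1)
      calc g1⁻¹ * x.1.1 * g1 * (g1⁻¹ * a * g1) = g1⁻¹ * (x.1.1 * a) * g1 := by group
        _ = _ := by rw [(hDC _ x.1.2).1]; group
    · refine Subgroup.mem_centralizer_singleton_iff.2 ?_
      have h := Subgroup.mem_centralizer_singleton_iff.1 q.2.2
      calc g1 * q.1 * g1⁻¹ * a = g1 * (q.1 * (g1⁻¹ * a * g1)) * g1⁻¹ := by group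
        _ = g1 * (g1⁻¹ * a * g1 * q.1) * g1⁻¹ := by rw [h]
        _ = _ := by group
    · refine Subgroup.mem_centralizer_singleton_iff.2 ?_
      rw [hc]
      calc g1 * q.1 * g1⁻¹ * (g1 * a * g1⁻¹) = g1 * (q.1 * a) * g1⁻¹ := by group
        _ = _ := by rw [S.q_comm q.2.1]; group
    · show K.π (back _) = 1
      rw [K.ker]
      show g1⁻¹ * (g1 * q.1 * g1⁻¹) * g1 ∈ Q
      rw [show g1⁻¹ * (g1 * q.1 * g1⁻¹) * g1 = q.1 by group]; exact q.2.1
  have hD : Nat.card ↥D = Nat.card ↥ρ.ker * Nat.card ↥ρ.range := by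
    rw [← Subgroup.card_mul_index ρ.ker, Subgroup.index_ker]
  by_cases haR : a' ∈ Q
  · -- the two groups meet in a large abelian subgroup
    let E : Subgroup G := (ρ.ker).map D.subtype
    have hE : 256 ≤ Nat.card ↥E := by
      rw [Subgroup.card_map_of_injective D.subtype_injective, hkerD]
      exact cent_card_ge S haR
    have hEmem : ∀ x ∈ E, ∃ hx : x ∈ D, g1⁻¹ * x * g1 ∈ Q := by
      rintro _ ⟨y, hy, rfl⟩
      exact ⟨y.2, (K.ker _).1 hy⟩
    let πE : ↥E →* Perm (Fin 9) := (K.π.comp incl).comp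
      ((Subgroup.inclusion (Subgroup.map_subtype_le ρ.ker)))
    let T : Set (Perm (Fin 9)) := Set.range πE
    have hR : ∀ q : G, g1⁻¹ * q * g1 ∈ Q → q * q = 1 ∨ q * q = c := fun q hq => by
      have h := K.sq _ hq
      have e : q * q = g1 * (g1⁻¹ * q * g1 * (g1⁻¹ * q * g1)) * g1⁻¹ := by group
      cases hb : mP.q (K.c (g1⁻¹ * q * g1)) <;> rw [hb] at h <;> rw [e, h]
      · exact Or.inl (by simp [tw])
      · exact Or.inr rfl
    have hRc : ∀ q r : G, g1⁻¹ * q * g1 ∈ Q → g1⁻¹ * r * g1 ∈ Q → r * q = q * r ∨ r * q = q * r * c := by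
      intro q r hq hr
      have h := K.swap_mul S hq hr
      have e : r * q = g1 * (g1⁻¹ * r * g1 * (g1⁻¹ * q * g1)) * g1⁻¹ := by group
      cases hb : mP.B (K.c (g1⁻¹ * q * g1)) (K.c (g1⁻¹ * r * g1)) <;> rw [hb] at h <;> rw [e, h, hc]
      · left; simp [tw]; group
      · right; simp [tw]; group
    have hπc : ∀ x : ↥D, (x : G) = c → K.π (incl x) = 1 := fun x hx => (K.ker _).2 (hx ▸ hcQ)
    have hTcomm : ∀ s ∈ T, ∀ t ∈ T, s * t = t * s := by
      rintro _ ⟨⟨x, hx⟩, rfl⟩ _ ⟨⟨y, hy⟩, rfl⟩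
      obtain ⟨xD, xQ⟩ := hEmem x hx
      obtain ⟨yD, yQ⟩ := hEmem y hy
      show K.π (incl ⟨x, xD⟩) * K.π (incl ⟨y, yD⟩) = K.π (incl ⟨y, yD⟩) * K.π (incl ⟨x, xD⟩)
      rw [← map_mul, ← map_mul, ← map_mul, ← map_mul]
      rcases hRc y x yQ xQ with h | h
      · congr 2; exact Subtype.ext h
      · have hcD : c ∈ D := ⟨hcC, Subgroup.mem_centralizer_singleton_iff.2 rfl⟩
        rw [show (⟨x, xD⟩ : ↥D) * ⟨y, yD⟩ = ⟨y, yD⟩ * ⟨x, xD⟩ * ⟨c, hcD⟩ from Subtype.ext h, map_mul, map_mul,
          hπc ⟨c, hcD⟩ rfl, mul_one, map_mul]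
    have hTsq : ∀ t ∈ T, t * t = 1 := by
      rintro _ ⟨⟨x, hx⟩, rfl⟩
      obtain ⟨xD, xQ⟩ := hEmem x hx
      show K.π (incl ⟨x, xD⟩) * K.π (incl ⟨x, xD⟩) = 1
      rw [← map_mul, ← map_mul, K.ker]
      show x * x ∈ Q
      rcases hR x xQ with h | h <;> rw [h]
      · exact Q.one_mem
      · exact hcQ
    have hTev : ∀ t ∈ T, Perm.sign t = 1 := by
      rintro _ ⟨x, rfl⟩
      exact K.sign_π _
    have hTfix : ∀ t ∈ T, ∀ i : Fin 9, hit v (t i).val = hit v i.val := by
      rintro _ ⟨⟨x, hx⟩, rfl⟩ i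
      obtain ⟨xD, -⟩ := hEmem x hx
      show hit v (K.π (incl ⟨x, xD⟩) i).val = hit v i.val
      obtain ⟨w, hw⟩ := exists_word (K.sign_π (incl ⟨x, xD⟩))
      have h := K.act (incl ⟨x, xD⟩) w hw c hcQ
      have e : ((incl ⟨x, xD⟩ : ↥C) : G) * c * ((incl ⟨x, xD⟩ : ↥C) : G)⁻¹ = c := by
        show x * c * x⁻¹ = c
        rw [(hDC x xD).2, mul_inv_cancel_right]
      rw [e, ← hv] at h
      have h2 := hit_act w v (by rcases hv' with e | e <;> rw [e] <;> decide) i
      rw [show act pX w v = v from h.symm, hw] at h2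
      exact h2
    have hTconj : ∀ t ∈ T, ∀ s, Perm.sign s = 1 → (∀ i : Fin 9, hit v (s i).val = hit v i.val) →
        s * t * s⁻¹ ∈ T := by
      rintro _ ⟨⟨x, hx⟩, rfl⟩ s hs hsv
      obtain ⟨xD, xQ⟩ := hEmem x hx
      obtain ⟨h, hh⟩ := K.surj s hs
      obtain ⟨w, hw⟩ := exists_word hs
      have hvlt : v < 256 := by rcases hv' with e | e <;> rw [e] <;> decide
      have hact : act pX w v = v := by
        refine hit_ext (act_lt pX_bound w hvlt) hvlt fun i => ?_
        obtain ⟨j, rfl⟩ := (permW w).surjective i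
        rw [hit_act w v hvlt j, hw, hsv]
      have hcode := K.act h w (hw.trans hh.symm) c hcQ
      rw [← hv, show act mP.X w v = v from hact, hv] at hcode
      obtain ⟨b, hb⟩ := K.c_eq hcQ (S.norm _ h.2 _ hcQ) hcode.symm
      obtain ⟨r, hrQ, hr⟩ : ∃ r ∈ Q, r * ((h : G) * c * (h : G)⁻¹) * r⁻¹ = c := by
        cases b
        · exact ⟨1, Q.one_mem, by simp [hb, tw]⟩
        · obtain ⟨r, hr, hrc⟩ : ∃ r ∈ Q, r * c ≠ c * r := by
            by_contra hc'
            push Not at hc'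
            have hZ : (⟨c, hcQ⟩ : ↥Q) ∈ Subgroup.center ↥Q :=
              Subgroup.mem_center_iff.2 fun y => Subtype.ext (hc' y.1 y.2)
            haveI : Finite (Subgroup.center ↥Q) := inferInstance
            have haZ : (⟨a, S.a_mem⟩ : ↥Q) ∈ Subgroup.center ↥Q :=
              Subgroup.mem_center_iff.2 fun y => Subtype.ext (S.q_comm y.2)
            obtain ⟨z, hz1, hz2⟩ := (Nat.card_eq_two_iff' (1 : Subgroup.center ↥Q)).1 S.extra.2
            have e1 := hz2 ⟨_, hZ⟩ (fun e => hc1 (congrArg (fun y : Subgroup.center ↥Q => (y.1 : G)) e))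
            have e2 := hz2 ⟨_, haZ⟩ (fun e => S.fk_ne (congrArg (fun y : Subgroup.center ↥Q => (y.1 : G)) e))
            exact hca (congrArg (fun y : Subgroup.center ↥Q => (y.1 : G)) (e1.trans e2.symm))
          refine ⟨r, hr, ?_⟩
          have hsw := K.swap_mul S hcQ hr
          cases hB : mP.B (K.c c) (K.c r) <;> rw [hB] at hsw
          · exact absurd (by simpa [tw] using hsw) hrc
          simp only [tw, cond_true] at hsw hb
          rw [hb]
          calc r * (c * a) * r⁻¹ = r * c * (a * r⁻¹) := by group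
            _ = c * r * a * (a * r⁻¹) := by rw [hsw]
            _ = c * r * (a * a) * r⁻¹ := by group
            _ = c := by rw [S.fk_sq]; group
      let h' : G := r * h
      have h'C : h' ∈ C := C.mul_mem (S.le hrQ) h.2
      have h'D : h' ∈ D := ⟨h'C, Subgroup.mem_centralizer_singleton_iff.2 (by
        have e : h' * c * h'⁻¹ = c := by
          show r * (h : G) * c * (r * (h : G))⁻¹ = c
          refine Eq.trans ?_ hr; group
        calc h' * c = h' * c * h'⁻¹ * h' := by group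
          _ = _ := by rw [e])⟩
      have hπh : K.π (incl ⟨h', h'D⟩) = s := by
        rw [show incl ⟨h', h'D⟩ = (⟨r, S.le hrQ⟩ : ↥C) * h from Subtype.ext rfl, map_mul, hh,
          (K.ker _).2 hrQ, one_mul]
      have hxE : h' * x * h'⁻¹ ∈ E := by
        have hker : (⟨x, xD⟩ : ↥D) ∈ ρ.ker := (K.ker _).2 xQ
        exact ⟨_, (inferInstance : ρ.ker.Normal).conj_mem _ hker ⟨h', h'D⟩, rfl⟩
      refine ⟨⟨_, hxE⟩, ?_⟩
      show K.π (incl ⟨h' * x * h'⁻¹, _⟩) = s * K.π (incl ⟨x, xD⟩) * s⁻¹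
      rw [← hπh, ← map_mul, ← map_inv, ← map_mul]
      rfl
    have hT4 := block_bound hv' T hTev hTsq hTcomm hTfix hTconj
    have hrange : Nat.card ↥πE.range ≤ 4 := by
      have e : Nat.card ↥πE.range = T.ncard := by rw [← Nat.card_coe_set_eq]; rfl
      omega
    let A : Subgroup G := E ⊓ Q
    have hAle : Nat.card ↥πE.ker ≤ Nat.card ↥A := by
      refine Nat.card_le_card_of_injective (fun x => (⟨x.1.1, x.1.2, (K.ker _).1 x.2⟩ : ↥A)) fun x y e => ?_
      exact Subtype.ext (Subtype.ext (congrArg (fun z : ↥A => (z : G)) e))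
    have hA32 : Nat.card ↥A ≤ 32 := abelian_card_le S A inf_le_right fun x hx y hy => by
      obtain ⟨-, xQ⟩ := hEmem x hx.1
      obtain ⟨-, yQ⟩ := hEmem y hy.1
      rcases hRc y x yQ xQ with h | h
      · exact h
      have h2 := K.swap_mul S hy.2 hx.2
      rw [h] at h2
      have := mul_left_cancel h2
      cases hB : mP.B (K.c y) (K.c x) <;> rw [hB] at this <;> simp [tw] at this
      · exact absurd this hc1
      · exact absurd this hca
    have hEcard : Nat.card ↥E = Nat.card ↥πE.ker * Nat.card ↥πE.range := by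
      rw [← Subgroup.card_mul_index πE.ker, Subgroup.index_ker]
    have := Nat.mul_le_mul (hAle.trans hA32) hrange
    omega
  · -- the centraliser of an involution of the alternating group is too small
    let aD : ↥D := ⟨a, Subgroup.mem_centralizer_singleton_iff.2 rfl,
      Subgroup.mem_centralizer_singleton_iff.2 (S.q_comm hcQ).symm⟩
    have hinv : EvenInv (ρ aD) := by
      refine ⟨?_, fun e => haR ((K.ker _).1 e), K.sign_π _⟩
      rw [← map_mul, show aD * aD = 1 from Subtype.ext S.fk_sq, map_one]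
    have hrange : Nat.card ↥ρ.range ≤ 480 := by
      refine le_trans (Nat.card_le_card_of_injective (fun p : ↥ρ.range =>
        (⟨p.1, ?_, ?_⟩ : {τ : Perm (Fin 9) // Perm.sign τ = 1 ∧ τ * ρ aD = ρ aD * τ})) ?_)
        (hinv.card_centralizer (Fintype.card_fin 9))
      · obtain ⟨x, hx⟩ := p.2
        rw [← hx]; exact K.sign_π _
      · obtain ⟨x, hx⟩ := p.2
        rw [← hx, ← map_mul, ← map_mul]
        congr 1
        exact Subtype.ext (hDC x.1 x.2).1
      · intro p q e
        simp only [Subtype.mk.injEq] at e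
        exact Subtype.ext e
    have hker : Nat.card ↥ρ.ker ≤ 256 := by
      rw [hkerD]
      have hlt : Q ⊓ Subgroup.centralizer {a'} ≠ Q := fun e => haR (S.self a' ha'C fun q hq =>
        (Subgroup.mem_centralizer_singleton_iff.1 (e.symm ▸ hq : q ∈ Q ⊓ Subgroup.centralizer {a'}).2).symm)
      have hdvd := Subgroup.card_dvd_of_le (inf_le_left : Q ⊓ Subgroup.centralizer {a'} ≤ Q)
      rw [S.card] at hdvd
      have hne : Nat.card ↥(Q ⊓ Subgroup.centralizer {a'}) ≠ 512 := fun e =>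
        hlt (Subgroup.eq_of_le_of_card_ge inf_le_left (by rw [e, S.card]))
      obtain ⟨k, hk, hk'⟩ := (Nat.dvd_prime_pow Nat.prime_two).1 (show _ ∣ 2 ^ 9 from hdvd)
      rw [hk'] at hne ⊢
      interval_cases k <;> omega
    have := Nat.mul_le_mul hker hrange
    omega

end Cfsg.Agent.ThRec
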