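import Cfsg.Agent.Lib.ThRec.ModuleCoord
import Cfsg.Agent.Lib.ThRec.ModuleNoPerm
import Cfsg.Agent.Lib.ThRec.ModuleIso
import Cfsg.Agent.Lib.ThRec.ModelFacts
import Cfsg.Agent.Lib.ThRec.Fusion

/-!
The centraliser acts on its extraspecial subgroup as the model does.
-/

set_option autoImplicit false
set_option maxRecDepth 100000

namespace Cfsg.Agent.ThRec

open Cfsg.Agent.HN Cfsg.Agent.Th Cfsg.Agent.ThOut

noncomputable section

open Subgroup in
theorem extraspecial_iso {A B : Type*} [Group A] [Group B] (e : A ≃* B) {p : ℕ}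
    (h : Cfsg.IsExtraspecial p A) : Cfsg.IsExtraspecial p B := by
  obtain ⟨⟨hp, hf, hc⟩, hz⟩ := h
  have hcen : (center A).map e.toMonoidHom = center B := by
    ext b
    constructor
    · rintro ⟨a, ha, rfl⟩
      refine mem_center_iff.2 fun x => ?_
      obtain ⟨x, rfl⟩ := e.surjective x
      show e x * e a = e a * e x
      rw [← map_mul, ← map_mul, mem_center_iff.1 ha x]
    · intro hb
      refine ⟨e.symm b, mem_center_iff.2 fun x => e.injective ?_, e.apply_symm_apply b⟩
      rw [map_mul, map_mul, e.apply_symm_apply, mem_center_iff.1 hb (e x)]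
  have hfr : (frattini A).map e.toMonoidHom = frattini B := by
    refine le_antisymm (map_le_iff_le_comap.2
      (frattini_le_comap_frattini_of_surjective (φ := e.toMonoidHom) e.surjective)) fun x hx => ?_
    exact ⟨e.symm x, frattini_le_comap_frattini_of_surjective (φ := e.symm.toMonoidHom) e.symm.surjective hx,
      e.apply_symm_apply x⟩
  have hcm : (commutator A).map e.toMonoidHom = commutator B := by
    rw [commutator_def, commutator_def, map_commutator, map_top_of_surjective _ e.surjective]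
  refine ⟨⟨hp.of_equiv e, ?_, ?_⟩, ?_⟩
  · rw [← hfr, hf, hcen]
  · rw [← hcm, hc, hcen]
  · rw [← hcen, card_map_of_injective e.injective, hz]

/-- A fused centraliser has coordinates in the spin module. -/
theorem exists_spin {G : Type*} [Group G] [Finite G] {a : G} {Q : Subgroup G} (S : Setup a Q)
    (hf : Fused a Q) : Nonempty (Coords a Q Eight.mS) :=
  S.exists_coords.resolve_right fun ⟨K⟩ => no_perm S hf K

/-- The model satisfies the hypotheses. -/
theorem setup_model : Setup (g11 0) Q0 ∧ Fused (g11 0) Q0 := by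
  haveI : _root_.Fact (Nat.Prime 2) := ⟨Nat.prime_two⟩
  obtain ⟨n0, n2, n20⟩ := a0_ne
  obtain ⟨g, hg⟩ : ∃ g : Cfsg.Spor.Th, g * g11 0 * g⁻¹ = g11 2 := by
    have hok : eqS false (winv iv11 [1, 0, 2, 1] ++ [0] ++ [1, 0, 2, 1]) [2] = true := by decide +kernel
    have e := eqS_eq hok
    simp only [wv_append, wv_winv g11 g11_inv, wv_singleton] at e
    exact ⟨(wv g11 [1, 0, 2, 1])⁻¹, by rw [inv_inv, ← e]⟩
  have hne : g * g11 0 * g⁻¹ ≠ g11 0 := by rw [hg]; exact n20
  refine ⟨?_, g, hg ▸ c0_mem_Q0, hne⟩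
  refine
    { ha := orderOf_eq_prime (by rw [pow_two]; exact sq_one 0 (by norm_num)) n0
      le := Q0_le
      norm := fun x hx q hq => conj_mem_Q0 hx hq
      extra := ?_
      card := card_Q0
      self := fun x hx h => ?_
      quot := ⟨nineHom, toNine_range hC0 hcard0, ?_⟩
      moved := ⟨g, Q0_le (hg ▸ c0_mem_Q0), hne⟩ }
  · exact extraspecial_iso ((toNine hC0 hcard0).ker.equivMapOfInjective CA.subtype CA.subtype_injective)
      (ker_extraspecial hC0 hcard0 psi_injective)
  · rcases centralizer_Q0 hx h with rfl | rfl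
    · exact one_mem _
    · exact a0_mem_Q0
  · ext x
    exact Iff.trans (MonoidHom.mem_ker (f := nineHom) (x := x))
      ((mem_Q0_iff (x := x)).symm.trans Subgroup.mem_subgroupOf.symm)

/-- **The frame.** -/
theorem exists_frame {G : Type*} [Group G] [Finite G] {a : G} {Q : Subgroup G} (S : Setup a Q) :
    ∃ θ : ↥Q0 ≃* ↥Q, Frame a Q θ := by
  haveI : Finite Cfsg.Spor.Th := finite_th
  obtain ⟨S0, hf0⟩ := setup_model
  obtain ⟨K0⟩ := exists_spin S0 hf0
  obtain ⟨K⟩ := exists_spin S (Cfsg.Agent.ThRec.fused S)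
  obtain ⟨θ, ha, hact⟩ := exists_act S0 S K0 K
  exact ⟨θ, ⟨ha, hact⟩⟩

end

end Cfsg.Agent.ThRec
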