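import Cfsg.Agent.Lib.ThRec.LocalData
import Cfsg.Agent.Lib.ThRec.Module
import Cfsg.Agent.Lib.ThRec.Finish
import Cfsg.Agent.Lib.SEBrick.Basic
import Cfsg.Agent.S0215
import Cfsg.Prelude.Def_Spor_Th
import Cfsg.Agent.Lib.Th.Final

/-!
A finite group with an involution whose centraliser is an extension of an extraspecial group of order 512 by
the alternating group of degree nine is the Thompson group, unless the involution is central modulo the odd
core.
-/

set_option autoImplicit false
set_option maxRecDepth 100000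
set_option Elab.async false
set_option linter.style.haveILetI false

namespace Cfsg.Agent.ThRec

open Cfsg.Agent.HN Cfsg.Agent.Th Cfsg.Agent.ThOut

noncomputable section

variable {G : Type*} [Group G] [Finite G]

/-- An involution with no further conjugate in its centraliser is central modulo a normal subgroup of odd
order. -/
theorem isolated_case (z : G) (hz : orderOf z = 2)
    (h : ∀ g : G, g * z * g⁻¹ ∈ Subgroup.centralizer ({z} : Set G) → g * z * g⁻¹ = z) :
    ∃ N : Subgroup G, N.Normal ∧ Odd (Nat.card N) ∧ Subgroup.centralizer ({z} : Set G) ⊔ N = ⊤ := by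
  classical
  set C := Subgroup.centralizer ({z} : Set G) with hC
  haveI : Fact (Nat.Prime 2) := ⟨Nat.prime_two⟩
  have hzz : z * z = 1 := by rw [← pow_two, ← hz, pow_orderOf_eq_one]
  have hzi : z⁻¹ = z := inv_eq_of_mul_eq_one_left hzz
  have hZ : IsPGroup 2 ↥(Subgroup.zpowers z) :=
    IsPGroup.of_card (n := 1) (by rw [Nat.card_zpowers, hz, pow_one])
  have hindex : ¬ 2 ∣ C.index := by
    intro hdvd
    have hmod := hZ.card_modEq_card_fixedPoints (G ⧸ C)
    have hfix : MulAction.fixedPoints ↥(Subgroup.zpowers z) (G ⧸ C) = {((1 : G) : G ⧸ C)} := by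
      ext x
      obtain ⟨g, rfl⟩ := QuotientGroup.mk_surjective x
      simp only [MulAction.mem_fixedPoints, Set.mem_singleton_iff]
      constructor
      · intro hf
        have e := hf ⟨z, Subgroup.mem_zpowers z⟩
        have e' : ((z * g : G) : G ⧸ C) = (g : G ⧸ C) := e
        rw [QuotientGroup.eq] at e'
        have e2 : g⁻¹ * z * g ∈ C := by
          have := C.inv_mem e'
          simpa [mul_assoc, hzi] using this
        have e3 := h g⁻¹ (by rwa [inv_inv])
        rw [inv_inv] at e3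
        rw [QuotientGroup.eq, mul_one, Subgroup.inv_mem_iff, hC, Subgroup.mem_centralizer_singleton_iff]
        calc g * z = g * (g⁻¹ * z * g) := by rw [e3]
          _ = z * g := by group
      · intro hg v
        rw [hg]
        show (((v : G) * 1 : G) : G ⧸ C) = ((1 : G) : G ⧸ C)
        rw [QuotientGroup.eq, mul_one, mul_one]
        refine C.inv_mem ?_
        exact (Subgroup.zpowers_le.2 (Subgroup.mem_centralizer_singleton_iff.2 rfl)) v.2
    rw [hfix, Nat.card_eq_fintype_card (α := ({((1 : G) : G ⧸ C)} : Set (G ⧸ C))), Set.card_singleton] at hmod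
    rw [← Subgroup.index_eq_card] at hmod
    unfold Nat.ModEq at hmod
    omega
  let z' : ↥C := ⟨z, Subgroup.mem_centralizer_singleton_iff.2 rfl⟩
  have hz' : orderOf z' = 2 := by rw [← Subgroup.orderOf_coe]; exact hz
  obtain ⟨R, hR⟩ := (IsPGroup.of_card (n := 1)
    (by rw [Nat.card_zpowers, hz', pow_one]) : IsPGroup 2 ↥(Subgroup.zpowers z')).exists_le_sylow
  have hRcard : Nat.card ↥((R : Subgroup ↥C).map C.subtype) = 2 ^ (Nat.card G).factorization 2 := by
    rw [Subgroup.card_map_of_injective C.subtype_injective, R.card_eq_multiplicity]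
    congr 1
    rw [← C.card_mul_index, Nat.factorization_mul Nat.card_pos.ne' Subgroup.index_ne_zero_of_finite]
    simp [Nat.factorization_eq_zero_of_not_dvd hindex]
  let P : Sylow 2 G := Sylow.ofCard ((R : Subgroup ↥C).map C.subtype) hRcard
  have hPle : ∀ x ∈ P, x ∈ C := by
    intro x hx
    have hx' : x ∈ (R : Subgroup ↥C).map C.subtype := hx
    obtain ⟨y, -, rfl⟩ := hx'
    exact y.2
  have hzP : z ∈ P := by
    show z ∈ ((P : Subgroup G))
    simp only [P, Sylow.coe_ofCard]
    exact ⟨z', hR (Subgroup.mem_zpowers z'), rfl⟩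
  obtain ⟨N, hN, hodd, hcomm⟩ :=
    Cfsg.Agent.S0215.result P z hz hzP fun g hg => h g (hPle _ hg)
  refine ⟨N, hN, hodd, eq_top_iff.2 fun g _ => ?_⟩
  set n := g⁻¹ * z * g * z with hn
  have hzn : z * n * z = n⁻¹ := by
    calc z * n * z = z * g⁻¹ * z * g * (z * z) := by rw [hn]; group
      _ = z⁻¹ * g⁻¹ * z⁻¹ * g := by rw [hzz, hzi, mul_one]
      _ = n⁻¹ := by rw [hn]; group
  have hnN : n ∈ N := by
    rw [← inv_mem_iff, ← hzn]
    convert hcomm g⁻¹ using 1
    calc z * n * z = z * g⁻¹ * z * g * (z * z) := by rw [hn]; group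
      _ = _ := by rw [hzz, mul_one, hzi, inv_inv]
  obtain ⟨k, hk⟩ := hodd
  set r := n ^ (k + 1) with hr
  have hrN : r ∈ N := N.pow_mem hnN _
  have hr2 : r * r = n := by
    have h1 : n ^ (2 * k + 1) = 1 := by
      rw [← hk]
      exact congrArg Subtype.val (pow_card_eq_one' (x := (⟨n, hnN⟩ : ↥N)))
    rw [hr, ← pow_add, show k + 1 + (k + 1) = 2 * k + 1 + 1 by ring, pow_succ, h1, one_mul]
  have hzr : z * r⁻¹ = r * z := by
    have e : z * r * z = r⁻¹ := by
      have hc : ∀ m : ℕ, z * n ^ m * z = (z * n * z) ^ m := fun m => by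
        have := (conj_pow (i := m) (a := z) (b := n)).symm
        rwa [hzi] at this
      rw [hr, hc, hzn, inv_pow]
    rw [← e]
    calc z * (z * r * z) = z * z * (r * z) := by group
      _ = r * z := by rw [hzz, one_mul]
  have e1 : g⁻¹ * z * g = r * z * r⁻¹ := by
    calc g⁻¹ * z * g = n * z⁻¹ := by rw [hn]; group
      _ = r * r * z := by rw [hzi, hr2]
      _ = r * z * r⁻¹ := by rw [mul_assoc r z, hzr, mul_assoc]
  have hgr : g * r ∈ C := by
    refine Subgroup.mem_centralizer_singleton_iff.2 ?_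
    calc g * r * z = g * (r * z * r⁻¹) * r := by group
      _ = g * (g⁻¹ * z * g) * r := by rw [e1]
      _ = z * (g * r) := by group
  rw [show g = g * r * r⁻¹ by group]
  exact Subgroup.mul_mem_sup hgr (N.inv_mem hrN)

/-- **The recognition**, from a non-isolated involution. -/
theorem recognition {a : G} {Q : Subgroup G} (S : Setup a Q) :
    Nonempty (G ≃* Cfsg.Spor.Th) ∧ ∀ x y : G, orderOf x = 2 → orderOf y = 2 → IsConj x y := by
  obtain ⟨θ, F⟩ := exists_frame S
  have hf := fused S
  obtain ⟨φ, M, hQ⟩ := exists_model S F hf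
  obtain ⟨g, hga, hgc⟩ := exists_swap S F hf
  have hc : imW φ [2] = cImg θ := by
    rw [imW_el (w := [2]) rfl]
    exact hQ ⟨g11 2, c0_mem_Q0⟩ _ (wv_singleton g11 2)
  have P : Duo a Q θ φ g := ⟨S, M, hQ, by rw [hc]; exact hga, by rw [hc]; exact hgc⟩
  obtain ⟨b, L⟩ := P.exists_local
  have hcent : Subgroup.centralizer ({L.hom (g11 0)} : Set G) ≤ L.hom.range := by
    rw [L.hom_g11, gB_im (φ := φ) (by norm_num) b, P.im_a, ← M.range]
    rintro _ ⟨x, rfl⟩
    exact ⟨(x : Cfsg.Spor.Th), L.hom_CA x⟩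
  have hinj := L.hom_injective
  refine ⟨⟨(MulEquiv.ofBijective L.hom ⟨hinj, ?_⟩).symm⟩, conj_involutions L.hom hinj hcent⟩
  exact MonoidHom.range_eq_top.1 (range_eq_top L.hom hinj hcent)

/-- The setting from a subgroup of the centraliser. -/
theorem exists_setup {z : G} (hz : orderOf z = 2) (J : Subgroup ↥(Subgroup.centralizer ({z} : Set G))) [J.Normal]
    (hJ : Cfsg.IsExtraspecial 2 ↥J) (hc : Nat.card ↥J = 2 ^ 9)
    (hCJ : Subgroup.centralizer (J : Set ↥(Subgroup.centralizer ({z} : Set G))) ≤ J)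
    (e : ↥(Subgroup.centralizer ({z} : Set G)) ⧸ J ≃* ↥(alternatingGroup (Fin 9)))
    (hmoved : ∃ g : G, g * z * g⁻¹ ∈ Subgroup.centralizer {z} ∧ g * z * g⁻¹ ≠ z) :
    ∃ Q : Subgroup G, Setup z Q := by
  refine ⟨J.map (Subgroup.centralizer ({z} : Set G)).subtype, ?_⟩
  let i : ↥J ≃* ↥(J.map (Subgroup.centralizer ({z} : Set G)).subtype) :=
    J.equivMapOfInjective _ (Subgroup.subtype_injective _)
  refine
    { ha := hz
      le := Subgroup.map_subtype_le _
      norm := ?_
      extra := extraspecial_iso i hJ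
      card := by rw [← Nat.card_congr i.toEquiv, hc]; norm_num
      self := ?_
      quot := ?_
      moved := hmoved }
  · rintro x hx _ ⟨q, hq, rfl⟩
    exact ⟨⟨x, hx⟩ * q * ⟨x, hx⟩⁻¹, ‹J.Normal›.conj_mem q hq _, rfl⟩
  · intro x hx h
    refine ⟨⟨x, hx⟩, hCJ ?_, rfl⟩
    rw [Subgroup.mem_centralizer_iff]
    intro q hq
    exact Subtype.ext (h _ ⟨q, hq, rfl⟩).symm
  · refine ⟨((alternatingGroup (Fin 9)).subtype.comp e.toMonoidHom).comp (QuotientGroup.mk' J), ?_, ?_⟩
    · refine le_antisymm ?_ fun σ hσ => ?_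
      · rintro _ ⟨x, rfl⟩; exact (e _).2
      · obtain ⟨x, hx⟩ := QuotientGroup.mk_surjective (e.symm ⟨σ, hσ⟩)
        exact ⟨x, by show ((e (QuotientGroup.mk x)) : Equiv.Perm (Fin 9)) = σ; rw [hx, e.apply_symm_apply]⟩
    · ext x
      rw [MonoidHom.mem_ker, Subgroup.mem_subgroupOf]
      show ((e (QuotientGroup.mk x)) : Equiv.Perm (Fin 9)) = 1 ↔ _
      rw [OneMemClass.coe_eq_one, MulEquiv.map_eq_one_iff, QuotientGroup.eq_one_iff]
      constructor
      · exact fun h => ⟨x, h, rfl⟩
      · rintro ⟨y, hy, e'⟩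
        exact (Subtype.ext e' : y = x) ▸ hy

/-- A simple group has no such isolated involution. -/
theorem moved_of_simple [IsSimpleGroup G] {z : G} (hz : orderOf z = 2)
    {J : Subgroup ↥(Subgroup.centralizer ({z} : Set G))} (hJ : Cfsg.IsExtraspecial 2 ↥J)
    (hJc : Nat.card ↥J = 2 ^ 9) :
    ∃ g : G, g * z * g⁻¹ ∈ Subgroup.centralizer {z} ∧ g * z * g⁻¹ ≠ z := by
  by_contra hc
  push Not at hc
  obtain ⟨N, hN, hodd, htop⟩ := isolated_case z hz hc
  have hNbot : N = ⊥ := by
    refine hN.eq_bot_or_eq_top.resolve_right fun e => ?_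
    rw [e, Subgroup.card_top] at hodd
    exact (Nat.not_even_iff_odd.2 hodd) (even_iff_two_dvd.2 (hz ▸ orderOf_dvd_natCard z))
  rw [hNbot, sup_bot_eq] at htop
  have hzc : z ∈ Subgroup.center G := Subgroup.mem_center_iff.2 fun g =>
    Subgroup.mem_centralizer_singleton_iff.1 (htop ▸ Subgroup.mem_top g)
  have hz1 : z ≠ 1 := fun e => by rw [e, orderOf_one] at hz; omega
  have hcen : Subgroup.center G = ⊤ :=
    (inferInstance : (Subgroup.center G).Normal).eq_bot_or_eq_top.resolve_left fun e =>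
      hz1 (Subgroup.mem_bot.1 (e ▸ hzc))
  have hall : Subgroup.center ↥J = ⊤ := by
    refine eq_top_iff.2 fun x _ => Subgroup.mem_center_iff.2 fun y => Subtype.ext (Subtype.ext ?_)
    exact Subgroup.mem_center_iff.1 (hcen ▸ Subgroup.mem_top _ : ((x : ↥(Subgroup.centralizer ({z} : Set G))) : G) ∈ Subgroup.center G) _
  have h512 := hJ.2
  rw [hall, Subgroup.card_top, hJc] at h512
  norm_num at h512

end

end Cfsg.Agent.ThRec
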