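import Mathlib.Data.List.Basic

/-!
Tables for the eight-dimensional modules of the alternating group of degree nine over the field of two
elements: vectors are bit masks, matrices are lists of images of basis vectors.
-/

set_option autoImplicit false

namespace Cfsg.Agent.ThRec.Eight

/-- Index sets of three of the hyperbolic generators. -/
def eS : List ℕ :=
    [7, 28, 46]

/-- Index sets of their partners. -/
def fS : List ℕ :=
    [11, 29, 49]

/-- The six generators as sums of the hyperbolic ones. -/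
def vS : List ℕ :=
    [18, 52, 39, 46, 11, 57]

/-- Matrices of the three hyperbolic generators. -/
def eM : List (List ℕ) :=
    [[0, 1, 0, 4, 0, 16, 0, 64], [0, 0, 1, 2, 0, 0, 16, 32], [0, 0, 0, 0, 1, 2, 4, 8]]

/-- Matrices of their partners. -/
def fM : List (List ℕ) :=
    [[2, 0, 8, 0, 32, 0, 128, 0], [4, 8, 0, 0, 64, 128, 0, 0], [16, 32, 64, 128, 0, 0, 0, 0]]

/-- Matrices of the six generators. -/
def vMat : List (List ℕ) :=
    [[4, 8, 1, 2, 64, 128, 16, 32], [20, 40, 64, 128, 65, 130, 4, 8], [16, 33, 65, 134, 1, 18, 20, 104], [18,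
    32, 73, 130, 33, 2, 148, 40], [2, 1, 9, 6, 32, 16, 144, 96], [22, 41, 72, 132, 96, 144, 128, 64]]

/-- First possibility for the matrix of the first three-cycle. -/
def xA : List ℕ :=
    [6, 11, 12, 4, 113, 146, 132, 200]

/-- Second possibility. -/
def xB : List ℕ :=
    [7, 9, 8, 12, 97, 178, 196, 72]

/-- The seven three-cycles on the spin module. -/
def sX : List (List ℕ) :=
    [[6, 11, 12, 4, 113, 146, 132, 200], [2, 3, 13, 6, 49, 18, 148, 232], [18, 35, 76, 132, 48, 16, 128,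
    192], [22, 42, 77, 130, 112, 128, 144, 160], [20, 43, 69, 134, 80, 144, 16, 224], [4, 10, 5, 2, 81, 130,
    20, 168], [16, 34, 68, 128, 17, 2, 4, 136]]

/-- The seven three-cycles on the permutation module. -/
def pX : List (List ℕ) :=
    [[2, 4, 1, 8, 16, 32, 64, 128], [2, 8, 4, 1, 16, 32, 64, 128], [2, 16, 4, 8, 1, 32, 64, 128], [2, 32, 4,
    8, 16, 1, 64, 128], [2, 64, 4, 8, 16, 32, 1, 128], [2, 128, 4, 8, 16, 32, 64, 1], [3, 1, 5, 9, 17, 33,
    65, 129]]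

/-- The quadratic form of the spin module. -/
def qS : ℕ :=
    47758915483058652629300889924143904114798786457834842901517979108472281628672

/-- The quadratic form of the permutation module. -/
def qP : ℕ :=
    10626694135689687385146646923556979818711903776906383480761793264862629402494

/-- Transversal words. -/
def trans : List (List (List ℕ)) :=
    [[[]], [[], []], [[0], [0, 0], []], [[1], [0, 1], [0, 0, 1], []], [[2], [0, 2], [0, 0, 2], [1, 0, 2],
    []], [[3], [0, 3], [0, 0, 3], [1, 0, 3], [2, 0, 3], []], [[4], [0, 4], [0, 0, 4], [1, 0, 4], [2, 0, 4],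
    [3, 0, 4], []], [[5], [0, 5], [0, 0, 5], [1, 0, 5], [2, 0, 5], [3, 0, 5], [4, 0, 5], []], [[6], [0, 6],
    [0, 0, 6], [1, 0, 6], [2, 0, 6], [3, 0, 6], [4, 0, 6], [5, 0, 6], []]]

/-- An involution of type `2^2`. -/
def y22 : List ℕ :=
    [3, 5, 4, 6, 3, 5]

/-- An involution of type `2^4`. -/
def y24 : List ℕ :=
    [1, 0, 2, 1, 1, 3, 5, 4, 6, 3, 5]

/-- Orbit representatives on the spin module. -/
def repS : List ℕ :=
    [24, 1]

/-- Spanning trees of the orbits. -/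
def edgeS : List (List (ℕ × ℕ)) :=
    [[(0, 0), (0, 1), (0, 2), (0, 3), (0, 4), (0, 5), (0, 6), (1, 0), (1, 1), (1, 2), (1, 3), (1, 4), (1, 5),
    (1, 6), (2, 0), (2, 1), (2, 2), (2, 4), (2, 5), (2, 6), (3, 0), (3, 2), (3, 3), (3, 5), (3, 6), (4, 0),
    (4, 1), (4, 3), (4, 4), (4, 6), (5, 0), (5, 2), (5, 4), (5, 6), (6, 0), (6, 3), (6, 4), (6, 5), (7, 0),
    (7, 1), (7, 5), (7, 6), (8, 1), (8, 2), (8, 3), (8, 4), (8, 5), (8, 6), (9, 1), (9, 2), (9, 4), (9, 5),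
    (10, 2), (10, 3), (10, 5), (11, 1), (11, 3), (11, 6), (12, 3), (12, 4), (12, 6), (13, 1), (13, 4), (13,
    5), (14, 2), (14, 5), (14, 6), (15, 0), (15, 2), (15, 3), (15, 5), (16, 0), (16, 2), (16, 4), (17, 2),
    (17, 3), (17, 5), (17, 6), (18, 2), (18, 4), (19, 3), (19, 4), (19, 5), (20, 0), (20, 4), (20, 6), (21,
    0), (21, 1), (21, 3), (21, 6), (22, 5), (23, 1), (23, 3), (23, 4), (23, 6), (24, 3), (24, 5), (25, 5),
    (25, 6), (26, 0), (26, 1), (26, 2), (26, 4), (27, 1), (27, 2), (27, 4), (27, 5), (28, 6), (29, 6), (30,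
    6), (31, 0), (31, 3), (32, 6), (33, 2), (34, 5), (35, 1), (37, 6), (38, 3), (39, 2)], [(0, 0), (0, 1),
    (0, 2), (0, 3), (0, 4), (0, 5), (0, 6), (1, 0), (1, 1), (1, 2), (1, 3), (1, 4), (1, 5), (1, 6), (2, 0),
    (2, 1), (2, 2), (2, 3), (2, 4), (2, 5), (2, 6), (3, 0), (3, 1), (3, 2), (3, 3), (3, 4), (3, 5), (3, 6),
    (4, 0), (4, 1), (4, 2), (4, 3), (4, 4), (4, 5), (4, 6), (5, 0), (5, 1), (5, 2), (5, 3), (5, 4), (5, 5),
    (5, 6), (6, 0), (6, 1), (6, 2), (6, 3), (6, 4), (6, 5), (6, 6), (7, 0), (7, 1), (7, 2), (7, 3), (7, 4),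
    (7, 5), (7, 6), (9, 1), (9, 2), (9, 3), (9, 4), (9, 6), (10, 1), (10, 2), (10, 3), (10, 5), (10, 6), (11,
    1), (11, 2), (11, 3), (11, 4), (11, 5), (12, 1), (12, 3), (12, 4), (12, 5), (12, 6), (13, 2), (13, 3),
    (13, 4), (13, 5), (13, 6), (14, 1), (14, 2), (14, 4), (14, 5), (14, 6), (15, 2), (15, 3), (15, 4), (15,
    6), (17, 2), (17, 3), (17, 4), (18, 2), (18, 3), (18, 6), (19, 2), (19, 4), (19, 6), (20, 2), (20, 3),
    (20, 4), (20, 6), (21, 3), (21, 4), (21, 6), (22, 3), (22, 5), (23, 3), (23, 5), (25, 3), (26, 3), (26,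
    5), (27, 5), (28, 3), (28, 5), (36, 5), (36, 6), (37, 5), (37, 6), (38, 5), (38, 6), (39, 5), (39, 6),
    (41, 5), (42, 6), (57, 2), (57, 3), (57, 4), (57, 6), (63, 5), (63, 6), (69, 4), (69, 5)]]

/-- Orbit representatives on the permutation module. -/
def repP : List ℕ :=
    [1, 15, 31, 255]

/-- Spanning trees of the orbits. -/
def edgeP : List (List (ℕ × ℕ)) :=
    [[(0, 0), (0, 6), (1, 0), (1, 1), (1, 2), (1, 3), (1, 4), (1, 5), (2, 0), (2, 1), (2, 2), (2, 3), (2, 4),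
    (2, 5), (3, 6), (4, 6), (5, 6), (6, 6), (7, 6), (8, 6), (9, 1), (9, 2), (9, 3), (9, 4), (9, 5), (10, 2),
    (10, 3), (10, 4), (10, 5), (11, 3), (11, 4), (11, 5), (12, 4), (12, 5), (13, 5)], [(0, 2), (0, 3), (0,
    4), (0, 5), (0, 6), (1, 0), (1, 3), (1, 4), (1, 5), (1, 6), (2, 0), (2, 4), (2, 5), (2, 6), (3, 0), (3,
    5), (3, 6), (4, 0), (4, 6), (5, 0), (6, 0), (6, 1), (7, 0), (7, 1), (8, 0), (8, 1), (9, 0), (9, 1), (10,
    0), (10, 1), (11, 0), (11, 1), (12, 0), (12, 1), (13, 0), (13, 1), (14, 0), (14, 1), (15, 0), (15, 1),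
    (16, 0), (16, 1), (17, 0), (17, 1), (18, 0), (18, 1), (19, 0), (19, 1), (20, 0), (20, 1), (21, 3), (21,
    4), (21, 5), (21, 6), (22, 3), (22, 4), (22, 5), (22, 6), (23, 1), (25, 1), (27, 1), (29, 1), (31, 4),
    (31, 5), (31, 6), (32, 4), (32, 5), (32, 6), (33, 1), (35, 1), (37, 1), (39, 5), (39, 6), (40, 5), (40,
    6), (41, 1), (43, 1), (45, 6), (46, 6), (47, 1), (51, 4), (51, 5), (51, 6), (52, 5), (52, 6), (53, 6),
    (55, 4), (55, 5), (55, 6), (56, 5), (56, 6), (57, 6), (59, 4), (59, 5), (59, 6), (60, 5), (60, 6), (61,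
    6), (63, 5), (63, 6), (64, 6), (66, 5), (66, 6), (67, 6), (69, 5), (69, 6), (70, 6), (72, 6), (74, 6),
    (76, 6), (81, 1), (82, 1), (83, 1), (84, 1), (85, 1), (86, 1), (93, 5), (93, 6), (94, 6), (96, 6), (99,
    1), (100, 1), (101, 1), (105, 6), (108, 1)], [(0, 3), (0, 4), (0, 5), (1, 0), (1, 4), (1, 5), (2, 0), (2,
    5), (3, 0), (4, 0), (4, 1), (4, 2), (4, 6), (5, 0), (5, 1), (5, 2), (5, 6), (6, 0), (6, 1), (6, 2), (6,
    6), (7, 0), (7, 1), (7, 2), (7, 6), (8, 0), (8, 1), (8, 2), (8, 6), (9, 0), (9, 1), (9, 2), (9, 6), (10,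
    4), (10, 5), (11, 4), (11, 5), (12, 4), (12, 5), (13, 4), (13, 5), (14, 1), (14, 2), (14, 6), (15, 2),
    (15, 6), (16, 6), (18, 1), (18, 2), (18, 6), (19, 2), (19, 6), (20, 6), (22, 5), (23, 5), (24, 5), (25,
    5), (26, 1), (26, 2), (26, 6), (27, 2), (27, 6), (28, 6), (34, 5), (36, 5), (38, 5), (40, 5), (42, 5),
    (43, 5), (44, 5), (45, 5), (46, 5), (47, 5), (64, 1), (64, 2), (64, 6), (65, 2), (65, 6), (66, 6), (74,
    2), (74, 6), (75, 6), (77, 6)], [(0, 6), (1, 0), (2, 0), (2, 1), (2, 2), (2, 3), (2, 4), (2, 5)]]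

end Cfsg.Agent.ThRec.Eight
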