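import Cfsg.Agent.Lib.ThRec.ModuleTriples
import Cfsg.Agent.Lib.ThRec.ModuleCheck

/-!
If the three-cycles have commutator spaces of order four, the module is the permutation module.
-/

set_option autoImplicit false
set_option maxRecDepth 100000

namespace Cfsg.Agent.ThRec.Eight

open Equiv

theorem eM1_ok : ((List.range 7).all fun r => (List.range 8).all fun a =>
    Nat.beq ((pX.getD r []).getD a 0)
      (Nat.xor (cond (Nat.beq (step r a) 8) 0 (2 ^ step r a)) (cond (Nat.beq (step r 8) 8) 0 (2 ^ step r 8))))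
    = true := by decide +kernel

theorem orbit_wit : ((List.range 4).all fun k =>
    Nat.beq (mP.label ([3, 15, 63, 255].getD k 0)) k && Nat.beq (mP.label ([2, 14, 62, 254].getD k 0)) k) = true := by
  decide +kernel

namespace Rep

variable {V : Type*} [AddCommGroup V] (r : Rep V)

/-- The commutator space of a three-cycle is small. -/
def SmallMv : Prop := ∀ i j k : Fin 9, i ≠ j → j ≠ k → i ≠ k → Nat.card (r.mv (cy i j k)) = 4

/-- The vector of a transposition in the commutator space of a triple containing it. -/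
def IsPt (i j k : Fin 9) (v : V) : Prop :=
  v ∈ r.mv (cy i j k) ∧ v ≠ 0 ∧
    ∀ t, Perm.sign t = 1 → t i = j → t j = i → t k = k → r.R t v = v

theorem companion {i j k : Fin 9} (hij : i ≠ j) (hjk : j ≠ k) (hik : i ≠ k) :
    ∃ t, Perm.sign t = 1 ∧ t i = j ∧ t j = i ∧ t k = k := by
  obtain ⟨p, p1, p2, p3⟩ := exists_fresh3 i j k
  obtain ⟨q, q1, q2, q3, q4, -⟩ := exists_fresh5 i j k p p
  refine ⟨swap i j * swap p q, by rw [map_mul, Perm.sign_swap hij, Perm.sign_swap (Ne.symm q4)]; rfl, ?_, ?_, ?_⟩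
  · rw [Perm.mul_apply, swap_apply_of_ne_of_ne (Ne.symm p1) (Ne.symm q1), swap_apply_left]
  · rw [Perm.mul_apply, swap_apply_of_ne_of_ne (Ne.symm p2) (Ne.symm q2), swap_apply_right]
  · rw [Perm.mul_apply, swap_apply_of_ne_of_ne (Ne.symm p3) (Ne.symm q3),
      swap_apply_of_ne_of_ne hik.symm hjk.symm]

section
variable [Finite V] (h4 : r.SmallMv)
include h4

theorem small_trivial {i j k : Fin 9} (hij : i ≠ j) (hjk : j ≠ k) (hik : i ≠ k) {g : Perm (Fin 9)}
    (hg : Perm.sign g = 1) (hi : g i = i) (hj : g j = j) (hk : g k = k) :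
    ∀ w ∈ r.mv (cy i j k), r.R g w = w := by
  have hW : ∀ g, Perm.sign g = 1 → g i = i → g j = j → g k = k → ∀ w ∈ r.mv (cy i j k),
      r.R g w ∈ r.mv (cy i j k) := fun g hg hi hj hk w hw => by
    have := r.map_mv hg (sign_cy hij hjk) hw
    rwa [cy_conj, hi, hj, hk] at this
  classical
  refine r.fixer_trivial hij hjk hik _ hW (α := ↥(r.mv (cy i j k)) → ↥(r.mv (cy i j k))) ?_
    (fun g w => if h : r.R g w.1 ∈ r.mv (cy i j k) then ⟨_, h⟩ else 0)
    (fun g h hg hgi hgj hgk hh hhi hhj hhk e w hw => ?_) hg hi hj hk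
  · rw [Nat.card_fun, h4 i j k hij hjk hik]; norm_num
  · have := congrFun e ⟨w, hw⟩
    simp only [dif_pos (hW g hg hgi hgj hgk w hw), dif_pos (hW h hh hhi hhj hhk w hw)] at this
    exact congrArg Subtype.val this

theorem four_elems {i j k : Fin 9} (hij : i ≠ j) (hjk : j ≠ k) (hik : i ≠ k) {u w : V}
    (hu : u ∈ r.mv (cy i j k)) (hu0 : u ≠ 0) (hw : w ∈ r.mv (cy i j k)) :
    w = 0 ∨ w = u ∨ w = r.R (cy i j k) u ∨ w = r.R (cy i j k) (r.R (cy i j k) u) := by
  classical
  haveI := Fintype.ofFinite V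
  have hinv : ∀ v ∈ r.mv (cy i j k), r.R (cy i j k) v ∈ r.mv (cy i j k) := fun v hv => by
    have := r.map_mv (sign_cy hij hjk) (sign_cy hij hjk) hv
    rwa [mul_inv_cancel_right] at this
  have hfix : ∀ v ∈ r.mv (cy i j k), r.R (cy i j k) v = v → v = 0 := fun v hv e =>
    r.fx_mv_bot hij hjk hik (r.mem_fx.2 e) hv
  have hx := r.injective (sign_cy hij hjk)
  have h1 : r.R (cy i j k) u ≠ 0 := fun e => hu0 (hx (e.trans (map_zero _).symm))
  have h2 : r.R (cy i j k) (r.R (cy i j k) u) ≠ 0 := fun e => h1 (hx (e.trans (map_zero _).symm))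
  have h3 : r.R (cy i j k) u ≠ u := fun e => hu0 (hfix _ hu e)
  have h5 : r.R (cy i j k) (r.R (cy i j k) u) ≠ r.R (cy i j k) u := fun e => h3 (hx e)
  have h6 : r.R (cy i j k) (r.R (cy i j k) u) ≠ u := fun e => h3 (by
    calc r.R (cy i j k) u = r.R (cy i j k) (r.R (cy i j k) (r.R (cy i j k) u)) := by rw [e]
      _ = u := r.cube hij hjk hik u)
  let s : Finset V := {0, u, r.R (cy i j k) u, r.R (cy i j k) (r.R (cy i j k) u)}
  have hs : s.card = 4 := by
    simp [s, Ne.symm hu0, Ne.symm h1, Ne.symm h2, Ne.symm h3, Ne.symm h5, Ne.symm h6]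
  have hsub : s = (r.mv (cy i j k) : Set V).toFinset := by
    refine Finset.eq_of_subset_of_card_le (fun v hv => ?_) ?_
    · rw [Set.mem_toFinset]
      simp only [s, Finset.mem_insert, Finset.mem_singleton] at hv
      rcases hv with rfl | rfl | rfl | rfl
      · exact zero_mem _
      · exact hu
      · exact hinv _ hu
      · exact hinv _ (hinv _ hu)
    · rw [hs, Set.toFinset_card, ← Nat.card_eq_fintype_card]
      exact (h4 i j k hij hjk hik).le
  have : w ∈ s := by rw [hsub, Set.mem_toFinset]; exact hw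
  simpa [s] using this

theorem exists_pt {i j k : Fin 9} (hij : i ≠ j) (hjk : j ≠ k) (hik : i ≠ k) :
    ∃! v, r.IsPt i j k v := by
  obtain ⟨t, ts, ti, tj, tk⟩ := companion hij hjk hik
  have hx := sign_cy hij hjk
  obtain ⟨u, hu, hu0⟩ : ∃ u ∈ r.mv (cy i j k), u ≠ 0 := by
    by_contra hc
    push Not at hc
    have : r.mv (cy i j k) = ⊥ := (AddSubgroup.eq_bot_iff_forall _).2 hc
    have h := h4 i j k hij hjk hik
    rw [this, AddSubgroup.card_bot] at h
    omega
  have hconj : t * cy i j k = cy j i k * t := by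
    have := cy_conj t i j k
    rw [ti, tj, tk] at this
    rw [← this, inv_mul_cancel_right]
  have hinvm : ∀ w ∈ r.mv (cy i j k), r.R t w ∈ r.mv (cy i j k) := fun w hw => by
    have := r.map_mv ts hx hw
    rwa [cy_conj, ti, tj, tk, r.mv_swap hij hjk hik] at this
  have htx : ∀ w, r.R t (r.R (cy i j k) w) = r.R (cy j i k) (r.R t w) := fun w => by
    rw [← r.mul_apply ts hx, hconj, r.mul_apply (sign_cy hij.symm hik) ts]
  have hneq : ¬ ∀ w ∈ r.mv (cy i j k), r.R t w = w := fun hall => by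
    have hxu : r.R (cy i j k) u ∈ r.mv (cy i j k) := by
      have := r.map_mv hx hx hu
      rwa [mul_inv_cancel_right] at this
    have h := htx u
    rw [hall _ hxu, hall _ hu] at h
    have hxx : r.R (cy i j k) (r.R (cy i j k) u) = u := by
      have e2 : r.R (cy j i k) (r.R (cy i j k) u) = u := by
        rw [← r.mul_apply (sign_cy hij.symm hik) hx, (cy_facts i j k hij hjk hik).2.2, r.one]; rfl
      calc r.R (cy i j k) (r.R (cy i j k) u) = r.R (cy i j k) (r.R (cy j i k) u) := by rw [h]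
        _ = u := by
          rw [← r.mul_apply hx (sign_cy hij.symm hik),
            show cy i j k * cy j i k = 1 from mul_eq_one_comm.1 (cy_facts i j k hij hjk hik).2.2, r.one]
          rfl
    have hfix : r.R (cy i j k) u = u := by
      have := r.cube hij hjk hik u
      rwa [hxx] at this
    exact hu0 (r.fx_mv_bot hij hjk hik (r.mem_fx.2 hfix) hu)
  have htt : ∀ w ∈ r.mv (cy i j k), r.R t (r.R t w) = w := fun w hw => by
    rw [← r.mul_apply ts ts]
    exact r.small_trivial h4 hij hjk hik (by rw [map_mul, ts, one_mul]) (by rw [Perm.mul_apply, ti, tj])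
      (by rw [Perm.mul_apply, tj, ti]) (by rw [Perm.mul_apply, tk, tk]) w hw
  obtain ⟨w, hw, hwt⟩ : ∃ w ∈ r.mv (cy i j k), r.R t w ≠ w := by simpa using hneq
  have hp : r.IsPt i j k (r.R t w + w) := by
    refine ⟨add_mem (hinvm w hw) hw, fun e => hwt ?_, fun t' ts' ti' tj' tk' => ?_⟩
    · calc r.R t w = r.R t w + (w + w) := by rw [r.two, add_zero]
        _ = w := by rw [← add_assoc, e, zero_add]
    · have hv : r.R t (r.R t w + w) = r.R t w + w := by rw [map_add, htt w hw, add_comm]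
      have hmem : r.R t w + w ∈ r.mv (cy i j k) := add_mem (hinvm w hw) hw
      have h2 := r.small_trivial h4 hij hjk hik (g := t' * t) (by rw [map_mul, ts, ts', one_mul])
        (by rw [Perm.mul_apply, ti, tj']) (by rw [Perm.mul_apply, tj, ti']) (by rw [Perm.mul_apply, tk, tk'])
        _ hmem
      rwa [r.mul_apply ts' ts, hv] at h2
  refine ⟨_, hp, fun v hv => ?_⟩
  by_contra hne
  have hboth : ∀ z ∈ r.mv (cy i j k), r.R t z = z := fun z hz => by
    obtain ⟨hp1, hp2, hp3⟩ := hp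
    obtain ⟨hv1, hv2, hv3⟩ := hv
    have fp := hp3 t ts ti tj tk
    have fv := hv3 t ts ti tj tk
    set p := r.R t w + w with hpdef
    have sumz : ∀ a b : V, r.R t a = a → r.R t b = b → r.R t (a + b) = a + b := fun a b ha hb => by
      rw [map_add, ha, hb]
    have e1 : r.R (cy i j k) (r.R (cy i j k) p) + r.R (cy i j k) p + p = 0 := r.mv_poly hij hjk hik hp1
    rcases r.four_elems h4 hij hjk hik hp1 hp2 hv1 with e | e | e | e
    · exact absurd e hv2
    · exact absurd e hne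
    · have e2 : r.R (cy i j k) (r.R (cy i j k) p) = v + p := by
        calc _ = r.R (cy i j k) (r.R (cy i j k) p) + ((v + v) + (p + p)) := by
              rw [r.two, r.two, add_zero, add_zero]
          _ = (r.R (cy i j k) (r.R (cy i j k) p) + v + p) + (v + p) := by abel
          _ = _ := by rw [e, e1, zero_add]
      rcases r.four_elems h4 hij hjk hik hp1 hp2 hz with rfl | rfl | rfl | rfl
      · exact map_zero _
      · exact fp
      · rw [← e]; exact fv
      · rw [e2]; exact sumz _ _ fv fp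
    · have e2 : r.R (cy i j k) p = v + p := by
        calc _ = r.R (cy i j k) p + ((v + v) + (p + p)) := by rw [r.two, r.two, add_zero, add_zero]
          _ = (v + r.R (cy i j k) p + p) + (v + p) := by abel
          _ = _ := by rw [e, e1, zero_add]
      rcases r.four_elems h4 hij hjk hik hp1 hp2 hz with rfl | rfl | rfl | rfl
      · exact map_zero _
      · exact fp
      · rw [e2]; exact sumz _ _ fv fp
      · rw [← e]; exact fv
  exact hneq hboth

theorem pt_map {i j k : Fin 9} (hij : i ≠ j) (hjk : j ≠ k) {v : V} (hv : r.IsPt i j k v) {g : Perm (Fin 9)}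
    (hg : Perm.sign g = 1) : r.IsPt (g i) (g j) (g k) (r.R g v) := by
  refine ⟨?_, fun e => hv.2.1 (r.injective hg (e.trans (map_zero _).symm)), fun t ts ti tj tk => ?_⟩
  · have := r.map_mv hg (sign_cy hij hjk) hv.1
    rwa [cy_conj] at this
  · have hs : Perm.sign (g⁻¹ * t * g) = 1 := by rw [map_mul, map_mul, map_inv, hg, ts]; simp
    have h := hv.2.2 (g⁻¹ * t * g) hs (by simp [Perm.mul_apply, ti]) (by simp [Perm.mul_apply, tj])
      (by simp [Perm.mul_apply, tk])
    calc r.R t (r.R g v) = r.R (g * (g⁻¹ * t * g)) v := by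
          rw [← r.mul_apply ts hg]; congr 2; group
      _ = r.R g v := by rw [r.mul_apply hg hs, h]

theorem pt_symm {i j k : Fin 9} (hij : i ≠ j) (hjk : j ≠ k) (hik : i ≠ k) {v : V} (hv : r.IsPt i j k v) :
    r.IsPt j i k v :=
  ⟨(r.mv_swap hij hjk hik).symm ▸ hv.1, hv.2.1, fun t ts ti tj tk => hv.2.2 t ts tj ti tk⟩

/-- The vector of a transposition and a third point. -/
noncomputable def pt (i j k : Fin 9) : V :=
  haveI := Classical.propDecidable
  if h : i ≠ j ∧ j ≠ k ∧ i ≠ k then Classical.choose (r.exists_pt h4 h.1 h.2.1 h.2.2).exists else 0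

theorem pt_spec {i j k : Fin 9} (hij : i ≠ j) (hjk : j ≠ k) (hik : i ≠ k) : r.IsPt i j k (r.pt h4 i j k) := by
  rw [pt, dif_pos ⟨hij, hjk, hik⟩]
  exact Classical.choose_spec (r.exists_pt h4 hij hjk hik).exists

theorem pt_eq {i j k : Fin 9} (hij : i ≠ j) (hjk : j ≠ k) (hik : i ≠ k) {v : V} (hv : r.IsPt i j k v) :
    r.pt h4 i j k = v := (r.exists_pt h4 hij hjk hik).unique (r.pt_spec h4 hij hjk hik) hv

theorem pt_equi {i j k : Fin 9} (hij : i ≠ j) (hjk : j ≠ k) (hik : i ≠ k) {g : Perm (Fin 9)}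
    (hg : Perm.sign g = 1) : r.R g (r.pt h4 i j k) = r.pt h4 (g i) (g j) (g k) :=
  (r.pt_eq h4 (g.injective.ne hij) (g.injective.ne hjk) (g.injective.ne hik)
    (r.pt_map h4 hij hjk (r.pt_spec h4 hij hjk hik) hg)).symm

theorem pt_comm {i j k : Fin 9} (hij : i ≠ j) (hjk : j ≠ k) (hik : i ≠ k) :
    r.pt h4 j i k = r.pt h4 i j k :=
  r.pt_eq h4 hij.symm hik hjk (r.pt_symm h4 hij hjk hik (r.pt_spec h4 hij hjk hik))

/-- The vector of a transposition does not depend on the triple. -/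
theorem pt_indep {i j k l : Fin 9} (hij : i ≠ j) (hik : i ≠ k) (hil : i ≠ l) (hjk : j ≠ k) (hjl : j ≠ l)
    (hkl : k ≠ l) : r.pt h4 i j k = r.pt h4 i j l := by
  by_contra hne
  set d := r.pt h4 i j k + r.pt h4 i j l with hd
  have hd0 : d ≠ 0 := fun e => hne <| by
    calc r.pt h4 i j k = r.pt h4 i j k + (r.pt h4 i j l + r.pt h4 i j l) := by rw [r.two, add_zero]
      _ = _ := by
        have e' : r.pt h4 i j k + r.pt h4 i j l = 0 := e
        rw [← add_assoc, e', zero_add]
  have hpt : ∀ m, m ≠ i → m ≠ j → m ≠ k → m ≠ l → r.IsPt k l m d := by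
    intro m m1 m2 m3 m4
    have hc := cy_apply k l m hkl (Ne.symm m4) (Ne.symm m3)
    refine ⟨r.mem_mv.2 ⟨r.pt h4 i j k, ?_⟩, hd0, fun t ts tk tl tm => ?_⟩
    · rw [r.pt_equi h4 hij hjk hik (sign_cy hkl (Ne.symm m4)), cy_apply_ne hik hil (Ne.symm m1),
        cy_apply_ne hjk hjl (Ne.symm m2), hc.1, add_comm]
    · have hsw : Perm.sign (swap i j * swap k l) = 1 := by
        rw [map_mul, Perm.sign_swap hij, Perm.sign_swap hkl]; rfl
      have hfix : r.R (swap i j * swap k l) d = d := by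
        rw [hd, map_add, r.pt_equi h4 hij hjk hik hsw, r.pt_equi h4 hij hjl hil hsw]
        simp only [Perm.mul_apply, swap_apply_of_ne_of_ne hik hil, swap_apply_of_ne_of_ne hjk hjl,
          swap_apply_left, swap_apply_right, swap_apply_of_ne_of_ne hik.symm hjk.symm,
          swap_apply_of_ne_of_ne hil.symm hjl.symm]
        rw [r.pt_comm h4 hij hjl hil, r.pt_comm h4 hij hjk hik, add_comm]
      have hmem : d ∈ r.mv (cy k l m) := r.mem_mv.2 ⟨r.pt h4 i j k, by
        rw [r.pt_equi h4 hij hjk hik (sign_cy hkl (Ne.symm m4)), cy_apply_ne hik hil (Ne.symm m1),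
          cy_apply_ne hjk hjl (Ne.symm m2), hc.1, add_comm]⟩
      set s := swap i j * swap k l with hs
      have sk : s k = l := by simp [hs, Perm.mul_apply, swap_apply_of_ne_of_ne hil.symm hjl.symm]
      have sl : s l = k := by simp [hs, Perm.mul_apply, swap_apply_of_ne_of_ne hik.symm hjk.symm]
      have sm : s m = m := by
        simp [hs, Perm.mul_apply, swap_apply_of_ne_of_ne m3 m4, swap_apply_of_ne_of_ne m1 m2]
      have h2 := r.small_trivial h4 hkl (Ne.symm m4) (Ne.symm m3) (g := t * s)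
        (by rw [map_mul, ts, hsw, one_mul]) (by rw [Perm.mul_apply, sk, tl]) (by rw [Perm.mul_apply, sl, tk])
        (by rw [Perm.mul_apply, sm, tm]) _ hmem
      rwa [r.mul_apply ts hsw, hfix] at h2
  obtain ⟨m, hm1, hm2, hm3, hm4, -⟩ := exists_fresh5 i j k l l
  obtain ⟨n, hn1, hn2, hn3, hn4, hn5⟩ := exists_fresh5 i j k l m
  have e1 := r.pt_eq h4 hkl (Ne.symm hm4) (Ne.symm hm3) (hpt m hm1 hm2 hm3 hm4)
  have e2 := r.pt_eq h4 hkl (Ne.symm hn4) (Ne.symm hn3) (hpt n hn1 hn2 hn3 hn4)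
  obtain ⟨g, hg, gk, gl, gm, gn⟩ := exists_map4 (a := k) (b := l) (c := m) (d := n) hkl (Ne.symm hm3)
    (Ne.symm hn3) (Ne.symm hm4) (Ne.symm hn4) (Ne.symm hn5) hij hik hil hjk hjl hkl
  have f1 := r.pt_equi h4 hkl (Ne.symm hm4) (Ne.symm hm3) hg
  have f2 := r.pt_equi h4 hkl (Ne.symm hn4) (Ne.symm hn3) hg
  rw [e1, gk, gl, gm] at f1
  rw [e2, gk, gl, gn] at f2
  exact hne (f1.symm.trans f2)

/-- The vector of a pair of points. -/
noncomputable def pp (i j : Fin 9) : V := r.pt h4 i j (Classical.choose (exists_fresh3 i j i))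

theorem pp_eq {i j k : Fin 9} (hij : i ≠ j) (hjk : j ≠ k) (hik : i ≠ k) : r.pp h4 i j = r.pt h4 i j k := by
  unfold pp
  obtain ⟨a, b, -⟩ := Classical.choose_spec (exists_fresh3 i j i)
  by_cases e : Classical.choose (exists_fresh3 i j i) = k
  · rw [e]
  · exact r.pt_indep h4 hij (Ne.symm a) hik (Ne.symm b) hjk e

theorem pp_self (i : Fin 9) : r.pp h4 i i = 0 := by
  rw [pp, pt, dif_neg (by simp)]

theorem pp_ne {i j : Fin 9} (hij : i ≠ j) : r.pp h4 i j ≠ 0 := by
  obtain ⟨k, a, b, -⟩ := exists_fresh3 i j i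
  rw [r.pp_eq h4 hij (Ne.symm b) (Ne.symm a)]
  exact (r.pt_spec h4 hij (Ne.symm b) (Ne.symm a)).2.1

theorem pp_comm (i j : Fin 9) : r.pp h4 j i = r.pp h4 i j := by
  by_cases hij : i = j
  · rw [hij]
  obtain ⟨k, a, b, -⟩ := exists_fresh3 i j i
  rw [r.pp_eq h4 (Ne.symm hij) (Ne.symm a) (Ne.symm b), r.pp_eq h4 hij (Ne.symm b) (Ne.symm a),
    r.pt_comm h4 hij (Ne.symm b) (Ne.symm a)]

theorem pp_add (i j k : Fin 9) : r.pp h4 i j + r.pp h4 j k = r.pp h4 i k := by
  by_cases hij : i = j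
  · rw [hij, r.pp_self, zero_add]
  by_cases hjk : j = k
  · rw [← hjk, r.pp_self, add_zero]
  by_cases hik : i = k
  · rw [← hik, r.pp_comm h4 i j, r.two, r.pp_self]
  have hx := sign_cy hij hjk
  obtain ⟨c1, c2, c3⟩ := cy_apply i j k hij hjk hik
  rw [r.pp_eq h4 hij hjk hik, r.pp_eq h4 hjk (Ne.symm hik) (Ne.symm hij), ← r.pp_comm h4 i k,
    r.pp_eq h4 (Ne.symm hik) hij (Ne.symm hjk)]
  have e1 := r.pt_equi h4 hij hjk hik hx
  rw [c1, c2, c3] at e1
  have e2 := r.pt_equi h4 hjk (Ne.symm hik) (Ne.symm hij) hx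
  rw [c1, c2, c3] at e2
  rw [← e2, ← e1]
  set v := r.pt h4 i j k
  have := r.mv_poly hij hjk hik (r.pt_spec h4 hij hjk hik).1
  calc v + r.R (cy i j k) v = (r.R (cy i j k) (r.R (cy i j k) v) + r.R (cy i j k) (r.R (cy i j k) v)) +
        (v + r.R (cy i j k) v) := by rw [r.two, zero_add]
    _ = r.R (cy i j k) (r.R (cy i j k) v) + (r.R (cy i j k) (r.R (cy i j k) v) + r.R (cy i j k) v + v) := by abel
    _ = _ := by rw [this, add_zero]

theorem pp_equi {i j : Fin 9} {g : Perm (Fin 9)} (hg : Perm.sign g = 1) :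
    r.R g (r.pp h4 i j) = r.pp h4 (g i) (g j) := by
  by_cases hij : i = j
  · rw [hij, r.pp_self, r.pp_self, map_zero]
  obtain ⟨k, a, b, -⟩ := exists_fresh3 i j i
  rw [r.pp_eq h4 hij (Ne.symm b) (Ne.symm a), r.pt_equi h4 hij (Ne.symm b) (Ne.symm a) hg,
    r.pp_eq h4 (g.injective.ne hij) (g.injective.ne (Ne.symm b)) (g.injective.ne (Ne.symm a))]

/-- **The permutation basis.** -/
theorem perm_coords : ∃ L : List V, (∀ m < 256, lin L m = 0 → m = 0) ∧
    ∀ i < 7, ∀ m < 256, r.R (cx i) (lin L m) = lin L (ap (gen pX i) m) := by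
  set L : List V := (List.finRange 8).map fun a : Fin 8 => r.pp h4 a.castSucc 8 with hL
  have hadd := lin_xor r.two L
  have hl8 : L.length = 8 := by simp [hL]
  have hget : ∀ a : Fin 9, lin L (cond (Nat.beq a.val 8) 0 (2 ^ a.val)) = r.pp h4 a 8 := by
    intro a
    by_cases ha : a.val = 8
    · rw [show a = 8 from Fin.ext ha, show Nat.beq ((8 : Fin 9) : ℕ) 8 = true from rfl, cond_true, lin_zero,
        r.pp_self]
    · rw [show Nat.beq a.val 8 = false by
        rw [← Bool.not_eq_true]; exact fun e => ha (Nat.eq_of_beq_eq_true e), cond_false, lin_two_pow]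
      rw [List.getD_eq_getElem _ _ (by rw [hl8]; omega)]
      simp [hL]
  have hstep : ∀ i < 7, ∀ m, r.R (cx i) (lin L m) = lin L (ap (gen pX i) m) := by
    intro i hi m
    refine (map_lin (r.R (cx i) : V →+ V) L m).trans ?_
    rw [lin_ap (f := lin L) (lin_zero L) hadd]
    congr 1
    have hp8 : (gen pX i).length = 8 := by interval_cases i <;> rfl
    refine List.ext_getElem (by simp [hl8, hp8]) fun a h1 h2 => ?_
    have ha : a < 8 := by simpa [hl8] using h1
    simp only [List.getElem_map]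
    have e := List.all_eq_true.1 (List.all_eq_true.1 eM1_ok i (List.mem_range.2 hi)) a (List.mem_range.2 ha)
    have hg : gen pX i = pX.getD i [] := by rw [gen, Nat.mod_eq_of_lt hi]
    rw [← hg] at e
    rw [List.getD_eq_getElem _ _ (by omega)] at e
    rw [Nat.eq_of_beq_eq_true e]
    let a9 : Fin 9 := ⟨a, by omega⟩
    show r.R (cx i) L[a] = lin L (_ ^^^ _)
    rw [hadd, show step i a = (cx i a9).val from (cx_val i a9).symm,
      show step i 8 = (cx i 8).val from (cx_val i 8).symm, hget, hget]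
    have hLa : L.getD a 0 = r.pp h4 a9 8 := by
      rw [List.getD_eq_getElem _ _ (by rw [hl8]; exact ha)]; simp [hL, a9]
    rw [List.getD_eq_getElem _ _ (by rw [hl8]; exact ha)] at hLa
    erw [hLa]
    rw [r.pp_equi h4 (sign_cx i), r.pp_comm h4 8 (cx i 8)]
    exact (r.pp_add h4 _ _ _).symm
  refine ⟨L, fun m hm h0 => ?_, fun i hi m _ => hstep i hi m⟩
  by_contra hne
  classical
  set f : ℕ → Bool := fun v => decide (lin L v = 0) with hf
  have hfi : ∀ i v, v < 256 → f (ap (gen mP.X i) v) = f v := by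
    intro i v _
    have e : gen mP.X i = gen pX (i % 7) := by show _ = _; simp [gen, mP]
    rw [hf, decide_eq_decide, e, ← hstep (i % 7) (Nat.mod_lt _ (by norm_num))]
    exact ⟨fun h => r.injective (sign_cx _) (h.trans (map_zero _).symm), fun h => by rw [h, map_zero]⟩
  obtain ⟨hk, -, hfm⟩ := label_spec formP hfi hm hne
  set k := mP.label m
  have hkk : k < 4 := hk
  have hw := List.all_eq_true.1 orbit_wit k (List.mem_range.2 hkk)
  rw [Bool.and_eq_true] at hw
  have key : ∀ v, v < 256 → v ≠ 0 → mP.label v = k → lin L v = 0 := fun v hv hv0 e => by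
    have := (label_spec formP hfi hv hv0).2.2
    rw [e, ← hfm] at this
    simpa [hf, h0] using this
  have lt : ∀ k : Fin 4, [3, 15, 63, 255].getD k.val 0 < 256 ∧ [3, 15, 63, 255].getD k.val 0 ≠ 0 ∧
      [2, 14, 62, 254].getD k.val 0 < 256 ∧ [2, 14, 62, 254].getD k.val 0 ≠ 0 ∧
      [3, 15, 63, 255].getD k.val 0 ^^^ [2, 14, 62, 254].getD k.val 0 = 1 := by decide
  obtain ⟨l1, l2, l3, l4, l5⟩ := lt ⟨k, hkk⟩
  have z := hadd ([3, 15, 63, 255].getD k 0) ([2, 14, 62, 254].getD k 0)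
  rw [l5, key _ l1 l2 (Nat.eq_of_beq_eq_true hw.1), key _ l3 l4 (Nat.eq_of_beq_eq_true hw.2), add_zero] at z
  have := hget 0
  rw [show (cond (Nat.beq ((0 : Fin 9) : ℕ) 8) 0 (2 ^ ((0 : Fin 9) : ℕ))) = 1 from rfl, z] at this
  exact r.pp_ne h4 (by decide) this.symm

end

end Rep

end Cfsg.Agent.ThRec.Eight
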