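import Cfsg.Agent.Lib.ThRec.ModuleLin

/-!
Actions of the alternating group of degree nine on a group of order 256 of exponent two: commutator
spaces of three-cycles.
-/

set_option autoImplicit false
set_option maxRecDepth 100000

namespace Cfsg.Agent.ThRec.Eight

open Equiv

/-- A three-cycle. -/
def cy (i j k : Fin 9) : Perm (Fin 9) := swap i j * swap j k

theorem cy_conj (g : Perm (Fin 9)) (i j k : Fin 9) : g * cy i j k * g⁻¹ = cy (g i) (g j) (g k) := by
  unfold cy
  rw [show g * (swap i j * swap j k) * g⁻¹ = g * swap i j * g⁻¹ * (g * swap j k * g⁻¹) by group,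
    Equiv.mul_swap_eq_swap_mul g i j, Equiv.mul_swap_eq_swap_mul g j k]
  group

theorem sign_cy {i j k : Fin 9} (hij : i ≠ j) (hjk : j ≠ k) : Perm.sign (cy i j k) = 1 := by
  rw [cy, map_mul, Perm.sign_swap hij, Perm.sign_swap hjk]
  rfl

theorem cy_apply : ∀ i j k : Fin 9, i ≠ j → j ≠ k → i ≠ k →
    cy i j k i = j ∧ cy i j k j = k ∧ cy i j k k = i := by
  decide +kernel

theorem cy_apply_ne {i j k x : Fin 9} (h1 : x ≠ i) (h2 : x ≠ j) (h3 : x ≠ k) : cy i j k x = x := by
  rw [cy, Perm.mul_apply, swap_apply_of_ne_of_ne h2 h3, swap_apply_of_ne_of_ne h1 h2]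

/-- The three basic relations of a three-cycle, in decidable form. -/
def cyOK (i j k : Fin 9) : Bool :=
  decide (i = j) || decide (j = k) || decide (i = k) || (List.finRange 9).all fun x =>
    decide (cy i j k (cy i j k (cy i j k x)) = x) && decide (cy j k i x = cy i j k x) &&
      decide (cy j i k (cy i j k x) = x)

theorem cyOK_all : ((List.finRange 9).all fun i => (List.finRange 9).all fun j =>
    (List.finRange 9).all fun k => cyOK i j k) = true := by decide +kernel

theorem cy_facts (i j k : Fin 9) (hij : i ≠ j) (hjk : j ≠ k) (hik : i ≠ k) :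
    cy i j k * (cy i j k * cy i j k) = 1 ∧ cy j k i = cy i j k ∧ cy j i k * cy i j k = 1 := by
  have := List.all_eq_true.1 (List.all_eq_true.1 (List.all_eq_true.1 cyOK_all i (List.mem_finRange i)) j
    (List.mem_finRange j)) k (List.mem_finRange k)
  simp only [cyOK, hij, hjk, hik, decide_false, Bool.false_or, List.all_eq_true, List.mem_finRange,
    Bool.and_eq_true, decide_eq_true_eq, forall_const] at this
  exact ⟨Equiv.ext fun x => (this x).1.1, Equiv.ext fun x => (this x).1.2, Equiv.ext fun x => (this x).2⟩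

theorem exists_fresh (s : Finset (Fin 9)) (h : s.card ≤ 8) : ∃ x, x ∉ s := by
  by_contra hc
  push Not at hc
  have := Finset.eq_univ_of_forall hc
  simp [this] at h

theorem exists_fresh3 (i j k : Fin 9) : ∃ x, x ≠ i ∧ x ≠ j ∧ x ≠ k := by
  obtain ⟨x, hx⟩ := exists_fresh {i, j, k} (Finset.card_le_three.trans (by norm_num))
  simp only [Finset.mem_insert, Finset.mem_singleton, not_or] at hx
  exact ⟨x, hx⟩

theorem exists_fresh5 (i j k l m : Fin 9) : ∃ x, x ≠ i ∧ x ≠ j ∧ x ≠ k ∧ x ≠ l ∧ x ≠ m := by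
  obtain ⟨x, hx⟩ := exists_fresh {i, j, k, l, m} (Finset.card_le_five.trans (by norm_num))
  simp only [Finset.mem_insert, Finset.mem_singleton, not_or] at hx
  exact ⟨x, hx⟩

/-- Even permutations are four times transitive. -/
theorem exists_map4 {a b c d i j k l : Fin 9} (hab : a ≠ b) (hac : a ≠ c) (had : a ≠ d) (hbc : b ≠ c)
    (hbd : b ≠ d) (hcd : c ≠ d) (hij : i ≠ j) (hik : i ≠ k) (hil : i ≠ l) (hjk : j ≠ k) (hjl : j ≠ l)
    (hkl : k ≠ l) :
    ∃ g : Perm (Fin 9), Perm.sign g = 1 ∧ g a = i ∧ g b = j ∧ g c = k ∧ g d = l := by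
  let g1 := swap a i
  let g2 := swap (g1 b) j * g1
  let g3 := swap (g2 c) k * g2
  let g4 := swap (g3 d) l * g3
  have a1 : g1 a = i := swap_apply_left a i
  have a2 : g2 a = i := by
    show swap (g1 b) j (g1 a) = i
    rw [a1, swap_apply_of_ne_of_ne (fun e => hab (g1.injective (a1.trans e))) hij]
  have b2 : g2 b = j := swap_apply_left (g1 b) j
  have a3 : g3 a = i := by
    show swap (g2 c) k (g2 a) = i
    rw [a2, swap_apply_of_ne_of_ne (fun e => hac (g2.injective (a2.trans e))) hik]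
  have b3 : g3 b = j := by
    show swap (g2 c) k (g2 b) = j
    rw [b2, swap_apply_of_ne_of_ne (fun e => hbc (g2.injective (b2.trans e))) hjk]
  have c3 : g3 c = k := swap_apply_left (g2 c) k
  have a4 : g4 a = i := by
    show swap (g3 d) l (g3 a) = i
    rw [a3, swap_apply_of_ne_of_ne (fun e => had (g3.injective (a3.trans e))) hil]
  have b4 : g4 b = j := by
    show swap (g3 d) l (g3 b) = j
    rw [b3, swap_apply_of_ne_of_ne (fun e => hbd (g3.injective (b3.trans e))) hjl]
  have c4 : g4 c = k := by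
    show swap (g3 d) l (g3 c) = k
    rw [c3, swap_apply_of_ne_of_ne (fun e => hcd (g3.injective (c3.trans e))) hkl]
  have d4 : g4 d = l := swap_apply_left (g3 d) l
  rcases Int.units_eq_one_or (Perm.sign g4) with h | h
  · exact ⟨g4, h, a4, b4, c4, d4⟩
  obtain ⟨p, hp⟩ := exists_fresh {i, j, k, l} (Finset.card_le_four.trans (by norm_num))
  obtain ⟨q, hq⟩ := exists_fresh {i, j, k, l, p} (Finset.card_le_five.trans (by norm_num))
  simp only [Finset.mem_insert, Finset.mem_singleton, not_or] at hp hq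
  obtain ⟨p1, p2, p3, p4⟩ := hp
  obtain ⟨q1, q2, q3, q4, qp⟩ := hq
  refine ⟨swap p q * g4, by rw [map_mul, Perm.sign_swap (Ne.symm qp), h]; rfl, ?_, ?_, ?_, ?_⟩
  · rw [Perm.mul_apply, a4, swap_apply_of_ne_of_ne (Ne.symm p1) (Ne.symm q1)]
  · rw [Perm.mul_apply, b4, swap_apply_of_ne_of_ne (Ne.symm p2) (Ne.symm q2)]
  · rw [Perm.mul_apply, c4, swap_apply_of_ne_of_ne (Ne.symm p3) (Ne.symm q3)]
  · rw [Perm.mul_apply, d4, swap_apply_of_ne_of_ne (Ne.symm p4) (Ne.symm q4)]

/-- An action of the even permutations. -/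
structure Rep (V : Type*) [AddCommGroup V] where
  /-- The operators. -/
  R : Perm (Fin 9) → AddMonoid.End V
  mul : ∀ g h, Perm.sign g = 1 → Perm.sign h = 1 → R (g * h) = R g * R h
  one : R 1 = 1
  two : ∀ v : V, v + v = 0

variable {V : Type*} [AddCommGroup V] (r : Rep V)

namespace Rep

theorem inv_apply {g : Perm (Fin 9)} (hg : Perm.sign g = 1) (v : V) : r.R g⁻¹ (r.R g v) = v := by
  have := r.mul g⁻¹ g (by rw [map_inv, hg, inv_one]) hg
  rw [inv_mul_cancel, r.one] at this
  exact (congrArg (fun e : AddMonoid.End V => e v) this).symm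

theorem mul_apply {g h : Perm (Fin 9)} (hg : Perm.sign g = 1) (hh : Perm.sign h = 1) (v : V) :
    r.R (g * h) v = r.R g (r.R h v) := congrArg (fun e : AddMonoid.End V => e v) (r.mul g h hg hh)

theorem injective {g : Perm (Fin 9)} (hg : Perm.sign g = 1) : Function.Injective (r.R g) :=
  fun u v e => by rw [← r.inv_apply hg u, e, r.inv_apply hg v]

/-- A permutation plus one. -/
def op1 (g : Perm (Fin 9)) : V →+ V := r.R g + (1 : AddMonoid.End V)

/-- Fixed points of a permutation. -/
def fx (g : Perm (Fin 9)) : AddSubgroup V := (r.op1 g).ker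

/-- Commutators of a permutation. -/
def mv (g : Perm (Fin 9)) : AddSubgroup V := (r.op1 g).range

theorem mem_fx {g : Perm (Fin 9)} {v : V} : v ∈ r.fx g ↔ r.R g v = v := by
  show r.R g v + v = 0 ↔ _
  constructor
  · intro h
    calc r.R g v = r.R g v + (v + v) := by rw [r.two, add_zero]
      _ = v := by rw [← add_assoc, h, zero_add]
  · intro h; rw [h, r.two]

theorem mem_mv {g : Perm (Fin 9)} {v : V} : v ∈ r.mv g ↔ ∃ u, r.R g u + u = v := Iff.rfl

theorem card_mul (g : Perm (Fin 9)) : Nat.card (r.fx g) * Nat.card (r.mv g) = Nat.card V := by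
  rw [AddSubgroup.card_eq_card_quotient_mul_card_addSubgroup (r.fx g), Rep.fx, Rep.mv,
    Nat.card_congr (QuotientAddGroup.quotientKerEquivRange (r.op1 g)).toEquiv]
  ring

theorem map_fx {g h : Perm (Fin 9)} (hg : Perm.sign g = 1) (hh : Perm.sign h = 1) {v : V} (hv : v ∈ r.fx h) :
    r.R g v ∈ r.fx (g * h * g⁻¹) := by
  rw [r.mem_fx] at hv ⊢
  rw [r.mul_apply (by rw [map_mul, hg, hh, one_mul]) (by rw [map_inv, hg, inv_one]), r.inv_apply hg,
    r.mul_apply hg hh, hv]

theorem map_mv {g h : Perm (Fin 9)} (hg : Perm.sign g = 1) (hh : Perm.sign h = 1) {v : V} (hv : v ∈ r.mv h) :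
    r.R g v ∈ r.mv (g * h * g⁻¹) := by
  obtain ⟨u, rfl⟩ := r.mem_mv.1 hv
  refine r.mem_mv.2 ⟨r.R g u, ?_⟩
  rw [r.mul_apply (by rw [map_mul, hg, hh, one_mul]) (by rw [map_inv, hg, inv_one]), r.inv_apply hg,
    r.mul_apply hg hh, map_add]

variable {i j k : Fin 9} (hij : i ≠ j) (hjk : j ≠ k) (hik : i ≠ k)
include hij hjk hik

theorem cube (v : V) : r.R (cy i j k) (r.R (cy i j k) (r.R (cy i j k) v)) = v := by
  have h := sign_cy hij hjk
  rw [← r.mul_apply h h, ← r.mul_apply (by rw [map_mul, h, one_mul]) h, mul_assoc, (cy_facts i j k hij hjk hik).1,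
    r.one]
  rfl

theorem mv_poly {v : V} (hv : v ∈ r.mv (cy i j k)) :
    r.R (cy i j k) (r.R (cy i j k) v) + r.R (cy i j k) v + v = 0 := by
  obtain ⟨u, rfl⟩ := r.mem_mv.1 hv
  simp only [map_add]
  rw [r.cube hij hjk hik]
  calc _ = (u + u) + (r.R (cy i j k) (r.R (cy i j k) u) + r.R (cy i j k) (r.R (cy i j k) u)) +
        (r.R (cy i j k) u + r.R (cy i j k) u) := by abel
    _ = 0 := by simp only [r.two, add_zero]

theorem fx_mv_bot {v : V} (h1 : v ∈ r.fx (cy i j k)) (h2 : v ∈ r.mv (cy i j k)) : v = 0 := by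
  have := r.mv_poly hij hjk hik h2
  rw [r.mem_fx] at h1
  rwa [h1, h1, r.two, zero_add] at this

theorem decomp (v : V) : ∃ c ∈ r.fx (cy i j k), ∃ w ∈ r.mv (cy i j k), v = c + w := by
  refine ⟨r.R (cy i j k) (r.R (cy i j k) v) + r.R (cy i j k) v + v, ?_,
    r.R (cy i j k) (r.R (cy i j k) v) + r.R (cy i j k) v, r.mem_mv.2 ⟨r.R (cy i j k) v, rfl⟩, ?_⟩
  · rw [r.mem_fx]
    simp only [map_add]
    rw [r.cube hij hjk hik]
    abel
  · calc v = (r.R (cy i j k) (r.R (cy i j k) v) + r.R (cy i j k) v) +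
          (r.R (cy i j k) (r.R (cy i j k) v) + r.R (cy i j k) v) + v := by rw [r.two, zero_add]
      _ = _ := by abel

theorem card_mv_mod [Finite V] : Nat.card (r.mv (cy i j k)) % 3 = 1 := by
  classical
  have h := sign_cy hij hjk
  have hmem : ∀ v ∈ r.mv (cy i j k), r.R (cy i j k) v ∈ r.mv (cy i j k) := fun v hv => by
    have := r.map_mv h h hv
    rwa [mul_inv_cancel_right] at this
  haveI := Fintype.ofFinite (r.mv (cy i j k))
  let σ : Perm (r.mv (cy i j k)) :=
    { toFun := fun v => ⟨r.R (cy i j k) v, hmem _ v.2⟩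
      invFun := fun v => ⟨r.R (cy i j k) (r.R (cy i j k) v), hmem _ (hmem _ v.2)⟩
      left_inv := fun v => Subtype.ext (r.cube hij hjk hik v.1)
      right_inv := fun v => Subtype.ext (r.cube hij hjk hik v.1) }
  haveI : _root_.Fact (Nat.Prime 3) := ⟨Nat.prime_three⟩
  have := Perm.card_compl_support_modEq (σ := σ) (p := 3) (n := 1) (Equiv.ext fun v =>
    Subtype.ext (r.cube hij hjk hik v.1))
  have hs : σ.supportᶜ = {0} := by
    ext v
    rw [Finset.mem_compl, Perm.mem_support, not_not, Finset.mem_singleton]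
    constructor
    · intro e
      exact Subtype.ext (r.fx_mv_bot hij hjk hik (r.mem_fx.2 (congrArg Subtype.val e)) v.2)
    · rintro rfl; exact Subtype.ext (map_zero _)
  rw [hs, Finset.card_singleton, Nat.ModEq] at this
  rw [Nat.card_eq_fintype_card, ← this]

theorem mv_swap : r.mv (cy j i k) = r.mv (cy i j k) := by
  have h := sign_cy hij hjk
  have h' : cy j i k = (cy i j k)⁻¹ := eq_inv_of_mul_eq_one_left (cy_facts i j k hij hjk hik).2.2
  ext v
  rw [h', r.mem_mv, r.mem_mv]
  constructor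
  · rintro ⟨u, rfl⟩
    exact ⟨r.R (cy i j k)⁻¹ u, by
      rw [← r.mul_apply h (by rw [map_inv, h, inv_one]), mul_inv_cancel, r.one, add_comm]; rfl⟩
  · rintro ⟨u, rfl⟩
    exact ⟨r.R (cy i j k) u, by rw [r.inv_apply h, add_comm]⟩

omit hjk hik in
/-- A subspace on which the fixer of three points acts with few possibilities is fixed by it. -/
theorem fixer_trivial (hjk : j ≠ k) (hik : i ≠ k) (W : AddSubgroup V)
    (hW : ∀ g, Perm.sign g = 1 → g i = i → g j = j → g k = k → ∀ w ∈ W, r.R g w ∈ W)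
    {α : Type*} [Finite α] (hα : Nat.card α < 360) (ev : Perm (Fin 9) → α)
    (hev : ∀ g h, Perm.sign g = 1 → g i = i → g j = j → g k = k → Perm.sign h = 1 → h i = i → h j = j →
      h k = k → ev g = ev h → ∀ w ∈ W, r.R g w = r.R h w)
    {g : Perm (Fin 9)} (hg : Perm.sign g = 1) (hi : g i = i) (hj : g j = j) (hk : g k = k) :
    ∀ w ∈ W, r.R g w = w := by
  classical
  let p : Fin 9 → Prop := fun x => x ∉ ({i, j, k} : Finset (Fin 9))
  let ι : ↥(alternatingGroup (Subtype p)) →* Perm (Fin 9) :=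
    (Perm.ofSubtype : Perm (Subtype p) →* Perm (Fin 9)).comp (alternatingGroup (Subtype p)).subtype
  have hs : ∀ u, Perm.sign (ι u) = 1 := fun u => by
    show Perm.sign (Perm.ofSubtype u.1) = 1
    rw [Perm.sign_ofSubtype]; exact u.2
  have hfix : ∀ u, ι u i = i ∧ ι u j = j ∧ ι u k = k := fun u =>
    ⟨Perm.ofSubtype_apply_of_not_mem _ (by simp [p]), Perm.ofSubtype_apply_of_not_mem _ (by simp [p]),
      Perm.ofSubtype_apply_of_not_mem _ (by simp [p])⟩
  have hcard : Nat.card (Subtype p) = 6 := by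
    rw [Nat.card_eq_fintype_card, Fintype.card_subtype]
    have : (Finset.univ.filter p) = ({i, j, k} : Finset (Fin 9))ᶜ := by ext x; simp [p]
    rw [this, Finset.card_compl, Fintype.card_fin]
    simp [hij, hik, hjk]
  let N : Subgroup ↥(alternatingGroup (Subtype p)) :=
    { carrier := {u | ∀ w ∈ W, r.R (ι u) w = w}
      one_mem' := fun w _ => by rw [map_one, r.one]; rfl
      mul_mem' := fun {a b} ha hb w hw => by
        rw [map_mul, r.mul_apply (hs a) (hs b), hb w hw, ha w hw]
      inv_mem' := fun {a} ha w hw => by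
        rw [map_inv]
        calc r.R (ι a)⁻¹ w = r.R (ι a)⁻¹ (r.R (ι a) w) := by rw [ha w hw]
          _ = w := r.inv_apply (hs a) w }
  haveI hN : N.Normal := ⟨fun a ha b w hw => by
    have hb := hW _ (hs b⁻¹) (hfix b⁻¹).1 (hfix b⁻¹).2.1 (hfix b⁻¹).2.2 w hw
    rw [map_mul, map_mul, r.mul_apply (by rw [map_mul, hs, hs, one_mul]) (hs _), r.mul_apply (hs _) (hs _),
      ha _ hb, ← r.mul_apply (hs _) (hs _), ← map_mul, mul_inv_cancel, map_one, r.one]
    rfl⟩
  haveI : Nontrivial (Subtype p) := by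
    rw [← Finite.one_lt_card_iff_nontrivial, hcard]; norm_num
  haveI := alternatingGroup.isSimpleGroup (α := Subtype p) (by rw [hcard]; norm_num)
  have htop : N = ⊤ := by
    refine (hN.eq_bot_or_eq_top).resolve_left fun hb => ?_
    have hinj : Function.Injective fun u => ev (ι u) := fun a b e => by
      have h := hev _ _ (hs a) (hfix a).1 (hfix a).2.1 (hfix a).2.2 (hs b) (hfix b).1 (hfix b).2.1
        (hfix b).2.2 e
      have : a⁻¹ * b ∈ N := fun w hw => by
        rw [map_mul, map_inv, r.mul_apply (by rw [map_inv, hs, inv_one]) (hs b), ← h w hw, r.inv_apply (hs a)]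
      rw [hb, Subgroup.mem_bot] at this
      exact inv_mul_eq_one.1 this
    have h6 : Nat.card ↥(alternatingGroup (Subtype p)) = 360 := by
      have h2 := two_mul_nat_card_alternatingGroup (α := Subtype p)
      rw [Nat.card_perm, hcard, show Nat.factorial 6 = 720 from rfl] at h2
      omega
    have := Nat.card_le_card_of_injective _ hinj
    omega
  have hiff : ∀ x, p (g x) ↔ p x := fun x => by
    have key : ∀ y, g y = y → (g x = y ↔ x = y) := fun y hy =>
      ⟨fun e => g.injective (e.trans hy.symm), fun e => e ▸ hy⟩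
    simp only [p, Finset.mem_insert, Finset.mem_singleton, key i hi, key j hj, key k hk]
  have hgs : Perm.ofSubtype (g.subtypePerm hiff) = g := Perm.ofSubtype_subtypePerm hiff fun x hx => by
    simp only [p, Finset.mem_insert, Finset.mem_singleton, not_or]
    refine ⟨?_, ?_, ?_⟩ <;> (rintro rfl; exact hx (by assumption))
  have hmem : g.subtypePerm hiff ∈ alternatingGroup (Subtype p) := by
    rw [Perm.mem_alternatingGroup, ← Perm.sign_ofSubtype, hgs, hg]
  have := (htop ▸ Subgroup.mem_top _ : (⟨_, hmem⟩ : ↥(alternatingGroup (Subtype p))) ∈ N)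
  intro w hw
  have h2 : r.R (Perm.ofSubtype (g.subtypePerm hiff)) w = w := this w hw
  rwa [hgs] at h2

end Rep

end Cfsg.Agent.ThRec.Eight
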