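import Cfsg.Agent.Lib.Th.CentMain
import Cfsg.Agent.Lib.ThOut.CentA
import Cfsg.Prelude.Def_Transfer

/-!
The setting of the recognition of the Thompson group: an involution `a` whose centraliser is an extension
of an extraspecial group `Q` of order 512 by the alternating group of degree nine, compared with the
centraliser of `a` in the presented group.
-/

set_option autoImplicit false
set_option maxRecDepth 100000

namespace Cfsg.Agent.ThRec

open Cfsg.Agent.HN Cfsg.Agent.Th Cfsg.Agent.ThOut

noncomputable section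

theorem CA_eq : CA = centC := by
  ext g
  rw [Subgroup.mem_centralizer_singleton_iff]
  exact ⟨fun h => mem_centC_of_comm h.symm, fun h => (centC_comm h).symm⟩

theorem hC0 (g : Cfsg.Spor.Th) : g ∈ CA ↔ ∃ w, okSide true w = true ∧ wv g11 w = g := by
  rw [CA_eq]
  exact ⟨fun ⟨w, h, e⟩ => ⟨w, h, e.symm⟩, fun ⟨w, h, e⟩ => ⟨w, h, e.symm⟩⟩

theorem hcard0 : Nat.card CA = 92897280 := by rw [CA_eq]; exact card_centC psi_injective

/-- The normal extraspecial subgroup of the model. -/
def Q0 : Subgroup Cfsg.Spor.Th := (toNine hC0 hcard0).ker.map CA.subtype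

variable {G : Type*} [Group G]

/-- **The hypotheses**: `Q` is normal extraspecial of order 512 in the centraliser of `a` and contains its
own centraliser there, the quotient is alternating of degree nine, and `a` is not isolated. -/
structure Setup (a : G) (Q : Subgroup G) : Prop where
  ha : orderOf a = 2
  le : Q ≤ Subgroup.centralizer {a}
  norm : ∀ x ∈ Subgroup.centralizer ({a} : Set G), ∀ q ∈ Q, x * q * x⁻¹ ∈ Q
  extra : Cfsg.IsExtraspecial 2 Q
  card : Nat.card Q = 512
  self : ∀ x ∈ Subgroup.centralizer ({a} : Set G), (∀ q ∈ Q, x * q = q * x) → x ∈ Q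
  quot : ∃ f : ↥(Subgroup.centralizer ({a} : Set G)) →* Equiv.Perm (Fin 9),
    f.range = alternatingGroup (Fin 9) ∧ f.ker = Q.subgroupOf (Subgroup.centralizer {a})
  moved : ∃ g : G, g * a * g⁻¹ ∈ Subgroup.centralizer {a} ∧ g * a * g⁻¹ ≠ a

/-- `a` is conjugate to another element of `Q`. -/
def Fused (a : G) (Q : Subgroup G) : Prop := ∃ g : G, g * a * g⁻¹ ∈ Q ∧ g * a * g⁻¹ ≠ a

/-- The centraliser acts on `Q` as the model acts on `Q0`. -/
structure Frame (a : G) (Q : Subgroup G) (θ : ↥Q0 ≃* ↥Q) : Prop where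
  a_map : ∀ q : ↥Q0, (q : Cfsg.Spor.Th) = g11 0 → (θ q : G) = a
  act : ∀ x ∈ CA, ∃ y ∈ Subgroup.centralizer ({a} : Set G), ∀ q r : ↥Q0,
    (r : Cfsg.Spor.Th) = x * q * x⁻¹ → (θ r : G) = y * θ q * y⁻¹

/-- A copy of the model on the centraliser of `a`. -/
structure Model (a : G) (φ : ↥CA →* G) : Prop where
  inj : Function.Injective φ
  range : φ.range = Subgroup.centralizer {a}
  a_map : ∀ x : ↥CA, (x : Cfsg.Spor.Th) = g11 0 → φ x = a

end

end Cfsg.Agent.ThRec
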