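import Cfsg.Agent.Lib.HN.TC

/-! The 1344 permutations of the stabiliser of the image of `c` -/

set_option autoImplicit false
set_option maxRecDepth 100000
set_option Elab.async false

namespace Cfsg.Agent.ThRec.Stab

open Cfsg.Agent.HN

noncomputable section

/-- part of the words -/
def words0 : Trie :=
  (.node (.node (.node (.node (.node (.node (.node (.leaf 0x656a8686) (.leaf 0x8a6a8665)) (.node (.leaf 0x566a686) (.leaf 0))) (.node (.node (.leaf 0x866568a65) (.leaf 0x6a66a8)) (.node (.leaf 0x866a665) (.leaf 0)))) (.node (.node (.node (.leaf 0xa66566) (.leaf 0x56568a6)) (.node (.leaf 0xa566a6a) (.leaf 0))) (.node (.node (.leaf 0x6a685665) (.leaf 0)) (.node (.leaf 0x6a865666) (.leaf 0))))) (.node (.node (.node (.node (.leaf 0x6a566a) (.leaf 0x56568)) (.node (.leaf 0xa56a68) (.leaf 0))) (.node (.node (.leaf 0x8a666a568) (.leaf 0)) (.node (.leaf 0x86a656a) (.leaf 0)))) (.node (.node (.node (.leaf 0x66a5665) (.leaf 0xa6a8686)) (.node (.leaf 0x8a685665) (.leaf 0))) (.node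 (.node (.leaf 0x8a6a5666) (.leaf 0)) (.node (.leaf 0x66a566a6) (.leaf 0)))))) (.node (.node (.node (.node (.node (.leaf 0xa6a86a5) (.leaf 0xa86a65)) (.node (.leaf 0x686a65) (.leaf 0))) (.node (.node (.leaf 0x66a856a5) (.leaf 0x68a6)) (.node (.leaf 0x5666a6865) (.leaf 0)))) (.node (.node (.node (.leaf 0x68568) (.leaf 0x666a66)) (.node (.leaf 0x8686566) (.leaf 0))) (.node (.node (.leaf 0x866a85) (.leaf 0)) (.node (.leaf 0xa6a56868) (.leaf 0))))) (.node (.node (.node (.node (.leaf 0x6a5666) (.leaf 0x66a865)) (.node (.leaf 0x56a66) (.leaf 0))) (.node (.node (.leaf 0xa656a5) (.leaf 0)) (.node (.leaf 0x6a865) (.leaf 0)))) (.node (.node (.node (.leaf 0xa68665) (.leaf 0x6886a6)) (.node (.leaf 0xa686566) (.leaf 0))) (.node (.node (.leaf 0x866a8568) (.leaf 0)) (.node (.leaf 0x6a66568) (.leaf 0))))))) (.node (.node (.node (.node (.node (.node (.leaf 0xa6a66a5) (.leaf 0x66a8685)) (.node (.leaf 0x5666a686) (.leaf 0))) (.node (.node (.leaf 0x666a6a5) (.leaf 0x86868)) (.node (.leaf 0x856a5)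 (.leaf 0)))) (.node (.node (.node (.leaf 0x68566a66) (.leaf 0x666a56a)) (.node (.leaf 0xa568) (.leaf 0))) (.node (.node (.leaf 0x6a566a856) (.leaf 0)) (.node (.leaf 0x6a66a85) (.leaf 0))))) (.node (.node (.node (.node (.leaf 0x86a5665) (.leaf 0x8665685)) (.node (.leaf 0x6a6865) (.leaf 0))) (.node (.node (.leaf 0x66a685) (.leaf 0)) (.node (.leaf 0x665666a) (.leaf 0)))) (.node (.node (.node (.leaf 0x566a6a56) (.leaf 0xa8686)) (.node (.leaf 0xa6665) (.leaf 0))) (.node (.node (.leaf 0x65656) (.leaf 0)) (.node (.leaf 0x66a5666) (.leaf 0)))))) (.node (.node (.node (.node (.node (.leaf 0x6856a68) (.leaf 0xa66656a5)) (.node (.leaf 0x8566a6) (.leaf 0))) (.node (.node (.leaf 0x566a6a5) (.leaf 0x6a86)) (.node (.leaf 0x56a665) (.leaf 0)))) (.node (.node (.node (.leaf 0x86566a6a5) (.leaf 0x8a6a86)) (.node (.leaf 0x5665) (.leaf 0))) (.node (.node (.leaf 0x866a566a) (.leaf 0)) (.node (.leaf 0xa6a5) (.leaf 0))))) (.node (.node (.node (.node (.leaf 0x68856a66) (.leaf 0x5656a8)) (.node (.leaf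 0x8566a86) (.leaf 0))) (.node (.node (.leaf 0x56a8665) (.leaf 0)) (.node (.leaf 0x6a868566) (.leaf 0)))) (.node (.node (.node (.leaf 0x565685) (.leaf 0x8a6a)) (.node (.leaf 0x886a65656) (.leaf 0))) (.node (.node (.leaf 0x66a656a) (.leaf 0)) (.node (.leaf 0xa856568a) (.leaf 0))))))))

/-- part of the words -/
def words8 : Trie :=
  (.node (.node (.node (.node (.node (.node (.node (.leaf 0x6566) (.leaf 0x6865)) (.node (.leaf 0x8a566) (.leaf 0))) (.node (.node (.leaf 0x8a5656a8) (.leaf 0xa866)) (.node (.leaf 0x85685) (.leaf 0)))) (.node (.node (.node (.leaf 0x85666a65) (.leaf 0xa866656a)) (.node (.leaf 0xa566a66) (.leaf 0))) (.node (.node (.leaf 0xa656a85) (.leaf 0)) (.node (.leaf 0x86a5666) (.leaf 0))))) (.node (.node (.node (.node (.leaf 0x6a566a86) (.leaf 0xa856568)) (.node (.leaf 0x6a666a5) (.leaf 0))) (.node (.node (.leaf 0x856a665) (.leaf 0)) (.node (.leaf 0xa6a5666) (.leaf 0)))) (.node (.node (.node (.leaf 0xa666a65) (.leaf 0x8666a)) (.node (.leaf 0x6a66a5665) (.leaf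 0))) (.node (.node (.leaf 0x86656a68) (.leaf 0)) (.node (.leaf 0x8a6a865) (.leaf 0)))))) (.node (.node (.node (.node (.node (.leaf 0xa6a8685) (.leaf 0x8666a6a5)) (.node (.leaf 0x85666) (.leaf 0))) (.node (.node (.leaf 0x6656a5) (.leaf 0x68a686)) (.node (.leaf 0xa8665685) (.leaf 0)))) (.node (.node (.node (.leaf 0x886a65) (.leaf 0x6a6a)) (.node (.leaf 0x666a566a5) (.leaf 0))) (.node (.node (.leaf 0x666a66566) (.leaf 0)) (.node (.leaf 0x568a6665) (.leaf 0))))) (.node (.node (.node (.node (.leaf 0x6a566a6) (.leaf 0x86656a85)) (.node (.leaf 0xa5) (.leaf 0))) (.node (.node (.leaf 0x8a6566a6) (.leaf 0)) (.node (.leaf 0x5688565) (.leaf 0)))) (.node (.node (.node (.leaf 0x86a665685) (.leaf 0x86a)) (.node (.leaf 0x86a685) (.leaf 0))) (.node (.node (.leaf 0x656a856) (.leaf 0)) (.node (.leaf 0xa656666) (.leaf 0))))))) (.node (.node (.node (.node (.node (.node (.leaf 0x8656a5) (.leaf 0x8565685)) (.node (.leaf 0x56866) (.leaf 0))) (.node (.node (.leaf 0x66666566) (.leaf 0x8a6a686)) (.node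 (.leaf 0xa66a865) (.leaf 0)))) (.node (.node (.node (.leaf 0xa8656a) (.leaf 0x86a666)) (.node (.leaf 0x56666) (.leaf 0))) (.node (.node (.leaf 0x68a6656a5) (.leaf 0)) (.node (.leaf 0x666a6665) (.leaf 0))))) (.node (.node (.node (.node (.leaf 0xa66a5666) (.leaf 0x6a6a566)) (.node (.leaf 0x8a56a66) (.leaf 0))) (.node (.node (.leaf 0xa65685) (.leaf 0)) (.node (.leaf 0xa6a85) (.leaf 0)))) (.node (.node (.node (.leaf 0x8a56568) (.leaf 0x68a66)) (.node (.leaf 0xa5656a6) (.leaf 0))) (.node (.node (.leaf 0x66a65) (.leaf 0)) (.node (.leaf 0xa68568) (.leaf 0)))))) (.node (.node (.node (.node (.node (.leaf 0xa6a665) (.leaf 0xa566568)) (.node (.leaf 0x885) (.leaf 0))) (.node (.node (.leaf 0x5656a85) (.leaf 0x6886)) (.node (.leaf 0x8a56a665) (.leaf 0)))) (.node (.node (.node (.leaf 0x885656) (.leaf 0x6a6)) (.node (.leaf 0x56a86a5) (.leaf 0))) (.node (.node (.leaf 0x656568a) (.leaf 0)) (.node (.leaf 0xa685) (.leaf 0))))) (.node (.node (.node (.node (.leaf 0x65666) (.leaf 0xa5665)) (.node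 (.leaf 0x56a86a) (.leaf 0))) (.node (.node (.leaf 0xa656885) (.leaf 0)) (.node (.leaf 0xa6566a) (.leaf 0)))) (.node (.node (.node (.leaf 0x8685665) (.leaf 0x666a666)) (.node (.leaf 0x665666a65) (.leaf 0))) (.node (.node (.leaf 0xa85) (.leaf 0)) (.node (.leaf 0x66656a8) (.leaf 0))))))))

/-- part of the words -/
def words4 : Trie :=
  (.node (.node (.node (.node (.node (.node (.node (.leaf 0x8a65656) (.leaf 0x6a86565)) (.node (.leaf 0x8856a66) (.leaf 0))) (.node (.node (.leaf 0x8a565) (.leaf 0xa86a6)) (.node (.leaf 0x6886a65) (.leaf 0)))) (.node (.node (.node (.leaf 0x685) (.leaf 0x68a6656a)) (.node (.leaf 0x566666) (.leaf 0))) (.node (.node (.leaf 0x86656a8) (.leaf 0)) (.node (.leaf 0x665666) (.leaf 0))))) (.node (.node (.node (.node (.leaf 0x6566a68) (.leaf 0x6a65666)) (.node (.leaf 0xa56868) (.leaf 0))) (.node (.node (.leaf 0xa6a568665) (.leaf 0)) (.node (.leaf 0x6856656) (.leaf 0)))) (.node (.node (.node (.leaf 0x86566a65) (.leaf 0xa6a66a86)) (.node (.leaf 0x666a5665)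 (.leaf 0))) (.node (.node (.leaf 0x568a685) (.leaf 0)) (.node (.leaf 0x86566) (.leaf 0)))))) (.node (.node (.node (.node (.node (.leaf 0x6566a) (.leaf 0xa85656)) (.node (.leaf 0x8566a68) (.leaf 0))) (.node (.node (.leaf 0x8a6865) (.leaf 0x886a666)) (.node (.leaf 0x68a5656) (.leaf 0)))) (.node (.node (.node (.leaf 0x6a8568) (.leaf 0x6a68)) (.node (.leaf 0xa6a656a86) (.leaf 0))) (.node (.node (.leaf 0x8665) (.leaf 0)) (.node (.leaf 0x886565) (.leaf 0))))) (.node (.node (.node (.node (.leaf 0x6568a686) (.leaf 0x565)) (.node (.leaf 0x566a8686) (.leaf 0))) (.node (.node (.leaf 0xa568a685) (.leaf 0)) (.node (.leaf 0x8a665) (.leaf 0)))) (.node (.node (.node (.leaf 0x8856568) (.leaf 0x866a66)) (.node (.leaf 0x886a6565) (.leaf 0))) (.node (.node (.leaf 0x866568) (.leaf 0)) (.node (.leaf 0x66a856a) (.leaf 0))))))) (.node (.node (.node (.node (.node (.node (.leaf 0x656a6) (.leaf 0xa68a5685)) (.node (.leaf 0xa56a8) (.leaf 0))) (.node (.node (.leaf 0x666a685) (.leaf 0x86a68)) (.node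 (.leaf 0xa565688) (.leaf 0)))) (.node (.node (.node (.leaf 0x656886a6) (.leaf 0x66656a)) (.node (.leaf 0x5666a6) (.leaf 0))) (.node (.node (.leaf 0xa6565) (.leaf 0)) (.node (.leaf 0x66a56866) (.leaf 0))))) (.node (.node (.node (.node (.leaf 0x65666a686) (.leaf 0x66656a68)) (.node (.leaf 0xa56a868) (.leaf 0))) (.node (.node (.leaf 0x8865) (.leaf 0)) (.node (.leaf 0x8656a68) (.leaf 0)))) (.node (.node (.node (.leaf 0x8666565) (.leaf 0x8a6a68)) (.node (.leaf 0x68a6865) (.leaf 0))) (.node (.node (.leaf 0x8a6566) (.leaf 0)) (.node (.leaf 0x8656a6) (.leaf 0)))))) (.node (.node (.node (.node (.node (.leaf 0x6856868) (.leaf 0x568a5)) (.node (.leaf 0xa856a66) (.leaf 0))) (.node (.node (.leaf 0xa56a856a5) (.leaf 0xa6a8666)) (.node (.leaf 0xa6868568) (.leaf 0)))) (.node (.node (.node (.leaf 0x866656a5) (.leaf 0x66)) (.node (.leaf 0xa86a6565) (.leaf 0))) (.node (.node (.leaf 0xa656568) (.leaf 0)) (.node (.leaf 0x66a566) (.leaf 0))))) (.node (.node (.node (.node (.leaf 0xa686565) (.leaf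 0xa6a68665)) (.node (.leaf 0xa5666a) (.leaf 0))) (.node (.node (.leaf 0x886a5) (.leaf 0)) (.node (.leaf 0x66a5686) (.leaf 0)))) (.node (.node (.node (.leaf 0x56a85685) (.leaf 0x868)) (.node (.leaf 0x566a568) (.leaf 0))) (.node (.node (.leaf 0x6a56656) (.leaf 0)) (.node (.leaf 0xa6a85665) (.leaf 0))))))))

/-- part of the words -/
def words12 : Trie :=
  (.node (.node (.node (.node (.node (.node (.node (.leaf 0xa6a865) (.leaf 0x568a56)) (.node (.leaf 0x8a56a6) (.leaf 0))) (.node (.node (.leaf 0x6a656a5) (.leaf 0x66a6866)) (.node (.leaf 0x8a6566a65) (.leaf 0)))) (.node (.node (.node (.leaf 0xa6656a6) (.leaf 0x856565)) (.node (.leaf 0x568a666) (.leaf 0))) (.node (.node (.leaf 0x6a86865) (.leaf 0)) (.node (.leaf 0x568856a5) (.leaf 0))))) (.node (.node (.node (.node (.leaf 0x685666a) (.leaf 0xa68a565)) (.node (.leaf 0x8566a) (.leaf 0))) (.node (.node (.leaf 0x686656a) (.leaf 0)) (.node (.leaf 0x66568a6) (.leaf 0)))) (.node (.node (.node (.leaf 0x8a5685) (.leaf 0xa66a86)) (.node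 (.leaf 0xa5656a6a) (.leaf 0))) (.node (.node (.leaf 0x6a86665) (.leaf 0)) (.node (.leaf 0xa865656) (.leaf 0)))))) (.node (.node (.node (.node (.node (.leaf 0x65666a66) (.leaf 0x686a566)) (.node (.leaf 0x566a66a6) (.leaf 0))) (.node (.node (.leaf 0x8a666a5) (.leaf 0xa666)) (.node (.leaf 0x85656a6a) (.leaf 0)))) (.node (.node (.node (.leaf 0x686a665) (.leaf 0x66a)) (.node (.leaf 0x68a56568) (.leaf 0))) (.node (.node (.leaf 0xa6a566a85) (.leaf 0)) (.node (.leaf 0xa656a66) (.leaf 0))))) (.node (.node (.node (.node (.leaf 0x6a85) (.leaf 0x6a68566)) (.node (.leaf 0xa56a66a) (.leaf 0))) (.node (.node (.leaf 0x8a6a8566) (.leaf 0)) (.node (.leaf 0x68656a5) (.leaf 0)))) (.node (.node (.node (.leaf 0x885656a) (.leaf 0xa6a866)) (.node (.leaf 0x868685) (.leaf 0))) (.node (.node (.leaf 0x886a568) (.leaf 0)) (.node (.leaf 0x6a6656a) (.leaf 0))))))) (.node (.node (.node (.node (.node (.node (.leaf 0x656a6a) (.leaf 0xa8565)) (.node (.leaf 0x8566a6a) (.leaf 0))) (.node (.node (.leaf 0xa6a6565)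 (.leaf 0x686)) (.node (.leaf 0x8666a5) (.leaf 0)))) (.node (.node (.node (.leaf 0x6856a) (.leaf 0x6a66a66)) (.node (.leaf 0xa56a) (.leaf 0))) (.node (.node (.leaf 0x6568a56) (.leaf 0)) (.node (.leaf 0x86568a6) (.leaf 0))))) (.node (.node (.node (.node (.leaf 0x6a85686) (.leaf 0x66a66a5)) (.node (.leaf 0x85) (.leaf 0))) (.node (.node (.leaf 0x86a66566) (.leaf 0)) (.node (.leaf 0x686565) (.leaf 0)))) (.node (.node (.node (.leaf 0x6886a566) (.leaf 0xa6a666)) (.node (.leaf 0xa86a656a5) (.leaf 0))) (.node (.node (.leaf 0xa6a8565) (.leaf 0)) (.node (.leaf 0xa6a568) (.leaf 0)))))) (.node (.node (.node (.node (.node (.leaf 0xa6a66a85) (.leaf 0x6a6566a6)) (.node (.leaf 0x566a666) (.leaf 0))) (.node (.node (.leaf 0x8a6a656a) (.leaf 0xa66a6)) (.node (.leaf 0x8666a568) (.leaf 0)))) (.node (.node (.node (.leaf 0x8a568a5) (.leaf 0xa8666)) (.node (.leaf 0x566a5) (.leaf 0))) (.node (.node (.leaf 0xa568a65) (.leaf 0)) (.node (.leaf 0x66a56a6) (.leaf 0))))) (.node (.node (.node (.node (.leaf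 0x6566a6) (.leaf 0xa566a85)) (.node (.leaf 0x56886a) (.leaf 0))) (.node (.node (.leaf 0xa6568a5) (.leaf 0)) (.node (.leaf 0x8656a86) (.leaf 0)))) (.node (.node (.node (.leaf 0x8a56a85) (.leaf 0xa6a6868)) (.node (.leaf 0xa5656a) (.leaf 0))) (.node (.node (.leaf 0x6a68685) (.leaf 0)) (.node (.leaf 0xa856a5) (.leaf 0))))))))

/-- part of the words -/
def words2 : Trie :=
  (.node (.node (.node (.node (.node (.node (.node (.leaf 0x6885) (.leaf 0x866a5665)) (.node (.leaf 0xa566a6) (.leaf 0))) (.node (.node (.leaf 0x6886a5) (.leaf 0x686a66)) (.node (.leaf 0x8a6a85665) (.leaf 0)))) (.node (.node (.node (.leaf 0x65688) (.leaf 0x68656a)) (.node (.leaf 0x8a6a6665) (.leaf 0))) (.node (.node (.leaf 0x686656a5) (.leaf 0)) (.node (.leaf 0x865) (.leaf 0))))) (.node (.node (.node (.node (.leaf 0xa6a86566) (.leaf 0x6a685)) (.node (.leaf 0x886a6665) (.leaf 0))) (.node (.node (.leaf 0x6886a568) (.leaf 0)) (.node (.leaf 0xa6a656a) (.leaf 0)))) (.node (.node (.node (.leaf 0x566665) (.leaf 0x6a6866))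 (.node (.leaf 0x6a666a65) (.leaf 0))) (.node (.node (.leaf 0xa66a6a5) (.leaf 0)) (.node (.leaf 0x8656a8686) (.leaf 0)))))) (.node (.node (.node (.node (.node (.leaf 0x865685) (.leaf 0x86a656a5)) (.node (.leaf 0xa56866) (.leaf 0))) (.node (.node (.leaf 0x8566a5) (.leaf 0x8a68a6)) (.node (.leaf 0x6a566a65) (.leaf 0)))) (.node (.node (.node (.leaf 0x6a566a66) (.leaf 0x6a868)) (.node (.leaf 0xa6a68566) (.leaf 0))) (.node (.node (.leaf 0xa6a5665) (.leaf 0)) (.node (.leaf 0xa65666a) (.leaf 0))))) (.node (.node (.node (.node (.leaf 0x8a65685) (.leaf 0xa566a856)) (.node (.leaf 0x5666) (.leaf 0))) (.node (.node (.leaf 0x568a65) (.leaf 0)) (.node (.leaf 0xa685666) (.leaf 0)))) (.node (.node (.node (.leaf 0x66568a56) (.leaf 0xa666a6)) (.node (.leaf 0xa6a656a8) (.leaf 0))) (.node (.node (.leaf 0x568665) (.leaf 0)) (.node (.leaf 0x66a8568) (.leaf 0))))))) (.node (.node (.node (.node (.node (.node (.leaf 0xa68656a5) (.leaf 0x6665666)) (.node (.leaf 0xa6a6665) (.leaf 0))) (.node (.node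 (.leaf 0xa6a656a85) (.leaf 0x8a666a)) (.node (.leaf 0xa56568a) (.leaf 0)))) (.node (.node (.node (.leaf 0x6a568) (.leaf 0x56a856)) (.node (.leaf 0x568) (.leaf 0))) (.node (.node (.leaf 0xa86a665) (.leaf 0)) (.node (.leaf 0x6865656) (.leaf 0))))) (.node (.node (.node (.node (.leaf 0xa66a85) (.leaf 0xa86865)) (.node (.leaf 0x8a5666a) (.leaf 0))) (.node (.node (.leaf 0x656568) (.leaf 0)) (.node (.leaf 0x8656a6a) (.leaf 0)))) (.node (.node (.node (.leaf 0x666a65) (.leaf 0x8686)) (.node (.leaf 0x6a8685665) (.leaf 0))) (.node (.node (.leaf 0x6a5665) (.leaf 0)) (.node (.leaf 0xa66a6665) (.leaf 0)))))) (.node (.node (.node (.node (.node (.leaf 0x8a656a85) (.leaf 0x666a566a6)) (.node (.leaf 0xa56a8686) (.leaf 0))) (.node (.node (.leaf 0x656886a5) (.leaf 0x666a6a)) (.node (.leaf 0xa66656a) (.leaf 0)))) (.node (.node (.node (.leaf 0x8a686566) (.leaf 0x6a8686)) (.node (.leaf 0xa5656) (.leaf 0))) (.node (.node (.leaf 0x56886a5) (.leaf 0)) (.node (.leaf 0x56886a65) (.leaf 0))))) (.node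 (.node (.node (.node (.leaf 0x866a685) (.leaf 0xa86665)) (.node (.leaf 0xa568a6) (.leaf 0))) (.node (.node (.leaf 0x8a685) (.leaf 0)) (.node (.leaf 0xa6a566) (.leaf 0)))) (.node (.node (.node (.leaf 0xa566a6a5) (.leaf 0x6a)) (.node (.leaf 0xa6a685) (.leaf 0))) (.node (.node (.leaf 0x656568a6) (.leaf 0)) (.node (.leaf 0x8a666a65) (.leaf 0))))))))

/-- part of the words -/
def words10 : Trie :=
  (.node (.node (.node (.node (.node (.node (.node (.leaf 0xa6a868566) (.leaf 0x5656a68)) (.node (.leaf 0x8566) (.leaf 0))) (.node (.node (.leaf 0x666a65666) (.leaf 0x688)) (.node (.leaf 0xa66a665) (.leaf 0)))) (.node (.node (.node (.leaf 0x68a5666) (.leaf 0x568856)) (.node (.leaf 0x56a866) (.leaf 0))) (.node (.node (.leaf 0x86a665) (.leaf 0)) (.node (.leaf 0xa865685) (.leaf 0))))) (.node (.node (.node (.node (.leaf 0xa86566) (.leaf 0x86a65656)) (.node (.leaf 0x856a68) (.leaf 0))) (.node (.node (.leaf 0x856656) (.leaf 0)) (.node (.leaf 0x666a6865) (.leaf 0)))) (.node (.node (.node (.leaf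 0x8856a5) (.leaf 0xa6866)) (.node (.leaf 0x68a5685) (.leaf 0))) (.node (.node (.leaf 0xa8665) (.leaf 0)) (.node (.leaf 0xa6a56866) (.leaf 0)))))) (.node (.node (.node (.node (.node (.leaf 0xa665666) (.leaf 0x666a5666)) (.node (.leaf 0xa6a66a865) (.leaf 0))) (.node (.node (.leaf 0xa8685665) (.leaf 0x666a68)) (.node (.leaf 0x86865) (.leaf 0)))) (.node (.node (.node (.leaf 0xa6a656a5) (.leaf 0xa6a686)) (.node (.leaf 0x85656a6) (.leaf 0))) (.node (.node (.leaf 0x886a566) (.leaf 0)) (.node (.leaf 0x86566a6) (.leaf 0))))) (.node (.node (.node (.node (.leaf 0x65) (.leaf 0x6a65)) (.node (.leaf 0x566a6) (.leaf 0))) (.node (.node (.leaf 0x8a6a5) (.leaf 0)) (.node (.leaf 0x886a5665) (.leaf 0)))) (.node (.node (.node (.leaf 0x68665) (.leaf 0xa86a)) (.node (.leaf 0x6a6656a5) (.leaf 0))) (.node (.node (.leaf 0xa656a856) (.leaf 0)) (.node (.leaf 0x66568) (.leaf 0))))))) (.node (.node (.node (.node (.node (.node (.leaf 0x656a86a) (.leaf 0x66a66566)) (.node (.leaf 0x86a6865) (.leaf 0)))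 (.node (.node (.leaf 0x566a6856) (.leaf 0x666a)) (.node (.leaf 0x566a856) (.leaf 0)))) (.node (.node (.node (.leaf 0x656a) (.leaf 0x686a)) (.node (.leaf 0xa8568) (.leaf 0))) (.node (.node (.leaf 0x66665666) (.leaf 0)) (.node (.leaf 0x86566a6a) (.leaf 0))))) (.node (.node (.node (.node (.leaf 0x66a6665) (.leaf 0x68656a8)) (.node (.leaf 0x66a68665) (.leaf 0))) (.node (.node (.leaf 0x66a6a5) (.leaf 0)) (.node (.leaf 0x88656a5) (.leaf 0)))) (.node (.node (.node (.leaf 0x6a65656) (.leaf 0x86a686)) (.node (.leaf 0x566a5686) (.leaf 0))) (.node (.node (.leaf 0x8a685666) (.leaf 0)) (.node (.leaf 0xa68a568) (.leaf 0)))))) (.node (.node (.node (.node (.node (.leaf 0x65666a) (.leaf 0x666566)) (.node (.leaf 0x56a8686) (.leaf 0))) (.node (.node (.leaf 0xa856a665) (.leaf 0xa68a)) (.node (.leaf 0x8a56656) (.leaf 0)))) (.node (.node (.node (.leaf 0x66a86865) (.leaf 0xa6a6)) (.node (.leaf 0xa8565685) (.leaf 0))) (.node (.node (.leaf 0x6a856a5) (.leaf 0)) (.node (.leaf 0x865666) (.leaf 0)))))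 (.node (.node (.node (.node (.leaf 0x656a66) (.leaf 0x5656)) (.node (.leaf 0x5686a) (.leaf 0))) (.node (.node (.leaf 0xa56a8665) (.leaf 0)) (.node (.leaf 0x6a66566) (.leaf 0)))) (.node (.node (.node (.leaf 0xa6656a5) (.leaf 0x66a6)) (.node (.leaf 0x68a56a85) (.leaf 0))) (.node (.node (.leaf 0x56a86) (.leaf 0)) (.node (.leaf 0x6a6a566a) (.leaf 0))))))))

/-- part of the words -/
def words6 : Trie :=
  (.node (.node (.node (.node (.node (.node (.node (.leaf 0x68a5) (.leaf 0xa66a6565)) (.node (.leaf 0x56886) (.leaf 0))) (.node (.node (.leaf 0x56a856a5) (.leaf 0x886a6)) (.node (.leaf 0xa56a5) (.leaf 0)))) (.node (.node (.node (.leaf 0xa865666) (.leaf 0xa566a56)) (.node (.leaf 0xa5686) (.leaf 0))) (.node (.node (.leaf 0x66a6a566) (.leaf 0)) (.node (.leaf 0x6656a66) (.leaf 0))))) (.node (.node (.node (.node (.leaf 0x68a5686) (.leaf 0x6a656a66)) (.node (.leaf 0x5666a) (.leaf 0))) (.node (.node (.leaf 0x6866568) (.leaf 0)) (.node (.leaf 0xa56a856) (.leaf 0)))) (.node (.node (.node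 (.leaf 0x68a6566) (.leaf 0xa66a8)) (.node (.leaf 0x6566665) (.leaf 0))) (.node (.node (.leaf 0xa65656a) (.leaf 0)) (.node (.leaf 0x86a566) (.leaf 0)))))) (.node (.node (.node (.node (.node (.leaf 0x68566a86) (.leaf 0xa68a6865)) (.node (.leaf 0x56886a66) (.leaf 0))) (.node (.node (.leaf 0x8666a5665) (.leaf 0xa86)) (.node (.leaf 0x866a8685) (.leaf 0)))) (.node (.node (.node (.leaf 0x6566a66) (.leaf 0x8a6a666)) (.node (.leaf 0x86665) (.leaf 0))) (.node (.node (.leaf 0x5666a685) (.leaf 0)) (.node (.leaf 0xa86565) (.leaf 0))))) (.node (.node (.node (.node (.leaf 0x68a566) (.leaf 0xa6a66565)) (.node (.leaf 0xa568a686) (.leaf 0))) (.node (.node (.leaf 0xa8686565) (.leaf 0)) (.node (.leaf 0x568a6865) (.leaf 0)))) (.node (.node (.node (.leaf 0x6a66a65) (.leaf 0x8a6a866)) (.node (.leaf 0x66568a685) (.leaf 0))) (.node (.node (.leaf 0xa866568) (.leaf 0)) (.node (.leaf 0x568a565) (.leaf 0))))))) (.node (.node (.node (.node (.node (.node (.leaf 0x6566a666) (.leaf 0x68656a86)) (.node (.leaf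 0x56a8) (.leaf 0))) (.node (.node (.leaf 0x85665) (.leaf 0x886)) (.node (.leaf 0x666565) (.leaf 0)))) (.node (.node (.node (.leaf 0x6a56a) (.leaf 0xa56656)) (.node (.leaf 0x8a5666a6) (.leaf 0))) (.node (.node (.leaf 0x6565) (.leaf 0)) (.node (.leaf 0x8a6a665) (.leaf 0))))) (.node (.node (.node (.node (.leaf 0x656a66a6) (.leaf 0x68a665)) (.node (.leaf 0x566a68) (.leaf 0))) (.node (.node (.leaf 0xa6a856a5) (.leaf 0)) (.node (.leaf 0x6886a665) (.leaf 0)))) (.node (.node (.node (.leaf 0xa8666565) (.leaf 0xa6)) (.node (.leaf 0x8a5665) (.leaf 0))) (.node (.node (.leaf 0x8a6a566) (.leaf 0)) (.node (.leaf 0xa685686) (.leaf 0)))))) (.node (.node (.node (.node (.node (.leaf 0x68a5666a) (.leaf 0x66a686565)) (.node (.leaf 0x6a66a865) (.leaf 0))) (.node (.node (.leaf 0x6a65656a) (.leaf 0x6a66a)) (.node (.leaf 0x8666a56a) (.leaf 0)))) (.node (.node (.node (.leaf 0x8a6665) (.leaf 0xa66)) (.node (.leaf 0x566a85) (.leaf 0))) (.node (.node (.leaf 0x6a85685) (.leaf 0)) (.node (.leaf 0xa6a8566)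 (.leaf 0))))) (.node (.node (.node (.node (.leaf 0x68a56a6) (.leaf 0xa85656a6)) (.node (.leaf 0x56868) (.leaf 0))) (.node (.node (.leaf 0xa5666a65) (.leaf 0)) (.node (.leaf 0x8685686) (.leaf 0)))) (.node (.node (.node (.leaf 0xa665685) (.leaf 0x8a68)) (.node (.leaf 0x8666a566) (.leaf 0))) (.node (.node (.leaf 0x866a56a) (.leaf 0)) (.node (.leaf 0xa85685) (.leaf 0))))))))

/-- part of the words -/
def words14 : Trie :=
  (.node (.node (.node (.node (.node (.node (.node (.leaf 0x6856a66) (.leaf 0xa566a5)) (.node (.leaf 0x856a6) (.leaf 0))) (.node (.node (.leaf 0x6568a65) (.leaf 0x68a)) (.node (.leaf 0x6566a65) (.leaf 0)))) (.node (.node (.node (.leaf 0x68856a6) (.leaf 0x8a56565)) (.node (.leaf 0x85666a6) (.leaf 0))) (.node (.node (.leaf 0x68665685) (.leaf 0)) (.node (.leaf 0x6a6656a6) (.leaf 0))))) (.node (.node (.node (.node (.leaf 0x6a56866) (.leaf 0x66656a6)) (.node (.leaf 0xa566a) (.leaf 0))) (.node (.node (.leaf 0x8566a56) (.leaf 0)) (.node (.leaf 0x66a566a) (.leaf 0))))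 (.node (.node (.node (.leaf 0x6a8665) (.leaf 0x66a86)) (.node (.leaf 0x8565) (.leaf 0))) (.node (.node (.leaf 0x65656a8) (.leaf 0)) (.node (.leaf 0x66a85) (.leaf 0)))))) (.node (.node (.node (.node (.node (.leaf 0x6566666) (.leaf 0x6a656a8)) (.node (.leaf 0x8566a8686) (.leaf 0))) (.node (.node (.leaf 0x6a656568) (.leaf 0x866a8)) (.node (.leaf 0x6a66565) (.leaf 0)))) (.node (.node (.node (.leaf 0xa56a8565) (.leaf 0x8a6a8)) (.node (.leaf 0xa6a65) (.leaf 0))) (.node (.node (.leaf 0xa6866565) (.leaf 0)) (.node (.leaf 0x8685) (.leaf 0))))) (.node (.node (.node (.node (.leaf 0x8a656a5) (.leaf 0x666a566a)) (.node (.leaf 0x56a8666) (.leaf 0))) (.node (.node (.leaf 0x866a566) (.leaf 0)) (.node (.leaf 0xa6a85666) (.leaf 0)))) (.node (.node (.node (.leaf 0x8a5656a) (.leaf 0x66a66)) (.node (.leaf 0x86a65666) (.leaf 0))) (.node (.node (.leaf 0x8a6a856a) (.leaf 0)) (.node (.leaf 0xa6a856a) (.leaf 0))))))) (.node (.node (.node (.node (.node (.node (.leaf 0xa865) (.leaf 0x886a66565)) (.node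 (.leaf 0x8a56a68) (.leaf 0))) (.node (.node (.leaf 0x6a8686565) (.leaf 0x8a686)) (.node (.leaf 0x66a656a5) (.leaf 0)))) (.node (.node (.node (.leaf 0x86a56656) (.leaf 0x6868)) (.node (.leaf 0x8856a) (.leaf 0))) (.node (.node (.leaf 0x6a566a5) (.leaf 0)) (.node (.leaf 0x6656a8) (.leaf 0))))) (.node (.node (.node (.node (.leaf 0xa8656a6) (.leaf 0x86656a5)) (.node (.leaf 0x56a66a8) (.leaf 0))) (.node (.node (.leaf 0x6a566568) (.leaf 0)) (.node (.leaf 0x8656a868) (.leaf 0)))) (.node (.node (.node (.leaf 0x8566a568) (.leaf 0x6)) (.node (.leaf 0x68566a5) (.leaf 0))) (.node (.node (.leaf 0x6866565) (.leaf 0)) (.node (.leaf 0x66a56a) (.leaf 0)))))) (.node (.node (.node (.node (.node (.leaf 0x6566a6a) (.leaf 0x6a6a5)) (.node (.leaf 0xa566a666) (.leaf 0))) (.node (.node (.leaf 0x66a56656) (.leaf 0x68a666a)) (.node (.leaf 0xa666a568) (.leaf 0)))) (.node (.node (.node (.leaf 0x6a6565) (.leaf 0x6a66a86)) (.node (.leaf 0x866a865) (.leaf 0))) (.node (.node (.leaf 0x8a6a85) (.leaf 0)) (.node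 (.leaf 0xa86568a5) (.leaf 0))))) (.node (.node (.node (.node (.leaf 0x6a5) (.leaf 0x68656a868)) (.node (.leaf 0xa6a6865) (.leaf 0))) (.node (.node (.leaf 0x6568a5) (.leaf 0)) (.node (.leaf 0x66a5) (.leaf 0)))) (.node (.node (.node (.leaf 0xa68a65) (.leaf 0x666)) (.node (.leaf 0x85656a) (.leaf 0))) (.node (.node (.leaf 0xa5666) (.leaf 0)) (.node (.leaf 0x56568a) (.leaf 0))))))))

/-- part of the words -/
def words1 : Trie :=
  (.node (.node (.node (.node (.node (.node (.node (.leaf 0x68a56a86) (.leaf 0x5685)) (.node (.leaf 0x5) (.leaf 0))) (.node (.node (.leaf 0x6a5666a65) (.leaf 0x8)) (.node (.leaf 0xa5685) (.leaf 0)))) (.node (.node (.node (.leaf 0x6a8566) (.leaf 0x6a656a)) (.node (.leaf 0x56a68) (.leaf 0))) (.node (.node (.leaf 0xa6a86865) (.leaf 0)) (.node (.leaf 0xa656a6a) (.leaf 0))))) (.node (.node (.node (.node (.leaf 0x6568a6) (.leaf 0x68656a66)) (.node (.leaf 0x566a6a) (.leaf 0))) (.node (.node (.leaf 0x56565) (.leaf 0)) (.node (.leaf 0x56656a8) (.leaf 0)))) (.node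 (.node (.node (.leaf 0xa6a8665) (.leaf 0x866a6)) (.node (.leaf 0x68856a5) (.leaf 0))) (.node (.node (.leaf 0x65685) (.leaf 0)) (.node (.leaf 0x665) (.leaf 0)))))) (.node (.node (.node (.node (.node (.leaf 0x6a5666a) (.leaf 0x86568a65)) (.node (.leaf 0x85666a) (.leaf 0))) (.node (.node (.leaf 0x68a65) (.leaf 0xa66a)) (.node (.leaf 0xa6a6566) (.leaf 0)))) (.node (.node (.node (.leaf 0xa6656a) (.leaf 0x66666)) (.node (.leaf 0x56a86856) (.leaf 0))) (.node (.node (.leaf 0xa65656) (.leaf 0)) (.node (.leaf 0x6a665) (.leaf 0))))) (.node (.node (.node (.node (.leaf 0x866a6a5) (.leaf 0x56a85)) (.node (.leaf 0xa6a68685) (.leaf 0))) (.node (.node (.leaf 0x866a5) (.leaf 0)) (.node (.leaf 0x6656a6a) (.leaf 0)))) (.node (.node (.node (.leaf 0x66a566a5) (.leaf 0xa6a)) (.node (.leaf 0x56a865) (.leaf 0))) (.node (.node (.leaf 0x568a656) (.leaf 0)) (.node (.leaf 0x8a6656a) (.leaf 0))))))) (.node (.node (.node (.node (.node (.node (.leaf 0x6a85666) (.leaf 0x8a6656a5)) (.node (.leaf 0x56a66a6)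 (.leaf 0))) (.node (.node (.leaf 0x56a8565) (.leaf 0x66a868)) (.node (.leaf 0x68a6665) (.leaf 0)))) (.node (.node (.node (.leaf 0xa66a56a) (.leaf 0xa56a66a85)) (.node (.leaf 0x8a56a866) (.leaf 0))) (.node (.node (.leaf 0x656a85) (.leaf 0)) (.node (.leaf 0x686a5665) (.leaf 0))))) (.node (.node (.node (.node (.leaf 0x865656) (.leaf 0x6886a5665)) (.node (.leaf 0x856868) (.leaf 0))) (.node (.node (.leaf 0xa6a85685) (.leaf 0)) (.node (.leaf 0xa65) (.leaf 0)))) (.node (.node (.node (.leaf 0x8a56a5) (.leaf 0x6886a66)) (.node (.leaf 0x66656a5) (.leaf 0))) (.node (.node (.leaf 0x8a68a5) (.leaf 0)) (.node (.leaf 0x68a65685) (.leaf 0)))))) (.node (.node (.node (.node (.node (.leaf 0x886a665) (.leaf 0x6665)) (.node (.leaf 0x8a5) (.leaf 0))) (.node (.node (.leaf 0xa565685) (.leaf 0xa8)) (.node (.leaf 0x56656) (.leaf 0)))) (.node (.node (.node (.leaf 0x666a6566) (.leaf 0xa6a6866)) (.node (.leaf 0x66a66a65) (.leaf 0))) (.node (.node (.leaf 0x8a68566) (.leaf 0)) (.node (.leaf 0xa6566a6)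 (.leaf 0))))) (.node (.node (.node (.node (.leaf 0x656886) (.leaf 0x6a656a86)) (.node (.leaf 0x566a) (.leaf 0))) (.node (.node (.leaf 0x656885) (.leaf 0)) (.node (.leaf 0xa6566) (.leaf 0)))) (.node (.node (.node (.leaf 0x6a866566) (.leaf 0x8a666a6)) (.node (.leaf 0xa56568) (.leaf 0))) (.node (.node (.leaf 0x86656a) (.leaf 0)) (.node (.leaf 0x56a5) (.leaf 0))))))))

/-- part of the words -/
def words9 : Trie :=
  (.node (.node (.node (.node (.node (.node (.node (.leaf 0x6a566) (.leaf 0xa6566665)) (.node (.leaf 0x568a686) (.leaf 0))) (.node (.node (.leaf 0x68865) (.leaf 0xa68a686)) (.node (.leaf 0x6a85665) (.leaf 0)))) (.node (.node (.node (.leaf 0xa86a5) (.leaf 0x686a568)) (.node (.leaf 0x8568) (.leaf 0))) (.node (.node (.leaf 0x8a6a56868) (.leaf 0)) (.node (.leaf 0x6a86a5) (.leaf 0))))) (.node (.node (.node (.node (.leaf 0xa86a566) (.leaf 0x686a5)) (.node (.leaf 0xa56a86a) (.leaf 0))) (.node (.node (.leaf 0xa5656a85) (.leaf 0)) (.node (.leaf 0x8865685) (.leaf 0)))) (.node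 (.node (.node (.leaf 0x8a56568a) (.leaf 0x66a66a)) (.node (.leaf 0xa666a5) (.leaf 0))) (.node (.node (.leaf 0x566a86865) (.leaf 0)) (.node (.leaf 0x8685666) (.leaf 0)))))) (.node (.node (.node (.node (.node (.leaf 0x656a68) (.leaf 0x5656a6)) (.node (.leaf 0x856a66) (.leaf 0))) (.node (.node (.leaf 0xa68a685) (.leaf 0x8a66)) (.node (.leaf 0x85656a68) (.leaf 0)))) (.node (.node (.node (.leaf 0x6656a85) (.leaf 0x6a666a6)) (.node (.leaf 0x6a68665) (.leaf 0))) (.node (.node (.leaf 0x8a656a8) (.leaf 0)) (.node (.leaf 0x86a5) (.leaf 0))))) (.node (.node (.node (.node (.leaf 0x6566a686) (.leaf 0x68656a6a)) (.node (.leaf 0x5666a666) (.leaf 0))) (.node (.node (.leaf 0x5666a65) (.leaf 0)) (.node (.leaf 0xa68a5) (.leaf 0)))) (.node (.node (.node (.leaf 0x65666a685) (.leaf 0x8666a6)) (.node (.leaf 0x856568) (.leaf 0))) (.node (.node (.leaf 0x8a656a) (.leaf 0)) (.node (.leaf 0xa6a8568) (.leaf 0))))))) (.node (.node (.node (.node (.node (.node (.leaf 0xa66a5) (.leaf 0xa56a86a5)) (.node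 (.leaf 0x568a66) (.leaf 0))) (.node (.node (.leaf 0x68a6566a) (.leaf 0xa68a68)) (.node (.leaf 0xa56a85) (.leaf 0)))) (.node (.node (.node (.leaf 0x68a56a) (.leaf 0x8a6)) (.node (.leaf 0x566a66) (.leaf 0))) (.node (.node (.leaf 0xa66a65) (.leaf 0)) (.node (.leaf 0xa6856868) (.leaf 0))))) (.node (.node (.node (.node (.leaf 0x68a56a68) (.leaf 0x6a6566)) (.node (.leaf 0x8a5666) (.leaf 0))) (.node (.node (.leaf 0x886a5666) (.leaf 0)) (.node (.leaf 0xa656a86) (.leaf 0)))) (.node (.node (.node (.leaf 0x8a6a685) (.leaf 0x866a868)) (.node (.leaf 0x68a666a5) (.leaf 0))) (.node (.node (.leaf 0x86656a6a) (.leaf 0)) (.node (.leaf 0x6656a) (.leaf 0)))))) (.node (.node (.node (.node (.node (.leaf 0x6a56868) (.leaf 0x56a8568)) (.node (.leaf 0x8a56a86) (.leaf 0))) (.node (.node (.leaf 0xa856656) (.leaf 0x886a66)) (.node (.leaf 0x86a68568) (.leaf 0)))) (.node (.node (.node (.leaf 0xa85665) (.leaf 0xa66a666)) (.node (.leaf 0x566568a) (.leaf 0))) (.node (.node (.leaf 0x8a65) (.leaf 0)) (.node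 (.leaf 0x8656a66) (.leaf 0))))) (.node (.node (.node (.node (.leaf 0xa8685) (.leaf 0x866a86865)) (.node (.leaf 0x86a6665) (.leaf 0))) (.node (.node (.leaf 0x66665) (.leaf 0)) (.node (.leaf 0x868566) (.leaf 0)))) (.node (.node (.node (.leaf 0x68a685) (.leaf 0x8666a6a)) (.node (.leaf 0xa68685) (.leaf 0))) (.node (.node (.leaf 0xa56a66a8) (.leaf 0)) (.node (.leaf 0xa6566a65) (.leaf 0))))))))

/-- part of the words -/
def words5 : Trie :=
  (.node (.node (.node (.node (.node (.node (.node (.leaf 0x68566a6) (.leaf 0xa666565)) (.node (.leaf 0x686a685) (.leaf 0))) (.node (.node (.leaf 0x86a66565) (.leaf 0x6a8666)) (.node (.leaf 0x856568a) (.leaf 0)))) (.node (.node (.node (.leaf 0xa8656a66) (.leaf 0x6868568)) (.node (.leaf 0x5666a66) (.leaf 0))) (.node (.node (.leaf 0x66a6566) (.leaf 0)) (.node (.leaf 0x6a8685) (.leaf 0))))) (.node (.node (.node (.node (.leaf 0x86565) (.leaf 0x68685)) (.node (.leaf 0x8a6a6865) (.leaf 0))) (.node (.node (.leaf 0x8a56a856) (.leaf 0)) (.node (.leaf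 0x56a66a85) (.leaf 0)))) (.node (.node (.node (.leaf 0x56568a5) (.leaf 0x8666)) (.node (.leaf 0xa6865) (.leaf 0))) (.node (.node (.leaf 0x886a5686) (.leaf 0)) (.node (.leaf 0xa6a566a86) (.leaf 0)))))) (.node (.node (.node (.node (.node (.leaf 0xa868566) (.leaf 0x56885)) (.node (.leaf 0x85686) (.leaf 0))) (.node (.node (.leaf 0x665685) (.leaf 0xa6a68)) (.node (.leaf 0x685665) (.leaf 0)))) (.node (.node (.node (.leaf 0xa66568) (.leaf 0x86)) (.node (.leaf 0xa5656a8) (.leaf 0))) (.node (.node (.leaf 0x568a6856) (.leaf 0)) (.node (.leaf 0x66a85686) (.leaf 0))))) (.node (.node (.node (.node (.leaf 0x68566) (.leaf 0x6a656a6)) (.node (.leaf 0x5688) (.leaf 0))) (.node (.node (.leaf 0x8a6a5686) (.leaf 0)) (.node (.leaf 0x6656a68) (.leaf 0)))) (.node (.node (.node (.leaf 0xa6a65656) (.leaf 0x68)) (.node (.leaf 0x688565) (.leaf 0))) (.node (.node (.leaf 0x866a568) (.leaf 0)) (.node (.leaf 0x8656a) (.leaf 0))))))) (.node (.node (.node (.node (.node (.node (.leaf 0x6a56a6) (.leaf 0x666a5))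 (.node (.leaf 0x566a86) (.leaf 0))) (.node (.node (.leaf 0x8a5656) (.leaf 0x6a666a)) (.node (.leaf 0xa6a86565) (.leaf 0)))) (.node (.node (.node (.leaf 0x68856a) (.leaf 0xa56a665)) (.node (.leaf 0x56a) (.leaf 0))) (.node (.node (.leaf 0x66a656a6) (.leaf 0)) (.node (.leaf 0x865666a) (.leaf 0))))) (.node (.node (.node (.node (.leaf 0xa665) (.leaf 0x6568a6865)) (.node (.leaf 0x8a5686) (.leaf 0))) (.node (.node (.leaf 0x66a65666) (.leaf 0)) (.node (.leaf 0xa656886) (.leaf 0)))) (.node (.node (.node (.leaf 0x866a6565) (.leaf 0x866a6a)) (.node (.leaf 0x85656) (.leaf 0))) (.node (.node (.leaf 0x88656a8) (.leaf 0)) (.node (.leaf 0xa6a85686) (.leaf 0)))))) (.node (.node (.node (.node (.node (.leaf 0x66a6865) (.leaf 0x8a66565)) (.node (.leaf 0xa85666) (.leaf 0))) (.node (.node (.leaf 0x88565) (.leaf 0x8a6a6)) (.node (.leaf 0x566a56) (.leaf 0)))) (.node (.node (.node (.leaf 0x66a685665) (.leaf 0x866a8686)) (.node (.leaf 0x6a66a8565) (.leaf 0))) (.node (.node (.leaf 0x666a665) (.leaf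 0)) (.node (.leaf 0x66566) (.leaf 0))))) (.node (.node (.node (.node (.leaf 0x6856a6) (.leaf 0x56a85686)) (.node (.leaf 0x6a66a665) (.leaf 0))) (.node (.node (.leaf 0x56886a56) (.leaf 0)) (.node (.leaf 0xa656a6) (.leaf 0)))) (.node (.node (.node (.leaf 0x666665) (.leaf 0xa66a66)) (.node (.leaf 0x566568) (.leaf 0))) (.node (.node (.leaf 0x8a6568) (.leaf 0)) (.node (.leaf 0x66a665) (.leaf 0))))))))

/-- part of the words -/
def words13 : Trie :=
  (.node (.node (.node (.node (.node (.node (.node (.leaf 0x685666) (.leaf 0x8a68a65)) (.node (.leaf 0xa56a8666) (.leaf 0))) (.node (.node (.leaf 0x8a6a65) (.leaf 0x8a6a66)) (.node (.leaf 0xa66656a8) (.leaf 0)))) (.node (.node (.node (.leaf 0x86568a5) (.leaf 0x666a568)) (.node (.leaf 0xa856a) (.leaf 0))) (.node (.node (.leaf 0xa6a685665) (.leaf 0)) (.node (.leaf 0xa6a5686) (.leaf 0))))) (.node (.node (.node (.node (.leaf 0x866a65) (.leaf 0xa85656a)) (.node (.leaf 0x8a568a6) (.leaf 0))) (.node (.node (.leaf 0x6a568665) (.leaf 0)) (.node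 (.leaf 0xa68566) (.leaf 0)))) (.node (.node (.node (.leaf 0xa66a5665) (.leaf 0x6a8)) (.node (.leaf 0x8a6a66565) (.leaf 0))) (.node (.node (.leaf 0xa6a566a5) (.leaf 0)) (.node (.leaf 0x6656a86) (.leaf 0)))))) (.node (.node (.node (.node (.node (.leaf 0x6a5686) (.leaf 0xa56a865)) (.node (.leaf 0xa566) (.leaf 0))) (.node (.node (.leaf 0x66a85685) (.leaf 0x6a6868)) (.node (.leaf 0x68566a85) (.leaf 0)))) (.node (.node (.node (.leaf 0x6a656a85) (.leaf 0x866a86)) (.node (.leaf 0x66a65656) (.leaf 0))) (.node (.node (.leaf 0x5666a6a5) (.leaf 0)) (.node (.leaf 0xa65666) (.leaf 0))))) (.node (.node (.node (.node (.leaf 0x656a86) (.leaf 0x686566a)) (.node (.leaf 0x8856a6) (.leaf 0))) (.node (.node (.leaf 0xa866566) (.leaf 0)) (.node (.leaf 0x6a66a5) (.leaf 0)))) (.node (.node (.node (.leaf 0xa66a8565) (.leaf 0xa868)) (.node (.leaf 0x6a665685) (.leaf 0))) (.node (.node (.leaf 0x886568) (.leaf 0)) (.node (.leaf 0x86a568) (.leaf 0))))))) (.node (.node (.node (.node (.node (.node (.leaf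 0x656886a) (.leaf 0x5656a6a)) (.node (.leaf 0x6a6665) (.leaf 0))) (.node (.node (.leaf 0x8566a85) (.leaf 0x66a68)) (.node (.leaf 0x66568a65) (.leaf 0)))) (.node (.node (.node (.leaf 0x6a856a) (.leaf 0x68a68)) (.node (.leaf 0x56886a6) (.leaf 0))) (.node (.node (.leaf 0xa6a86665) (.leaf 0)) (.node (.leaf 0xa6a566a) (.leaf 0))))) (.node (.node (.node (.node (.leaf 0x685686) (.leaf 0xa685665)) (.node (.leaf 0xa56a86) (.leaf 0))) (.node (.node (.leaf 0x6666566) (.leaf 0)) (.node (.leaf 0x86a5686) (.leaf 0)))) (.node (.node (.node (.leaf 0xa6568865) (.leaf 0x666a686)) (.node (.leaf 0x86a65) (.leaf 0))) (.node (.node (.leaf 0x686a6565) (.leaf 0)) (.node (.leaf 0x886a56656) (.leaf 0)))))) (.node (.node (.node (.node (.node (.leaf 0x6a56a68) (.leaf 0x656886a65)) (.node (.leaf 0xa56a6) (.leaf 0))) (.node (.node (.leaf 0x68a6568) (.leaf 0x66a686)) (.node (.leaf 0xa856565) (.leaf 0)))) (.node (.node (.node (.leaf 0x666a656a6) (.leaf 0x66a8)) (.node (.leaf 0x68a56a5) (.leaf 0))) (.node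 (.node (.leaf 0x656a5) (.leaf 0)) (.node (.leaf 0x6656a6) (.leaf 0))))) (.node (.node (.node (.node (.leaf 0x8a5666a65) (.leaf 0x86a6565)) (.node (.leaf 0x56a6a) (.leaf 0))) (.node (.node (.leaf 0x68a66565) (.leaf 0)) (.node (.leaf 0xa8656a5) (.leaf 0)))) (.node (.node (.node (.leaf 0x65666a65) (.leaf 0x8a68a)) (.node (.leaf 0x68a565) (.leaf 0))) (.node (.node (.leaf 0xa56a66) (.leaf 0)) (.node (.leaf 0x8666a65) (.leaf 0))))))))

/-- part of the words -/
def words3 : Trie :=
  (.node (.node (.node (.node (.node (.node (.node (.leaf 0xa8656) (.leaf 0xa866656)) (.node (.leaf 0x568a666a) (.leaf 0))) (.node (.node (.leaf 0x8a68656) (.leaf 0xa6a86)) (.node (.leaf 0x866656) (.leaf 0)))) (.node (.node (.node (.leaf 0xa66a566) (.leaf 0xa86a656a)) (.node (.leaf 0x856) (.leaf 0))) (.node (.node (.leaf 0x866a56) (.leaf 0)) (.node (.leaf 0x8a6a6656) (.leaf 0))))) (.node (.node (.node (.node (.leaf 0x68566a) (.leaf 0xa566a56a)) (.node (.leaf 0xa856) (.leaf 0))) (.node (.node (.leaf 0xa56565)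 (.leaf 0)) (.node (.leaf 0xa68656a) (.leaf 0)))) (.node (.node (.node (.leaf 0x8a66656) (.leaf 0x8a)) (.node (.leaf 0xa6a6856) (.leaf 0))) (.node (.node (.leaf 0x6a866656) (.leaf 0)) (.node (.leaf 0xa656) (.leaf 0)))))) (.node (.node (.node (.node (.node (.leaf 0x6568a68) (.leaf 0xa56a66a5)) (.node (.leaf 0x566a66a) (.leaf 0))) (.node (.node (.leaf 0xa5656a5) (.leaf 0x866a)) (.node (.leaf 0x88565685) (.leaf 0)))) (.node (.node (.node (.leaf 0x68a568) (.leaf 0xa686)) (.node (.leaf 0x8a56a865) (.leaf 0))) (.node (.node (.leaf 0x6a868656) (.leaf 0)) (.node (.leaf 0x6656) (.leaf 0))))) (.node (.node (.node (.node (.leaf 0x68566a8) (.leaf 0x8a5656a5)) (.node (.leaf 0x8a568a) (.leaf 0))) (.node (.node (.leaf 0x8a68a56) (.leaf 0)) (.node (.leaf 0xa6a566a8) (.leaf 0)))) (.node (.node (.node (.leaf 0xa68a656) (.leaf 0x886a)) (.node (.leaf 0x6566a6a5) (.leaf 0))) (.node (.node (.leaf 0x86a66568) (.leaf 0)) (.node (.leaf 0x868568) (.leaf 0))))))) (.node (.node (.node (.node (.node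 (.node (.leaf 0xa86a56) (.leaf 0x6a6856)) (.node (.leaf 0x56) (.leaf 0))) (.node (.node (.leaf 0xa686656) (.leaf 0x6a686)) (.node (.leaf 0x8666a56) (.leaf 0)))) (.node (.node (.node (.leaf 0x6568) (.leaf 0x6a6a568)) (.node (.leaf 0x8566a66) (.leaf 0))) (.node (.node (.leaf 0xa86656) (.leaf 0)) (.node (.leaf 0xa6a856) (.leaf 0))))) (.node (.node (.node (.node (.leaf 0xa6a66a856) (.leaf 0x8566a685)) (.node (.leaf 0x566a868) (.leaf 0))) (.node (.node (.leaf 0x8a6856) (.leaf 0)) (.node (.leaf 0x6a6656) (.leaf 0)))) (.node (.node (.node (.leaf 0x8a666a56) (.leaf 0x866a68)) (.node (.leaf 0xa6a656) (.leaf 0))) (.node (.node (.leaf 0xa6a868656) (.leaf 0)) (.node (.leaf 0xa6a56) (.leaf 0)))))) (.node (.node (.node (.node (.node (.leaf 0x68856) (.leaf 0x6a656)) (.node (.leaf 0x6a68656) (.leaf 0))) (.node (.node (.leaf 0x886a6566) (.leaf 0xa6a66a8)) (.node (.leaf 0xa6a68568) (.leaf 0)))) (.node (.node (.node (.leaf 0x566a65) (.leaf 0x88)) (.node (.leaf 0x866a86856) (.leaf 0))) (.node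 (.node (.leaf 0x866568a6) (.leaf 0)) (.node (.leaf 0x86568a) (.leaf 0))))) (.node (.node (.node (.node (.leaf 0xa86856) (.leaf 0xa86a656)) (.node (.leaf 0x8a56a8) (.leaf 0))) (.node (.node (.leaf 0xa66a656) (.leaf 0)) (.node (.leaf 0x8656a8) (.leaf 0)))) (.node (.node (.node (.leaf 0x8a6a6566) (.leaf 0x666a6)) (.node (.leaf 0x566a56a) (.leaf 0))) (.node (.node (.leaf 0xa568665) (.leaf 0)) (.node (.leaf 0x666a56) (.leaf 0))))))))

/-- part of the words -/
def words11 : Trie :=
  (.node (.node (.node (.node (.node (.node (.node (.leaf 0xa8656a8) (.leaf 0xa56a8685)) (.node (.leaf 0x5666a68) (.leaf 0))) (.node (.node (.leaf 0x886a656) (.leaf 0x66a8686)) (.node (.leaf 0xa66656) (.leaf 0)))) (.node (.node (.node (.leaf 0x6568a) (.leaf 0x8856a665)) (.node (.leaf 0x8a568) (.leaf 0))) (.node (.node (.leaf 0x86656) (.leaf 0)) (.node (.leaf 0x66568a) (.leaf 0))))) (.node (.node (.node (.node (.leaf 0x656a8) (.leaf 0x56a856a)) (.node (.leaf 0x8856) (.leaf 0))) (.node (.node (.leaf 0x8a6a68568)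 (.leaf 0)) (.node (.leaf 0x6a66a56) (.leaf 0)))) (.node (.node (.node (.leaf 0x6886a56) (.leaf 0x686a6)) (.node (.leaf 0x868656) (.leaf 0))) (.node (.node (.leaf 0x88656) (.leaf 0)) (.node (.leaf 0x6a86856) (.leaf 0)))))) (.node (.node (.node (.node (.node (.leaf 0x6856) (.leaf 0x6a6a56)) (.node (.leaf 0xa566a8) (.leaf 0))) (.node (.node (.leaf 0x8a6a6856) (.leaf 0x866)) (.node (.leaf 0x6886a656) (.leaf 0)))) (.node (.node (.node (.leaf 0x6a86656) (.leaf 0x6886a)) (.node (.leaf 0xa686856) (.leaf 0))) (.node (.node (.leaf 0x568865) (.leaf 0)) (.node (.leaf 0xa6568a) (.leaf 0))))) (.node (.node (.node (.node (.leaf 0xa6a6656) (.leaf 0x66a6656)) (.node (.leaf 0x85666a6a) (.leaf 0))) (.node (.node (.leaf 0x66a6a56) (.leaf 0)) (.node (.leaf 0x66568a68) (.leaf 0)))) (.node (.node (.node (.leaf 0x68a656) (.leaf 0x68a666)) (.node (.leaf 0xa56a856a) (.leaf 0))) (.node (.node (.leaf 0x88656a) (.leaf 0)) (.node (.leaf 0x66a568) (.leaf 0))))))) (.node (.node (.node (.node (.node (.node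 (.leaf 0x68a56) (.leaf 0x6a6566a)) (.node (.leaf 0x8566a868) (.leaf 0))) (.node (.node (.leaf 0xa566a65) (.leaf 0xa6868)) (.node (.leaf 0x885656a5) (.leaf 0)))) (.node (.node (.node (.leaf 0x65666a6) (.leaf 0x6a86a)) (.node (.leaf 0xa56a866) (.leaf 0))) (.node (.node (.leaf 0x66a6856) (.leaf 0)) (.node (.leaf 0x66a56) (.leaf 0))))) (.node (.node (.node (.node (.leaf 0x6a56) (.leaf 0x8566a6a5)) (.node (.leaf 0x568a) (.leaf 0))) (.node (.node (.leaf 0x866568a) (.leaf 0)) (.node (.leaf 0x66a856) (.leaf 0)))) (.node (.node (.node (.leaf 0x8566a56a) (.leaf 0x6866)) (.node (.leaf 0x8686856) (.leaf 0))) (.node (.node (.leaf 0x666a6656) (.leaf 0)) (.node (.leaf 0x665666a6) (.leaf 0)))))) (.node (.node (.node (.node (.node (.leaf 0xa6656) (.leaf 0x666a566)) (.node (.leaf 0xa6a68656) (.leaf 0))) (.node (.node (.leaf 0x6a656a856) (.leaf 0x686a68)) (.node (.leaf 0x866656a) (.leaf 0)))) (.node (.node (.node (.leaf 0xa68a6856) (.leaf 0x66a666)) (.node (.leaf 0x86a6566) (.leaf 0))) (.node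 (.node (.leaf 0x86a6656) (.leaf 0)) (.node (.leaf 0x8a6a8656) (.leaf 0))))) (.node (.node (.node (.node (.leaf 0xa6a8656) (.leaf 0x66a66a56)) (.node (.leaf 0x8a56) (.leaf 0))) (.node (.node (.leaf 0x66a656) (.leaf 0)) (.node (.leaf 0x6a66a566) (.leaf 0)))) (.node (.node (.node (.leaf 0x6a66a656) (.leaf 0xa)) (.node (.leaf 0x56656a) (.leaf 0))) (.node (.node (.leaf 0x5666a6a) (.leaf 0)) (.node (.leaf 0x568856a6) (.leaf 0))))))))

/-- part of the words -/
def words7 : Trie :=
  (.node (.node (.node (.node (.node (.node (.node (.leaf 0x66a68656) (.leaf 0x565688)) (.node (.leaf 0xa568a) (.leaf 0))) (.node (.node (.leaf 0x66568a5) (.leaf 0xa6a66a)) (.node (.leaf 0xa666a56) (.leaf 0)))) (.node (.node (.node (.leaf 0x866a656) (.leaf 0x566a6865)) (.node (.leaf 0x56a868) (.leaf 0))) (.node (.node (.leaf 0xa66a6566) (.leaf 0)) (.node (.leaf 0xa6856) (.leaf 0))))) (.node (.node (.node (.node (.leaf 0x8a6565) (.leaf 0x66a8656)) (.node (.leaf 0xa568a68) (.leaf 0))) (.node (.node (.leaf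 0x56a86865) (.leaf 0)) (.node (.leaf 0x6856a665) (.leaf 0)))) (.node (.node (.node (.leaf 0xa56568a5) (.leaf 0x86a66)) (.node (.leaf 0x56a8685) (.leaf 0))) (.node (.node (.leaf 0x8686565) (.leaf 0)) (.node (.leaf 0xa656a8) (.leaf 0)))))) (.node (.node (.node (.node (.node (.leaf 0x68a56a8) (.leaf 0x66a86856)) (.node (.leaf 0xa85686) (.leaf 0))) (.node (.node (.leaf 0x566a685) (.leaf 0x66a6a)) (.node (.leaf 0x86a6856) (.leaf 0)))) (.node (.node (.node (.leaf 0x656666) (.leaf 0xa66a6a)) (.node (.leaf 0x86a656) (.leaf 0))) (.node (.node (.leaf 0x8a656) (.leaf 0)) (.node (.leaf 0xa68a5686) (.leaf 0))))) (.node (.node (.node (.node (.leaf 0x65666a68) (.leaf 0x666a5686)) (.node (.leaf 0xa8566) (.leaf 0))) (.node (.node (.leaf 0x65656a) (.leaf 0)) (.node (.leaf 0x8656) (.leaf 0)))) (.node (.node (.node (.leaf 0x666a6856) (.leaf 0xa68)) (.node (.leaf 0xa568a5) (.leaf 0))) (.node (.node (.leaf 0x8a6a8568) (.leaf 0)) (.node (.leaf 0xa656a) (.leaf 0))))))) (.node (.node (.node (.node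 (.node (.node (.leaf 0x85666a6a5) (.leaf 0xa868656)) (.node (.leaf 0xa566a86) (.leaf 0))) (.node (.node (.leaf 0x68a6856) (.leaf 0xa6a86a)) (.node (.leaf 0x66a6565) (.leaf 0)))) (.node (.node (.node (.leaf 0x6a5666a6) (.leaf 0x6a68568)) (.node (.leaf 0x8a56a) (.leaf 0))) (.node (.node (.leaf 0x866a85686) (.leaf 0)) (.node (.leaf 0x8a6656) (.leaf 0))))) (.node (.node (.node (.node (.leaf 0x656) (.leaf 0x68656)) (.node (.leaf 0x5686) (.leaf 0))) (.node (.node (.leaf 0xa86a6656) (.leaf 0)) (.node (.leaf 0x86856) (.leaf 0)))) (.node (.node (.node (.leaf 0x8a6a86565) (.leaf 0x6a666)) (.node (.leaf 0x6566a685) (.leaf 0))) (.node (.node (.leaf 0x66a68566) (.leaf 0)) (.node (.leaf 0x6a686565) (.leaf 0)))))) (.node (.node (.node (.node (.node (.leaf 0xa66a56) (.leaf 0x68656a6)) (.node (.leaf 0x566a8) (.leaf 0))) (.node (.node (.leaf 0x6568a685) (.leaf 0x86a6)) (.node (.leaf 0x5666a6665) (.leaf 0)))) (.node (.node (.node (.leaf 0x8a6a656) (.leaf 0x66a66a6)) (.node (.leaf 0xa866565)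 (.leaf 0))) (.node (.node (.leaf 0x666656) (.leaf 0)) (.node (.leaf 0xa65688) (.leaf 0))))) (.node (.node (.node (.node (.leaf 0x656a66a) (.leaf 0x686856)) (.node (.leaf 0x568a68) (.leaf 0))) (.node (.node (.leaf 0x8a6568a) (.leaf 0)) (.node (.leaf 0x568a666a5) (.leaf 0)))) (.node (.node (.node (.leaf 0x666a656) (.leaf 0x6a866)) (.node (.leaf 0xa666566) (.leaf 0))) (.node (.node (.leaf 0x8a6a568) (.leaf 0)) (.node (.leaf 0x66656) (.leaf 0))))))))

/-- part of the words -/
def words15 : Trie :=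
  (.node (.node (.node (.node (.node (.node (.node (.leaf 0x6a566a8) (.leaf 0x85656a5)) (.node (.leaf 0x56a66a) (.leaf 0))) (.node (.node (.leaf 0xa6a86656) (.leaf 0x8a666)) (.node (.leaf 0x566a56a6) (.leaf 0)))) (.node (.node (.node (.leaf 0x8a6568a5) (.leaf 0x6a656666)) (.node (.leaf 0x856a) (.leaf 0))) (.node (.node (.leaf 0x8a6a856) (.leaf 0)) (.node (.leaf 0x8a686565) (.leaf 0))))) (.node (.node (.node (.node (.leaf 0xa6a86856) (.leaf 0x5656a)) (.node (.leaf 0x568a6) (.leaf 0))) (.node (.node (.leaf 0x666a656a) (.leaf 0)) (.node (.leaf 0x86566a) (.leaf 0)))) (.node (.node (.node (.leaf 0x688656) (.leaf 0xa6a8)) (.node (.leaf 0x86a656a6) (.leaf 0))) (.node (.node (.leaf 0x886a56) (.leaf 0)) (.node (.leaf 0x6a66a856) (.leaf 0)))))) (.node (.node (.node (.node (.node (.leaf 0x656a868) (.leaf 0x686566)) (.node (.leaf 0x566) (.leaf 0))) (.node (.node (.leaf 0x6666656) (.leaf 0xa6a66)) (.node (.leaf 0xa565) (.leaf 0)))) (.node (.node (.node (.leaf 0x686656) (.leaf 0xa68a6))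 (.node (.leaf 0xa66a6656) (.leaf 0))) (.node (.node (.leaf 0x6a8565) (.leaf 0)) (.node (.leaf 0x6a8656) (.leaf 0))))) (.node (.node (.node (.node (.leaf 0xa66a856) (.leaf 0x8566a65)) (.node (.leaf 0xa856a6) (.leaf 0))) (.node (.node (.leaf 0x866566) (.leaf 0)) (.node (.leaf 0x86a56) (.leaf 0)))) (.node (.node (.node (.leaf 0x66a8565) (.leaf 0x6666)) (.node (.leaf 0x866a8656) (.leaf 0))) (.node (.node (.leaf 0xa6a56656) (.leaf 0)) (.node (.leaf 0x86568) (.leaf 0))))))) (.node (.node (.node (.node (.node (.node (.leaf 0x886a6656) (.leaf 0x866568a5)) (.node (.leaf 0xa56) (.leaf 0))) (.node (.node (.leaf 0xa66565) (.leaf 0xa6a868)) (.node (.leaf 0xa68656) (.leaf 0)))) (.node (.node (.node (.leaf 0xa86568) (.leaf 0xa666a)) (.node (.leaf 0xa5666a6) (.leaf 0))) (.node (.node (.leaf 0x8a6a56) (.leaf 0)) (.node (.leaf 0x6a86566) (.leaf 0))))) (.node (.node (.node (.node (.leaf 0xa6a686565) (.leaf 0x686a56)) (.node (.leaf 0x686a656) (.leaf 0))) (.node (.node (.leaf 0x8a6566a) (.leaf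 0)) (.node (.leaf 0x68a6565) (.leaf 0)))) (.node (.node (.node (.leaf 0x6568865) (.leaf 0x6a66a6)) (.node (.leaf 0x56a66a5) (.leaf 0))) (.node (.node (.leaf 0x6a566a85) (.leaf 0)) (.node (.leaf 0xa6568) (.leaf 0)))))) (.node (.node (.node (.node (.node (.leaf 0x6a856) (.leaf 0x568856a)) (.node (.leaf 0x56a6) (.leaf 0))) (.node (.node (.leaf 0xa68a6568) (.leaf 0x0)) (.node (.leaf 0x8856565) (.leaf 0)))) (.node (.node (.node (.leaf 0x66565) (.leaf 0xa86a66)) (.node (.leaf 0xa85656a5) (.leaf 0))) (.node (.node (.leaf 0x866a856) (.leaf 0)) (.node (.leaf 0x8a6656a6) (.leaf 0))))) (.node (.node (.node (.node (.leaf 0xa86568a) (.leaf 0x866565)) (.node (.leaf 0x6a666a56) (.leaf 0))) (.node (.node (.leaf 0x86656a6) (.leaf 0)) (.node (.leaf 0xa68a56) (.leaf 0)))) (.node (.node (.node (.leaf 0x5656a5) (.leaf 0x6a66)) (.node (.leaf 0x8a68a565) (.leaf 0))) (.node (.node (.leaf 0x8566a8) (.leaf 0)) (.node (.leaf 0x68a6656) (.leaf 0))))))))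

/-- the words -/
def words : Trie :=
  (.node (.node (.node (.node words0 words8) (.node words4 words12)) (.node (.node words2 words10) (.node words6 words14))) (.node (.node (.node words1 words9) (.node words5 words13)) (.node (.node words3 words11) (.node words7 words15))))

/-- part of the permutations -/
def codes0 : Trie :=
  (.node (.node (.node (.node (.node (.node (.node (.leaf 0x12345678) (.leaf 0x706148253)) (.node (.leaf 0x305147628) (.leaf 0))) (.node (.node (.leaf 0x157042836) (.leaf 0x852046173)) (.node (.leaf 0x560148273) (.leaf 0)))) (.node (.node (.node (.leaf 0x73146285) (.leaf 0x780142635)) (.node (.leaf 0x376041825) (.leaf 0))) (.node (.node (.leaf 0x230147856) (.leaf 0)) (.node (.leaf 0x623041875) (.leaf 0))))) (.node (.node (.node (.node (.leaf 0x37142685) (.leaf 0x732041865)) (.node (.leaf 0x350146728) (.leaf 0))) (.node (.node (.leaf 0x183046527) (.leaf 0)) (.node (.leaf 0x586047132) (.leaf 0)))) (.node (.node (.node (.leaf 0x120346875) (.leaf 0x816042573))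 (.node (.leaf 0x513042876) (.leaf 0))) (.node (.node (.leaf 0x267041835) (.leaf 0)) (.node (.leaf 0x670143852) (.leaf 0)))))) (.node (.node (.node (.node (.node (.leaf 0x25148736) (.leaf 0x720348615)) (.node (.leaf 0x317048652) (.leaf 0))) (.node (.node (.leaf 0x170346528) (.leaf 0x865041237)) (.node (.leaf 0x572043681) (.leaf 0)))) (.node (.node (.node (.leaf 0x86143527) (.leaf 0x803142576)) (.node (.leaf 0x501246387) (.leaf 0))) (.node (.node (.leaf 0x253148607) (.leaf 0)) (.node (.leaf 0x637045128) (.leaf 0))))) (.node (.node (.node (.node (.leaf 0x61247835) (.leaf 0x756148302)) (.node (.leaf 0x362045178) (.leaf 0))) (.node (.node (.leaf 0x207346518) (.leaf 0)) (.node (.leaf 0x610248537) (.leaf 0)))) (.node (.node (.node (.leaf 0x135048672) (.leaf 0x830145276)) (.node (.leaf 0x527046381) (.leaf 0))) (.node (.node (.leaf 0x280147365) (.leaf 0)) (.node (.leaf 0x682145703) (.leaf 0))))))) (.node (.node (.node (.node (.node (.node (.leaf 0x17348625) (.leaf 0x713048256)) (.node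 (.leaf 0x310245867) (.leaf 0))) (.node (.node (.leaf 0x163248507) (.leaf 0x860145723)) (.node (.leaf 0x567143208) (.leaf 0)))) (.node (.node (.node (.leaf 0x81247653) (.leaf 0x785046321)) (.node (.leaf 0x382045716) (.leaf 0))) (.node (.node (.leaf 0x237041568) (.leaf 0)) (.node (.leaf 0x630248715) (.leaf 0))))) (.node (.node (.node (.node (.leaf 0x53146827) (.leaf 0x750142368)) (.node (.leaf 0x357048216) (.leaf 0))) (.node (.node (.leaf 0x201348576) (.leaf 0)) (.node (.leaf 0x603247815) (.leaf 0)))) (.node (.node (.node (.leaf 0x127345806) (.leaf 0x823047615)) (.node (.leaf 0x520148637) (.leaf 0))) (.node (.node (.leaf 0x273045168) (.leaf 0)) (.node (.leaf 0x675142803) (.leaf 0)))))) (.node (.node (.node (.node (.node (.leaf 0x31247568) (.leaf 0x726045138)) (.node (.leaf 0x325147806) (.leaf 0))) (.node (.node (.leaf 0x176043285) (.leaf 0x872046351)) (.node (.leaf 0x580243716) (.leaf 0)))) (.node (.node (.node (.leaf 0x105246783) (.leaf 0x810246357)) (.node (.leaf 0x507143862)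 (.leaf 0))) (.node (.node (.leaf 0x260147583) (.leaf 0)) (.node (.leaf 0x652048713) (.leaf 0))))) (.node (.node (.node (.node (.leaf 0x67142358) (.leaf 0x762041538)) (.node (.leaf 0x370146582) (.leaf 0))) (.node (.node (.leaf 0x215043768) (.leaf 0)) (.node (.leaf 0x617045382) (.leaf 0)))) (.node (.node (.node (.leaf 0x150247683) (.leaf 0x836042751)) (.node (.leaf 0x532146708) (.leaf 0))) (.node (.node (.leaf 0x286145307) (.leaf 0)) (.node (.leaf 0x701345826) (.leaf 0))))))))

/-- part of the permutations -/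
def codes8 : Trie :=
  (.node (.node (.node (.node (.node (.node (.node (.leaf 0x15243786) (.leaf 0x710348526)) (.node (.leaf 0x307145682) (.leaf 0))) (.node (.node (.leaf 0x160247538) (.leaf 0x856042137)) (.node (.leaf 0x562043718) (.leaf 0)))) (.node (.node (.node (.leaf 0x76143258) (.leaf 0x782041356)) (.node (.leaf 0x380146275) (.leaf 0))) (.node (.node (.leaf 0x235146807) (.leaf 0)) (.node (.leaf 0x627045831) (.leaf 0))))) (.node (.node (.node (.node (.leaf 0x51247386) (.leaf 0x736045821)) (.node (.leaf 0x352148706) (.leaf 0))) (.node (.node (.leaf 0x186043572) (.leaf 0)) (.node (.leaf 0x601245837) (.leaf 0)))) (.node (.node (.node (.leaf 0x125048763) (.leaf 0x820145367)) (.node (.leaf 0x517046832) (.leaf 0))) (.node (.node (.leaf 0x270345618) (.leaf 0)) (.node (.leaf 0x672048531) (.leaf 0)))))) (.node (.node (.node (.node (.node (.leaf 0x27348516) (.leaf 0x723048165)) (.node (.leaf 0x320146857) (.leaf 0))) (.node (.node (.leaf 0x173046258) (.leaf 0x870145632)) (.node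 (.leaf 0x576142308) (.leaf 0)))) (.node (.node (.node (.leaf 0x102348675) (.leaf 0x806147523)) (.node (.leaf 0x503147826) (.leaf 0))) (.node (.node (.leaf 0x257041386) (.leaf 0)) (.node (.leaf 0x650143278) (.leaf 0))))) (.node (.node (.node (.node (.leaf 0x63245817) (.leaf 0x760142853)) (.node (.leaf 0x367048125) (.leaf 0))) (.node (.node (.leaf 0x210345876) (.leaf 0)) (.node (.leaf 0x613247508) (.leaf 0)))) (.node (.node (.node (.leaf 0x137042658) (.leaf 0x832046715)) (.node (.leaf 0x530148726) (.leaf 0))) (.node (.node (.leaf 0x283045617) (.leaf 0)) (.node (.leaf 0x685047231) (.leaf 0))))))) (.node (.node (.node (.node (.node (.node (.leaf 0x21346578) (.leaf 0x716045283)) (.node (.leaf 0x315042678) (.leaf 0))) (.node (.node (.leaf 0x167042385) (.leaf 0x862143705)) (.node (.leaf 0x570148362) (.leaf 0)))) (.node (.node (.node (.leaf 0x83146572) (.leaf 0x801243657)) (.node (.leaf 0x386041752) (.leaf 0))) (.node (.node (.leaf 0x250147638) (.leaf 0)) (.node (.leaf 0x632048175)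 (.leaf 0))))) (.node (.node (.node (.node (.leaf 0x57142863) (.leaf 0x752041683)) (.node (.leaf 0x360245718) (.leaf 0))) (.node (.node (.leaf 0x205146738) (.leaf 0)) (.node (.leaf 0x607148352) (.leaf 0)))) (.node (.node (.node (.leaf 0x130247865) (.leaf 0x826147305)) (.node (.leaf 0x523147608) (.leaf 0))) (.node (.node (.leaf 0x276048135) (.leaf 0)) (.node (.leaf 0x680143725) (.leaf 0)))))) (.node (.node (.node (.node (.node (.leaf 0x35148627) (.leaf 0x730142586)) (.node (.leaf 0x327048561) (.leaf 0))) (.node (.node (.leaf 0x180247356) (.leaf 0x875041326)) (.node (.leaf 0x582043176) (.leaf 0)))) (.node (.node (.node (.leaf 0x107345628) (.leaf 0x813047526)) (.node (.leaf 0x510243687) (.leaf 0))) (.node (.node (.leaf 0x263045871) (.leaf 0)) (.node (.leaf 0x657148203) (.leaf 0))))) (.node (.node (.node (.node (.leaf 0x71346825) (.leaf 0x765143802)) (.node (.leaf 0x372045861) (.leaf 0))) (.node (.node (.leaf 0x217346805) (.leaf 0)) (.node (.leaf 0x620143587) (.leaf 0)))) (.node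 (.node (.node (.leaf 0x153046872) (.leaf 0x850246713)) (.node (.leaf 0x537046218) (.leaf 0))) (.node (.node (.leaf 0x301248567) (.leaf 0)) (.node (.leaf 0x703145286) (.leaf 0))))))))

/-- part of the permutations -/
def codes4 : Trie :=
  (.node (.node (.node (.node (.node (.node (.node (.leaf 0x13245768) (.leaf 0x708146235)) (.node (.leaf 0x306247518) (.leaf 0))) (.node (.node (.leaf 0x158243607) (.leaf 0x853047162)) (.node (.leaf 0x561048723) (.leaf 0)))) (.node (.node (.node (.leaf 0x75148263) (.leaf 0x781042365)) (.node (.leaf 0x378142506) (.leaf 0))) (.node (.node (.leaf 0x231047586) (.leaf 0)) (.node (.leaf 0x625047813) (.leaf 0))))) (.node (.node (.node (.node (.leaf 0x38145672) (.leaf 0x735046812)) (.node (.leaf 0x351046278) (.leaf 0))) (.node (.node (.leaf 0x185246307) (.leaf 0)) (.node (.leaf 0x587046123) (.leaf 0)))) (.node (.node (.node (.leaf 0x123046785) (.leaf 0x817043562)) (.node (.leaf 0x516047823) (.leaf 0))) (.node (.node (.leaf 0x268143507) (.leaf 0))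 (.node (.leaf 0x671043582) (.leaf 0)))))) (.node (.node (.node (.node (.node (.leaf 0x26143785) (.leaf 0x721345608)) (.node (.leaf 0x318047625) (.leaf 0))) (.node (.node (.leaf 0x172348506) (.leaf 0x867043215)) (.node (.leaf 0x573042618) (.leaf 0)))) (.node (.node (.node (.leaf 0x87142536) (.leaf 0x805247613)) (.node (.leaf 0x502146837) (.leaf 0))) (.node (.node (.leaf 0x256048317) (.leaf 0)) (.node (.leaf 0x638042157) (.leaf 0))))) (.node (.node (.node (.node (.leaf 0x62147385) (.leaf 0x758043621)) (.node (.leaf 0x365042187) (.leaf 0))) (.node (.node (.leaf 0x208143765) (.leaf 0)) (.node (.leaf 0x612048357) (.leaf 0)))) (.node (.node (.node (.leaf 0x136245807) (.leaf 0x831045726)) (.node (.leaf 0x528041376) (.leaf 0))) (.node (.node (.leaf 0x281047635) (.leaf 0)) (.node (.leaf 0x683041257) (.leaf 0))))))) (.node (.node (.node (.node (.node (.node (.leaf 0x18246753) (.leaf 0x715046238)) (.node (.leaf 0x312045687) (.leaf 0))) (.node (.node (.leaf 0x165048327) (.leaf 0x861045273))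 (.node (.leaf 0x568041732) (.leaf 0)))) (.node (.node (.node (.leaf 0x82147563) (.leaf 0x786045312)) (.node (.leaf 0x385042761) (.leaf 0))) (.node (.node (.leaf 0x238046517) (.leaf 0)) (.node (.leaf 0x631245708) (.leaf 0))))) (.node (.node (.node (.node (.leaf 0x56143872) (.leaf 0x751042638)) (.node (.leaf 0x358047261) (.leaf 0))) (.node (.node (.leaf 0x203148756) (.leaf 0)) (.node (.leaf 0x605142378) (.leaf 0)))) (.node (.node (.node (.leaf 0x128045736) (.leaf 0x825041673)) (.node (.leaf 0x521048367) (.leaf 0))) (.node (.node (.leaf 0x275043186) (.leaf 0)) (.node (.leaf 0x678042513) (.leaf 0)))))) (.node (.node (.node (.node (.node (.leaf 0x32147658) (.leaf 0x728043156)) (.node (.leaf 0x326041578) (.leaf 0))) (.node (.node (.leaf 0x178045263) (.leaf 0x873142605)) (.node (.leaf 0x581246703) (.leaf 0)))) (.node (.node (.node (.leaf 0x106245738) (.leaf 0x812046537)) (.node (.leaf 0x508247316) (.leaf 0))) (.node (.node (.leaf 0x261047853) (.leaf 0)) (.node (.leaf 0x653041782)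 (.leaf 0))))) (.node (.node (.node (.node (.leaf 0x68145327) (.leaf 0x763048521)) (.node (.leaf 0x371046852) (.leaf 0))) (.node (.node (.leaf 0x216048753) (.leaf 0)) (.node (.leaf 0x618042375) (.leaf 0)))) (.node (.node (.node (.leaf 0x152047863) (.leaf 0x837146205)) (.node (.leaf 0x536047281) (.leaf 0))) (.node (.node (.leaf 0x287041653) (.leaf 0)) (.node (.leaf 0x702346815) (.leaf 0))))))))

/-- part of the permutations -/
def codes12 : Trie :=
  (.node (.node (.node (.node (.node (.node (.node (.leaf 0x16248735) (.leaf 0x712346508)) (.node (.leaf 0x308142675) (.leaf 0))) (.node (.node (.leaf 0x162047358) (.leaf 0x857043126)) (.node (.leaf 0x563042781) (.leaf 0)))) (.node (.node (.node (.leaf 0x78145236) (.leaf 0x783145602)) (.node (.leaf 0x381046725) (.leaf 0))) (.node (.node (.leaf 0x236048571) (.leaf 0)) (.node (.leaf 0x628147503) (.leaf 0))))) (.node (.node (.node (.node (.leaf 0x52147836) (.leaf 0x738146502)) (.node (.leaf 0x356041287) (.leaf 0))) (.node (.node (.leaf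 0x187042563) (.leaf 0)) (.node (.leaf 0x602145387) (.leaf 0)))) (.node (.node (.node (.leaf 0x126043758) (.leaf 0x821045637)) (.node (.leaf 0x518247603) (.leaf 0))) (.node (.node (.leaf 0x271348605) (.leaf 0)) (.node (.leaf 0x673041528) (.leaf 0)))))) (.node (.node (.node (.node (.node (.leaf 0x28145763) (.leaf 0x725046183)) (.node (.leaf 0x321046587) (.leaf 0))) (.node (.node (.leaf 0x175048236) (.leaf 0x871045362)) (.node (.leaf 0x578041623) (.leaf 0)))) (.node (.node (.node (.leaf 0x103248765) (.leaf 0x807146532)) (.node (.leaf 0x506142873) (.leaf 0))) (.node (.node (.leaf 0x258046371) (.leaf 0)) (.node (.leaf 0x651043728) (.leaf 0))))) (.node (.node (.node (.node (.leaf 0x65148372) (.leaf 0x761042583)) (.node (.leaf 0x368047152) (.leaf 0))) (.node (.node (.leaf 0x213045786) (.leaf 0)) (.node (.leaf 0x615047328) (.leaf 0)))) (.node (.node (.node (.leaf 0x138045627) (.leaf 0x835041762)) (.node (.leaf 0x531048276) (.leaf 0))) (.node (.node (.leaf 0x285043671) (.leaf 0))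 (.node (.leaf 0x687045213) (.leaf 0))))))) (.node (.node (.node (.node (.node (.node (.leaf 0x23146758) (.leaf 0x718043265)) (.node (.leaf 0x316247805) (.leaf 0))) (.node (.node (.leaf 0x168045372) (.leaf 0x863047251)) (.node (.leaf 0x571048632) (.leaf 0)))) (.node (.node (.node (.leaf 0x85243617) (.leaf 0x802143567)) (.node (.leaf 0x387145206) (.leaf 0))) (.node (.node (.leaf 0x251047368) (.leaf 0)) (.node (.leaf 0x635047182) (.leaf 0))))) (.node (.node (.node (.node (.leaf 0x58246317) (.leaf 0x753048612)) (.node (.leaf 0x361248705) (.leaf 0))) (.node (.node (.leaf 0x206145783) (.leaf 0)) (.node (.leaf 0x608147325) (.leaf 0)))) (.node (.node (.node (.leaf 0x132047685) (.leaf 0x827043651)) (.node (.leaf 0x526047318) (.leaf 0))) (.node (.node (.leaf 0x278046153) (.leaf 0)) (.node (.leaf 0x681043275) (.leaf 0)))))) (.node (.node (.node (.node (.node (.leaf 0x36248517) (.leaf 0x731042856)) (.node (.leaf 0x328047516) (.leaf 0))) (.node (.node (.leaf 0x182047536) (.leaf 0x876042315))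 (.node (.leaf 0x583042167) (.leaf 0)))) (.node (.node (.node (.leaf 0x108243756) (.leaf 0x815247306)) (.node (.leaf 0x512043867) (.leaf 0))) (.node (.node (.leaf 0x265043817) (.leaf 0)) (.node (.leaf 0x658042731) (.leaf 0))))) (.node (.node (.node (.node (.leaf 0x72345816) (.leaf 0x768043512)) (.node (.leaf 0x375042816) (.leaf 0))) (.node (.node (.leaf 0x218046735) (.leaf 0)) (.node (.leaf 0x621043857) (.leaf 0)))) (.node (.node (.node (.leaf 0x156043827) (.leaf 0x851243706)) (.node (.leaf 0x538041267) (.leaf 0))) (.node (.node (.leaf 0x302148657) (.leaf 0)) (.node (.leaf 0x705143268) (.leaf 0))))))))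

/-- part of the permutations -/
def codes2 : Trie :=
  (.node (.node (.node (.node (.node (.node (.node (.leaf 0x12648375) (.leaf 0x706342851)) (.node (.leaf 0x305741826) (.leaf 0))) (.node (.node (.leaf 0x157648230) (.leaf 0x852341670)) (.node (.leaf 0x560342871) (.leaf 0)))) (.node (.node (.node (.leaf 0x73542681) (.leaf 0x780546231)) (.node (.leaf 0x376548120) (.leaf 0))) (.node (.node (.leaf 0x230741658) (.leaf 0)) (.node (.leaf 0x623548170) (.leaf 0))))) (.node (.node (.node (.node (.leaf 0x37546281) (.leaf 0x732548160)) (.node (.leaf 0x350748126) (.leaf 0))) (.node (.node (.leaf 0x183640725) (.leaf 0)) (.node (.leaf 0x586241730) (.leaf 0)))) (.node (.node (.node (.leaf 0x120643578) (.leaf 0x816345270)) (.node (.leaf 0x513648270) (.leaf 0))) (.node (.node (.leaf 0x267548130) (.leaf 0)) (.node (.leaf 0x670341258) (.leaf 0)))))) (.node (.node (.node (.node (.node (.leaf 0x25746138) (.leaf 0x720645318)) (.node (.leaf 0x317642058) (.leaf 0))) (.node (.node (.leaf 0x170643825)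 (.leaf 0x865247031)) (.node (.leaf 0x572340186) (.leaf 0)))) (.node (.node (.node (.leaf 0x86547123) (.leaf 0x803546172)) (.node (.leaf 0x501642783) (.leaf 0))) (.node (.node (.leaf 0x253746801) (.leaf 0)) (.node (.leaf 0x637540821) (.leaf 0))))) (.node (.node (.node (.node (.leaf 0x61742538) (.leaf 0x756342108)) (.node (.leaf 0x362540871) (.leaf 0))) (.node (.node (.leaf 0x207643815) (.leaf 0)) (.node (.leaf 0x610745832) (.leaf 0)))) (.node (.node (.node (.leaf 0x135642078) (.leaf 0x830541672)) (.node (.leaf 0x527341086) (.leaf 0))) (.node (.node (.leaf 0x280543761) (.leaf 0)) (.node (.leaf 0x682541307) (.leaf 0))))))) (.node (.node (.node (.node (.node (.node (.leaf 0x17645328) (.leaf 0x713642850)) (.node (.leaf 0x310748562) (.leaf 0))) (.node (.node (.leaf 0x163745802) (.leaf 0x860541327)) (.node (.leaf 0x567341802) (.leaf 0)))) (.node (.node (.node (.leaf 0x81643257) (.leaf 0x785341026)) (.node (.leaf 0x382647510) (.leaf 0))) (.node (.node (.leaf 0x237548061) (.leaf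 0)) (.node (.leaf 0x630745218) (.leaf 0))))) (.node (.node (.node (.node (.leaf 0x53748621) (.leaf 0x750348162)) (.node (.leaf 0x357642810) (.leaf 0))) (.node (.node (.leaf 0x201645873) (.leaf 0)) (.node (.leaf 0x603742518) (.leaf 0)))) (.node (.node (.node (.leaf 0x127648503) (.leaf 0x823645017)) (.node (.leaf 0x520746831) (.leaf 0))) (.node (.node (.leaf 0x273540861) (.leaf 0)) (.node (.leaf 0x675348201) (.leaf 0)))))) (.node (.node (.node (.node (.node (.leaf 0x31742865) (.leaf 0x726540831)) (.node (.leaf 0x325741608) (.leaf 0))) (.node (.node (.leaf 0x176340582) (.leaf 0x872341056)) (.node (.leaf 0x580647312) (.leaf 0)))) (.node (.node (.node (.leaf 0x105642387) (.leaf 0x810642753)) (.node (.leaf 0x507341268) (.leaf 0))) (.node (.node (.leaf 0x260543187) (.leaf 0)) (.node (.leaf 0x652743018) (.leaf 0))))) (.node (.node (.node (.node (.leaf 0x67348152) (.leaf 0x762548031)) (.node (.leaf 0x370542186) (.leaf 0))) (.node (.node (.leaf 0x215748063) (.leaf 0)) (.node (.leaf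 0x617342085) (.leaf 0)))) (.node (.node (.node (.leaf 0x150643287) (.leaf 0x836240157)) (.node (.leaf 0x532748106) (.leaf 0))) (.node (.node (.leaf 0x286541703) (.leaf 0)) (.node (.leaf 0x701648523) (.leaf 0))))))))

/-- part of the permutations -/
def codes10 : Trie :=
  (.node (.node (.node (.node (.node (.node (.node (.leaf 0x15647382) (.leaf 0x710645823)) (.node (.leaf 0x307541286) (.leaf 0))) (.node (.node (.leaf 0x160742835) (.leaf 0x856240731)) (.node (.leaf 0x562748013) (.leaf 0)))) (.node (.node (.node (.leaf 0x76341852) (.leaf 0x782346051)) (.node (.leaf 0x380542671) (.leaf 0))) (.node (.node (.leaf 0x235748601) (.leaf 0)) (.node (.leaf 0x627540138) (.leaf 0))))) (.node (.node (.node (.node (.leaf 0x51643782) (.leaf 0x736540128)) (.node (.leaf 0x352746108) (.leaf 0))) (.node (.node (.leaf 0x186340275) (.leaf 0)) (.node (.leaf 0x601748532) (.leaf 0)))) (.node (.node (.node (.leaf 0x125743068) (.leaf 0x820541763)) (.node (.leaf 0x517640238) (.leaf 0))) (.node (.node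 (.leaf 0x270648315) (.leaf 0)) (.node (.leaf 0x672541038) (.leaf 0)))))) (.node (.node (.node (.node (.node (.leaf 0x27645813) (.leaf 0x723541860)) (.node (.leaf 0x320748651) (.leaf 0))) (.node (.node (.leaf 0x173640852) (.leaf 0x870541236)) (.node (.leaf 0x576348102) (.leaf 0)))) (.node (.node (.node (.leaf 0x102645378) (.leaf 0x806543127)) (.node (.leaf 0x503741628) (.leaf 0))) (.node (.node (.leaf 0x257346081) (.leaf 0)) (.node (.leaf 0x650341872) (.leaf 0))))) (.node (.node (.node (.node (.leaf 0x63748512) (.leaf 0x760348251)) (.node (.leaf 0x367541820) (.leaf 0))) (.node (.node (.leaf 0x210648573) (.leaf 0)) (.node (.leaf 0x613742805) (.leaf 0)))) (.node (.node (.node (.leaf 0x137648052) (.leaf 0x832640517)) (.node (.leaf 0x530746128) (.leaf 0))) (.node (.node (.leaf 0x283647015) (.leaf 0)) (.node (.leaf 0x685241037) (.leaf 0))))))) (.node (.node (.node (.node (.node (.node (.leaf 0x21643875) (.leaf 0x716342580)) (.node (.leaf 0x315648072) (.leaf 0))) (.node (.node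 (.leaf 0x167345082) (.leaf 0x862547301)) (.node (.leaf 0x570342168) (.leaf 0)))) (.node (.node (.node (.leaf 0x83542176) (.leaf 0x801647253)) (.node (.leaf 0x386247150) (.leaf 0))) (.node (.node (.leaf 0x250741836) (.leaf 0)) (.node (.leaf 0x632541870) (.leaf 0))))) (.node (.node (.node (.node (.leaf 0x57348261) (.leaf 0x752346180)) (.node (.leaf 0x360748215) (.leaf 0))) (.node (.node (.leaf 0x205748136) (.leaf 0)) (.node (.leaf 0x607342158) (.leaf 0)))) (.node (.node (.node (.leaf 0x130742568) (.leaf 0x826543701)) (.node (.leaf 0x523741806) (.leaf 0))) (.node (.node (.leaf 0x276541830) (.leaf 0)) (.node (.leaf 0x680547321) (.leaf 0)))))) (.node (.node (.node (.node (.node (.leaf 0x35746821) (.leaf 0x730546182)) (.node (.leaf 0x327541068) (.leaf 0))) (.node (.node (.leaf 0x180643752) (.leaf 0x875346021)) (.node (.leaf 0x582340671) (.leaf 0)))) (.node (.node (.node (.leaf 0x107648325) (.leaf 0x813645720)) (.node (.leaf 0x510647283) (.leaf 0))) (.node (.node (.leaf 0x263540178)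 (.leaf 0)) (.node (.leaf 0x657342801) (.leaf 0))))) (.node (.node (.node (.node (.leaf 0x71643528) (.leaf 0x765341208)) (.node (.leaf 0x372540168) (.leaf 0))) (.node (.node (.leaf 0x217643508) (.leaf 0)) (.node (.leaf 0x620547183) (.leaf 0)))) (.node (.node (.node (.leaf 0x153640278) (.leaf 0x850642317)) (.node (.leaf 0x537640812) (.leaf 0))) (.node (.node (.leaf 0x301745862) (.leaf 0)) (.node (.leaf 0x703541682) (.leaf 0))))))))

/-- part of the permutations -/
def codes6 : Trie :=
  (.node (.node (.node (.node (.node (.node (.node (.leaf 0x13748265) (.leaf 0x708542631)) (.node (.leaf 0x306742815) (.leaf 0))) (.node (.node (.leaf 0x158647203) (.leaf 0x853241760)) (.node (.leaf 0x561743028) (.leaf 0)))) (.node (.node (.node (.leaf 0x75342861) (.leaf 0x781345062)) (.node (.leaf 0x378546102) (.leaf 0))) (.node (.node (.leaf 0x231645780) (.leaf 0)) (.node (.leaf 0x625740318) (.leaf 0))))) (.node (.node (.node (.node (.leaf 0x38541276) (.leaf 0x735640218)) (.node (.leaf 0x351640872)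 (.leaf 0))) (.node (.node (.leaf 0x185642703) (.leaf 0)) (.node (.leaf 0x587341620) (.leaf 0)))) (.node (.node (.node (.leaf 0x123640587) (.leaf 0x817340265)) (.node (.leaf 0x516740328) (.leaf 0))) (.node (.node (.leaf 0x268547103) (.leaf 0)) (.node (.leaf 0x671340285) (.leaf 0)))))) (.node (.node (.node (.node (.node (.leaf 0x26547381) (.leaf 0x721648305)) (.node (.leaf 0x318645027) (.leaf 0))) (.node (.node (.leaf 0x172645803) (.leaf 0x867340512)) (.node (.leaf 0x573648012) (.leaf 0)))) (.node (.node (.node (.leaf 0x87546132) (.leaf 0x805643217)) (.node (.leaf 0x502748631) (.leaf 0))) (.node (.node (.leaf 0x256743810) (.leaf 0)) (.node (.leaf 0x638240751) (.leaf 0))))) (.node (.node (.node (.node (.leaf 0x62543781) (.leaf 0x758340126)) (.node (.leaf 0x365240781) (.leaf 0))) (.node (.node (.leaf 0x208547361) (.leaf 0)) (.node (.leaf 0x612743850) (.leaf 0)))) (.node (.node (.node (.leaf 0x136748502) (.leaf 0x831647520)) (.node (.leaf 0x528346071) (.leaf 0))) (.node (.node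 (.leaf 0x281645037) (.leaf 0)) (.node (.leaf 0x683247051) (.leaf 0))))))) (.node (.node (.node (.node (.node (.node (.leaf 0x18642357) (.leaf 0x715640832)) (.node (.leaf 0x312647085) (.leaf 0))) (.node (.node (.leaf 0x165743820) (.leaf 0x861342570)) (.node (.leaf 0x568247130) (.leaf 0)))) (.node (.node (.node (.leaf 0x82543167) (.leaf 0x786342015)) (.node (.leaf 0x385240167) (.leaf 0))) (.node (.node (.leaf 0x238640715) (.leaf 0)) (.node (.leaf 0x631748205) (.leaf 0))))) (.node (.node (.node (.node (.leaf 0x56341278) (.leaf 0x751648032)) (.node (.leaf 0x358241067) (.leaf 0))) (.node (.node (.leaf 0x203746158) (.leaf 0)) (.node (.leaf 0x605348172) (.leaf 0)))) (.node (.node (.node (.leaf 0x128647530) (.leaf 0x825346170)) (.node (.leaf 0x521743860) (.leaf 0))) (.node (.node (.leaf 0x275340681) (.leaf 0)) (.node (.leaf 0x678345210) (.leaf 0)))))) (.node (.node (.node (.node (.node (.leaf 0x32741856) (.leaf 0x728340651)) (.node (.leaf 0x326548071) (.leaf 0))) (.node (.node (.leaf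 0x178342560) (.leaf 0x873546201)) (.node (.leaf 0x581642307) (.leaf 0)))) (.node (.node (.node (.leaf 0x106748235) (.leaf 0x812640735)) (.node (.leaf 0x508643712) (.leaf 0))) (.node (.node (.leaf 0x261740358) (.leaf 0)) (.node (.leaf 0x653247180) (.leaf 0))))) (.node (.node (.node (.node (.leaf 0x68541723) (.leaf 0x763541028)) (.node (.leaf 0x371640258) (.leaf 0))) (.node (.node (.leaf 0x216743058) (.leaf 0)) (.node (.leaf 0x618345072) (.leaf 0)))) (.node (.node (.node (.leaf 0x152740368) (.leaf 0x837542601)) (.node (.leaf 0x536241087) (.leaf 0))) (.node (.node (.leaf 0x287346150) (.leaf 0)) (.node (.leaf 0x702643518) (.leaf 0))))))))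

/-- part of the permutations -/
def codes14 : Trie :=
  (.node (.node (.node (.node (.node (.node (.node (.leaf 0x16745238) (.leaf 0x712643805)) (.node (.leaf 0x308546271) (.leaf 0))) (.node (.node (.leaf 0x162740853) (.leaf 0x857340621)) (.node (.leaf 0x563240187) (.leaf 0)))) (.node (.node (.node (.leaf 0x78541632) (.leaf 0x783541206)) (.node (.leaf 0x381640527) (.leaf 0))) (.node (.node (.leaf 0x236541078) (.leaf 0)) (.node (.leaf 0x628543107) (.leaf 0))))) (.node (.node (.node (.node (.leaf 0x52741638) (.leaf 0x738542106)) (.node (.leaf 0x356247081) (.leaf 0))) (.node (.node (.leaf 0x187345260) (.leaf 0)) (.node (.leaf 0x602541783) (.leaf 0)))) (.node (.node (.node (.leaf 0x126748053) (.leaf 0x821647035)) (.node (.leaf 0x518643207) (.leaf 0))) (.node (.node (.leaf 0x271645308) (.leaf 0)) (.node (.leaf 0x673548021) (.leaf 0)))))) (.node (.node (.node (.node (.node (.leaf 0x28541367) (.leaf 0x725341680)) (.node (.leaf 0x321640785) (.leaf 0))) (.node (.node (.leaf 0x175642830)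 (.leaf 0x871342065)) (.node (.leaf 0x578346120) (.leaf 0)))) (.node (.node (.node (.leaf 0x103745268) (.leaf 0x807542136)) (.node (.leaf 0x506348271) (.leaf 0))) (.node (.node (.leaf 0x258341076) (.leaf 0)) (.node (.leaf 0x651748023) (.leaf 0))))) (.node (.node (.node (.node (.leaf 0x65342178) (.leaf 0x761345280)) (.node (.leaf 0x368241750) (.leaf 0))) (.node (.node (.leaf 0x213647580) (.leaf 0)) (.node (.leaf 0x615740823) (.leaf 0)))) (.node (.node (.node (.leaf 0x138647025) (.leaf 0x835247160)) (.node (.leaf 0x531642870) (.leaf 0))) (.node (.node (.leaf 0x285340176) (.leaf 0)) (.node (.leaf 0x687342510) (.leaf 0))))))) (.node (.node (.node (.node (.node (.node (.leaf 0x23748156) (.leaf 0x718340562)) (.node (.leaf 0x316742508) (.leaf 0))) (.node (.node (.leaf 0x168342075) (.leaf 0x863241057)) (.node (.leaf 0x571642038) (.leaf 0)))) (.node (.node (.node (.leaf 0x85647213) (.leaf 0x802547163)) (.node (.leaf 0x387541602) (.leaf 0))) (.node (.node (.leaf 0x251740863) (.leaf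 0)) (.node (.leaf 0x635241780) (.leaf 0))))) (.node (.node (.node (.node (.leaf 0x58642713) (.leaf 0x753642018)) (.node (.leaf 0x361745208) (.leaf 0))) (.node (.node (.leaf 0x206541387) (.leaf 0)) (.node (.leaf 0x608543721) (.leaf 0)))) (.node (.node (.node (.leaf 0x132645087) (.leaf 0x827340156)) (.node (.leaf 0x526740813) (.leaf 0))) (.node (.node (.leaf 0x278341650) (.leaf 0)) (.node (.leaf 0x681340572) (.leaf 0)))))) (.node (.node (.node (.node (.node (.leaf 0x36745812) (.leaf 0x731648250)) (.node (.leaf 0x328645710) (.leaf 0))) (.node (.node (.leaf 0x182645730) (.leaf 0x876345012)) (.node (.leaf 0x583240761) (.leaf 0)))) (.node (.node (.node (.leaf 0x108647352) (.leaf 0x815643702)) (.node (.leaf 0x512748360) (.leaf 0))) (.node (.node (.leaf 0x265748310) (.leaf 0)) (.node (.leaf 0x658240137) (.leaf 0))))) (.node (.node (.node (.node (.leaf 0x72648513) (.leaf 0x768340215)) (.node (.leaf 0x375648210) (.leaf 0))) (.node (.node (.leaf 0x218640537) (.leaf 0)) (.node (.leaf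 0x621748350) (.leaf 0)))) (.node (.node (.node (.leaf 0x156748320) (.leaf 0x851647302)) (.node (.leaf 0x538247061) (.leaf 0))) (.node (.node (.leaf 0x302746851) (.leaf 0)) (.node (.leaf 0x705341862) (.leaf 0))))))))

/-- part of the permutations -/
def codes1 : Trie :=
  (.node (.node (.node (.node (.node (.node (.node (.leaf 0x12543876) (.leaf 0x706243158)) (.node (.leaf 0x305648127) (.leaf 0))) (.node (.node (.leaf 0x157240638) (.leaf 0x852143076)) (.node (.leaf 0x560243178) (.leaf 0)))) (.node (.node (.node (.leaf 0x73245186) (.leaf 0x780241536)) (.node (.leaf 0x376140528) (.leaf 0))) (.node (.node (.leaf 0x230648751) (.leaf 0)) (.node (.leaf 0x623140578) (.leaf 0))))) (.node (.node (.node (.node (.leaf 0x37241586) (.leaf 0x732140568)) (.node (.leaf 0x350641827) (.leaf 0))) (.node (.node (.leaf 0x183547026) (.leaf 0)) (.node (.leaf 0x586142037) (.leaf 0)))) (.node (.node (.node (.leaf 0x120548673) (.leaf 0x816240375)) (.node (.leaf 0x513240678) (.leaf 0))) (.node (.node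 (.leaf 0x267140538) (.leaf 0)) (.node (.leaf 0x670248351) (.leaf 0)))))) (.node (.node (.node (.node (.node (.leaf 0x25647831) (.leaf 0x720546813)) (.node (.leaf 0x317246850) (.leaf 0))) (.node (.node (.leaf 0x170548326) (.leaf 0x865140732)) (.node (.leaf 0x572146380) (.leaf 0)))) (.node (.node (.node (.leaf 0x86341725) (.leaf 0x803241675)) (.node (.leaf 0x501347286) (.leaf 0))) (.node (.node (.leaf 0x253647108) (.leaf 0)) (.node (.leaf 0x637148025) (.leaf 0))))) (.node (.node (.node (.node (.leaf 0x61548732) (.leaf 0x756243801)) (.node (.leaf 0x362148075) (.leaf 0))) (.node (.node (.leaf 0x207548316) (.leaf 0)) (.node (.leaf 0x610547238) (.leaf 0)))) (.node (.node (.node (.leaf 0x135246870) (.leaf 0x830246175)) (.node (.leaf 0x527143680) (.leaf 0))) (.node (.node (.leaf 0x280345167) (.leaf 0)) (.node (.leaf 0x682347501) (.leaf 0))))))) (.node (.node (.node (.node (.node (.node (.leaf 0x17546823) (.leaf 0x713246058)) (.node (.leaf 0x310542768) (.leaf 0))) (.node (.node (.leaf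 0x163547208) (.leaf 0x860347521)) (.node (.leaf 0x567248103) (.leaf 0)))) (.node (.node (.node (.leaf 0x81346752) (.leaf 0x785143620)) (.node (.leaf 0x382540617) (.leaf 0))) (.node (.node (.leaf 0x237140865) (.leaf 0)) (.node (.leaf 0x630547812) (.leaf 0))))) (.node (.node (.node (.node (.leaf 0x53641728) (.leaf 0x750241863)) (.node (.leaf 0x357246018) (.leaf 0))) (.node (.node (.leaf 0x201546378) (.leaf 0)) (.node (.leaf 0x603548712) (.leaf 0)))) (.node (.node (.node (.leaf 0x127543608) (.leaf 0x823546710)) (.node (.leaf 0x520647138) (.leaf 0))) (.node (.node (.leaf 0x273148065) (.leaf 0)) (.node (.leaf 0x675241308) (.leaf 0)))))) (.node (.node (.node (.node (.node (.leaf 0x31548267) (.leaf 0x726148035)) (.node (.leaf 0x325648701) (.leaf 0))) (.node (.node (.leaf 0x176245083) (.leaf 0x872143650)) (.node (.leaf 0x580342617) (.leaf 0)))) (.node (.node (.node (.leaf 0x105347682) (.leaf 0x810347256)) (.node (.leaf 0x507248361) (.leaf 0))) (.node (.node (.leaf 0x260345781) (.leaf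 0)) (.node (.leaf 0x652347810) (.leaf 0))))) (.node (.node (.node (.node (.leaf 0x67241853) (.leaf 0x762140835)) (.node (.leaf 0x370245681) (.leaf 0))) (.node (.node (.leaf 0x215340867) (.leaf 0)) (.node (.leaf 0x617243580) (.leaf 0)))) (.node (.node (.node (.leaf 0x150346782) (.leaf 0x836147250)) (.node (.leaf 0x532641807) (.leaf 0))) (.node (.node (.leaf 0x286347105) (.leaf 0)) (.node (.leaf 0x701543628) (.leaf 0))))))))

/-- part of the permutations -/
def codes9 : Trie :=
  (.node (.node (.node (.node (.node (.node (.node (.leaf 0x15342687) (.leaf 0x710546328)) (.node (.leaf 0x307246581) (.leaf 0))) (.node (.node (.leaf 0x160548237) (.leaf 0x856147032)) (.node (.leaf 0x562340817) (.leaf 0)))) (.node (.node (.node (.leaf 0x76248153) (.leaf 0x782140653)) (.node (.leaf 0x380245176) (.leaf 0))) (.node (.node (.leaf 0x235641708) (.leaf 0)) (.node (.leaf 0x627148530) (.leaf 0))))) (.node (.node (.node (.node (.leaf 0x51346287) (.leaf 0x736148520)) (.node (.leaf 0x352647801)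 (.leaf 0))) (.node (.node (.leaf 0x186245370) (.leaf 0)) (.node (.leaf 0x601542738) (.leaf 0)))) (.node (.node (.node (.leaf 0x125347860) (.leaf 0x820347165)) (.node (.leaf 0x517248630) (.leaf 0))) (.node (.node (.leaf 0x270543816) (.leaf 0)) (.node (.leaf 0x672145830) (.leaf 0)))))) (.node (.node (.node (.node (.node (.leaf 0x27546318) (.leaf 0x723145068)) (.node (.leaf 0x320641758) (.leaf 0))) (.node (.node (.leaf 0x173248056) (.leaf 0x870246531)) (.node (.leaf 0x576241803) (.leaf 0)))) (.node (.node (.node (.leaf 0x102546873) (.leaf 0x806345721)) (.node (.leaf 0x503648721) (.leaf 0))) (.node (.node (.leaf 0x257140683) (.leaf 0)) (.node (.leaf 0x650248173) (.leaf 0))))) (.node (.node (.node (.node (.leaf 0x63542718) (.leaf 0x760241358)) (.node (.leaf 0x367145028) (.leaf 0))) (.node (.node (.leaf 0x210543678) (.leaf 0)) (.node (.leaf 0x613548207) (.leaf 0)))) (.node (.node (.node (.leaf 0x137240856) (.leaf 0x832547610)) (.node (.leaf 0x530647821) (.leaf 0))) (.node (.node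 (.leaf 0x283540716) (.leaf 0)) (.node (.leaf 0x685142730) (.leaf 0))))))) (.node (.node (.node (.node (.node (.node (.leaf 0x21548376) (.leaf 0x716243085)) (.node (.leaf 0x315240876) (.leaf 0))) (.node (.node (.leaf 0x167240583) (.leaf 0x862341507)) (.node (.leaf 0x570243861) (.leaf 0)))) (.node (.node (.node (.leaf 0x83245671) (.leaf 0x801342756)) (.node (.leaf 0x386140257) (.leaf 0))) (.node (.node (.leaf 0x250648137) (.leaf 0)) (.node (.leaf 0x632145078) (.leaf 0))))) (.node (.node (.node (.node (.leaf 0x57241368) (.leaf 0x752140386)) (.node (.leaf 0x360542817) (.leaf 0))) (.node (.node (.leaf 0x205641837) (.leaf 0)) (.node (.leaf 0x607243851) (.leaf 0)))) (.node (.node (.node (.leaf 0x130548762) (.leaf 0x826345107)) (.node (.leaf 0x523648107) (.leaf 0))) (.node (.node (.leaf 0x276145038) (.leaf 0)) (.node (.leaf 0x680341527) (.leaf 0)))))) (.node (.node (.node (.node (.node (.leaf 0x35647128) (.leaf 0x730241685)) (.node (.leaf 0x327145860) (.leaf 0))) (.node (.node (.leaf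 0x180346257) (.leaf 0x875140623)) (.node (.leaf 0x582146073) (.leaf 0)))) (.node (.node (.node (.leaf 0x107543826) (.leaf 0x813546027)) (.node (.leaf 0x510342786) (.leaf 0))) (.node (.node (.leaf 0x263148570) (.leaf 0)) (.node (.leaf 0x657243108) (.leaf 0))))) (.node (.node (.node (.node (.leaf 0x71548623) (.leaf 0x765248301)) (.node (.leaf 0x372148560) (.leaf 0))) (.node (.node (.leaf 0x217548603) (.leaf 0)) (.node (.leaf 0x620341785) (.leaf 0)))) (.node (.node (.node (.leaf 0x153248670) (.leaf 0x850347612)) (.node (.leaf 0x537248016) (.leaf 0))) (.node (.node (.leaf 0x301547268) (.leaf 0)) (.node (.leaf 0x703246185) (.leaf 0))))))))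

/-- part of the permutations -/
def codes5 : Trie :=
  (.node (.node (.node (.node (.node (.node (.node (.leaf 0x13542867) (.leaf 0x708245136)) (.node (.leaf 0x306548217) (.leaf 0))) (.node (.node (.leaf 0x158342706) (.leaf 0x853142067)) (.node (.leaf 0x561347820) (.leaf 0)))) (.node (.node (.node (.leaf 0x75243168) (.leaf 0x781240563)) (.node (.leaf 0x378241605) (.leaf 0))) (.node (.node (.leaf 0x231546087) (.leaf 0)) (.node (.leaf 0x625348710) (.leaf 0))))) (.node (.node (.node (.node (.leaf 0x38246571) (.leaf 0x735248610)) (.node (.leaf 0x351248076) (.leaf 0))) (.node (.node (.leaf 0x185347206) (.leaf 0)) (.node (.leaf 0x587143026) (.leaf 0)))) (.node (.node (.node (.leaf 0x123547680) (.leaf 0x817245360)) (.node (.leaf 0x516348720) (.leaf 0))) (.node (.node (.leaf 0x268341705) (.leaf 0)) (.node (.leaf 0x671245380) (.leaf 0)))))) (.node (.node (.node (.node (.node (.leaf 0x26341587) (.leaf 0x721543806)) (.node (.leaf 0x318546720) (.leaf 0))) (.node (.node (.leaf 0x172546308)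 (.leaf 0x867245013)) (.node (.leaf 0x573240816) (.leaf 0)))) (.node (.node (.node (.leaf 0x87241635) (.leaf 0x805346712)) (.node (.leaf 0x502641738) (.leaf 0))) (.node (.node (.leaf 0x256347018) (.leaf 0)) (.node (.leaf 0x638147052) (.leaf 0))))) (.node (.node (.node (.node (.leaf 0x62345187) (.leaf 0x758146320)) (.node (.leaf 0x365147082) (.leaf 0))) (.node (.node (.leaf 0x208341567) (.leaf 0)) (.node (.leaf 0x612347058) (.leaf 0)))) (.node (.node (.node (.leaf 0x136542708) (.leaf 0x831540627)) (.node (.leaf 0x528140673) (.leaf 0))) (.node (.node (.leaf 0x281546730) (.leaf 0)) (.node (.leaf 0x683140752) (.leaf 0))))))) (.node (.node (.node (.node (.node (.node (.leaf 0x18347652) (.leaf 0x715248036)) (.node (.leaf 0x312540786) (.leaf 0))) (.node (.node (.leaf 0x165347028) (.leaf 0x861243075)) (.node (.leaf 0x568140237) (.leaf 0)))) (.node (.node (.node (.leaf 0x82345761) (.leaf 0x786243510)) (.node (.leaf 0x385147260) (.leaf 0))) (.node (.node (.leaf 0x238547016) (.leaf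 0)) (.node (.leaf 0x631542807) (.leaf 0))))) (.node (.node (.node (.node (.leaf 0x56248371) (.leaf 0x751240836)) (.node (.leaf 0x358142760) (.leaf 0))) (.node (.node (.leaf 0x203647851) (.leaf 0)) (.node (.leaf 0x605241873) (.leaf 0)))) (.node (.node (.node (.leaf 0x128540637) (.leaf 0x825140376)) (.node (.leaf 0x521347068) (.leaf 0))) (.node (.node (.leaf 0x275146083) (.leaf 0)) (.node (.leaf 0x678240315) (.leaf 0)))))) (.node (.node (.node (.node (.node (.leaf 0x32648157) (.leaf 0x728146053)) (.node (.leaf 0x326140875) (.leaf 0))) (.node (.node (.leaf 0x178243065) (.leaf 0x873241506)) (.node (.leaf 0x581347602) (.leaf 0)))) (.node (.node (.node (.leaf 0x106542837) (.leaf 0x812547036)) (.node (.leaf 0x508346217) (.leaf 0))) (.node (.node (.leaf 0x261348750) (.leaf 0)) (.node (.leaf 0x653140287) (.leaf 0))))) (.node (.node (.node (.node (.leaf 0x68347125) (.leaf 0x763145820)) (.node (.leaf 0x371248650) (.leaf 0))) (.node (.node (.leaf 0x216347850) (.leaf 0)) (.node (.leaf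 0x618240573) (.leaf 0)))) (.node (.node (.node (.leaf 0x152348760) (.leaf 0x837245106)) (.node (.leaf 0x536142780) (.leaf 0))) (.node (.node (.leaf 0x287140356) (.leaf 0)) (.node (.leaf 0x702548613) (.leaf 0))))))))

/-- part of the permutations -/
def codes13 : Trie :=
  (.node (.node (.node (.node (.node (.node (.node (.leaf 0x16547832) (.leaf 0x712548306)) (.node (.leaf 0x308241576) (.leaf 0))) (.node (.node (.leaf 0x162348057) (.leaf 0x857146023)) (.node (.leaf 0x563147280) (.leaf 0)))) (.node (.node (.node (.leaf 0x78246135) (.leaf 0x783246501)) (.node (.leaf 0x381547620) (.leaf 0))) (.node (.node (.leaf 0x236145870) (.leaf 0)) (.node (.leaf 0x628345701) (.leaf 0))))) (.node (.node (.node (.node (.leaf 0x52648731) (.leaf 0x738245601)) (.node (.leaf 0x356140782) (.leaf 0))) (.node (.node (.leaf 0x187240365) (.leaf 0)) (.node (.leaf 0x602347185) (.leaf 0)))) (.node (.node (.node (.leaf 0x126340857) (.leaf 0x821540736)) (.node (.leaf 0x518346702) (.leaf 0))) (.node (.node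 (.leaf 0x271546803) (.leaf 0)) (.node (.leaf 0x673140825) (.leaf 0)))))) (.node (.node (.node (.node (.node (.leaf 0x28347561) (.leaf 0x725143086)) (.node (.leaf 0x321547086) (.leaf 0))) (.node (.node (.leaf 0x175246038) (.leaf 0x871243560)) (.node (.leaf 0x578140326) (.leaf 0)))) (.node (.node (.node (.leaf 0x103547862) (.leaf 0x807245631)) (.node (.leaf 0x506241378) (.leaf 0))) (.node (.node (.leaf 0x258143670) (.leaf 0)) (.node (.leaf 0x651340827) (.leaf 0))))) (.node (.node (.node (.node (.leaf 0x65243871) (.leaf 0x761240385)) (.node (.leaf 0x368142057) (.leaf 0))) (.node (.node (.leaf 0x213540687) (.leaf 0)) (.node (.leaf 0x615348027) (.leaf 0)))) (.node (.node (.node (.leaf 0x138540726) (.leaf 0x835140267)) (.node (.leaf 0x531246078) (.leaf 0))) (.node (.node (.leaf 0x285146370) (.leaf 0)) (.node (.leaf 0x687243015) (.leaf 0))))))) (.node (.node (.node (.node (.node (.node (.leaf 0x23641857) (.leaf 0x718245063)) (.node (.leaf 0x316548702) (.leaf 0))) (.node (.node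 (.leaf 0x168243570) (.leaf 0x863142750)) (.node (.leaf 0x571246830) (.leaf 0)))) (.node (.node (.node (.leaf 0x85342716) (.leaf 0x802341765)) (.node (.leaf 0x387246105) (.leaf 0))) (.node (.node (.leaf 0x251348067) (.leaf 0)) (.node (.leaf 0x635142087) (.leaf 0))))) (.node (.node (.node (.node (.leaf 0x58347216) (.leaf 0x753246810)) (.node (.leaf 0x361547802) (.leaf 0))) (.node (.node (.leaf 0x206347581) (.leaf 0)) (.node (.leaf 0x608345127) (.leaf 0)))) (.node (.node (.node (.leaf 0x132546780) (.leaf 0x827146350)) (.node (.leaf 0x526348017) (.leaf 0))) (.node (.node (.leaf 0x278143056) (.leaf 0)) (.node (.leaf 0x681245073) (.leaf 0)))))) (.node (.node (.node (.node (.node (.leaf 0x36547218) (.leaf 0x731240658)) (.node (.leaf 0x328546017) (.leaf 0))) (.node (.node (.leaf 0x182546037) (.leaf 0x876240513)) (.node (.leaf 0x583147062) (.leaf 0)))) (.node (.node (.node (.leaf 0x108342657) (.leaf 0x815346207)) (.node (.leaf 0x512340768) (.leaf 0))) (.node (.node (.leaf 0x265340718)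 (.leaf 0)) (.node (.leaf 0x658147230) (.leaf 0))))) (.node (.node (.node (.node (.leaf 0x72543618) (.leaf 0x768245310)) (.node (.leaf 0x375240618) (.leaf 0))) (.node (.node (.leaf 0x218547630) (.leaf 0)) (.node (.leaf 0x621340758) (.leaf 0)))) (.node (.node (.node (.leaf 0x156340728) (.leaf 0x851342607)) (.node (.leaf 0x538140762) (.leaf 0))) (.node (.node (.leaf 0x302647158) (.leaf 0)) (.node (.leaf 0x705248163) (.leaf 0))))))))

/-- part of the permutations -/
def codes3 : Trie :=
  (.node (.node (.node (.node (.node (.node (.node (.leaf 0x12846573) (.leaf 0x706841352)) (.node (.leaf 0x305846721) (.leaf 0))) (.node (.node (.leaf 0x157846032) (.leaf 0x852640371)) (.node (.leaf 0x560841372) (.leaf 0)))) (.node (.node (.node (.leaf 0x73641582) (.leaf 0x780645132)) (.node (.leaf 0x376845021) (.leaf 0))) (.node (.node (.leaf 0x230846157) (.leaf 0)) (.node (.leaf 0x623845071) (.leaf 0))))) (.node (.node (.node (.node (.leaf 0x37645182) (.leaf 0x732845061)) (.node (.leaf 0x350847621)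 (.leaf 0))) (.node (.node (.leaf 0x183745620) (.leaf 0)) (.node (.leaf 0x586740231) (.leaf 0)))) (.node (.node (.node (.leaf 0x120845376) (.leaf 0x816543072)) (.node (.leaf 0x513846072) (.leaf 0))) (.node (.node (.leaf 0x267845031) (.leaf 0)) (.node (.leaf 0x670842153) (.leaf 0)))))) (.node (.node (.node (.node (.node (.leaf 0x25841637) (.leaf 0x720843516)) (.node (.leaf 0x317840256) (.leaf 0))) (.node (.node (.leaf 0x170845623) (.leaf 0x865742130)) (.node (.leaf 0x572641083) (.leaf 0)))) (.node (.node (.node (.leaf 0x86745321) (.leaf 0x803645271)) (.node (.leaf 0x501743682) (.leaf 0))) (.node (.node (.leaf 0x253841706) (.leaf 0)) (.node (.leaf 0x637841520) (.leaf 0))))) (.node (.node (.node (.node (.leaf 0x61845237) (.leaf 0x756841203)) (.node (.leaf 0x362841570) (.leaf 0))) (.node (.node (.leaf 0x207845613) (.leaf 0)) (.node (.leaf 0x610842735) (.leaf 0)))) (.node (.node (.node (.leaf 0x135840276) (.leaf 0x830642571)) (.node (.leaf 0x527640183) (.leaf 0))) (.node (.node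 (.leaf 0x280741563) (.leaf 0)) (.node (.leaf 0x682743105) (.leaf 0))))))) (.node (.node (.node (.node (.node (.node (.leaf 0x17843526) (.leaf 0x713840652)) (.node (.leaf 0x310847265) (.leaf 0))) (.node (.node (.leaf 0x163842705) (.leaf 0x860743125)) (.node (.leaf 0x567842301) (.leaf 0)))) (.node (.node (.node (.leaf 0x81742356) (.leaf 0x785640123)) (.node (.leaf 0x382746015) (.leaf 0))) (.node (.node (.leaf 0x237845160) (.leaf 0)) (.node (.leaf 0x630842517) (.leaf 0))))) (.node (.node (.node (.node (.leaf 0x53847126) (.leaf 0x750843261)) (.node (.leaf 0x357840612) (.leaf 0))) (.node (.node (.leaf 0x201843675) (.leaf 0)) (.node (.leaf 0x603845217) (.leaf 0)))) (.node (.node (.node (.leaf 0x127846305) (.leaf 0x823740516)) (.node (.leaf 0x520841736) (.leaf 0))) (.node (.node (.leaf 0x273841560) (.leaf 0)) (.node (.leaf 0x675843102) (.leaf 0)))))) (.node (.node (.node (.node (.node (.leaf 0x31845762) (.leaf 0x726841530)) (.node (.leaf 0x325846107) (.leaf 0))) (.node (.node (.leaf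 0x176542380) (.leaf 0x872640153)) (.node (.leaf 0x580746213) (.leaf 0)))) (.node (.node (.node (.leaf 0x105743286) (.leaf 0x810743652)) (.node (.leaf 0x507842163) (.leaf 0))) (.node (.node (.leaf 0x260741385) (.leaf 0)) (.node (.leaf 0x652840317) (.leaf 0))))) (.node (.node (.node (.node (.leaf 0x67843251) (.leaf 0x762845130)) (.node (.leaf 0x370641285) (.leaf 0))) (.node (.node (.leaf 0x215847360) (.leaf 0)) (.node (.leaf 0x617540283) (.leaf 0)))) (.node (.node (.node (.leaf 0x150742386) (.leaf 0x836741052)) (.node (.leaf 0x532847601) (.leaf 0))) (.node (.node (.leaf 0x286743501) (.leaf 0)) (.node (.leaf 0x701846325) (.leaf 0))))))))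

/-- part of the permutations -/
def codes11 : Trie :=
  (.node (.node (.node (.node (.node (.node (.node (.leaf 0x15746283) (.leaf 0x710843625)) (.node (.leaf 0x307642185) (.leaf 0))) (.node (.node (.leaf 0x160845732) (.leaf 0x856741230)) (.node (.leaf 0x562847310) (.leaf 0)))) (.node (.node (.node (.leaf 0x76842351) (.leaf 0x782643150)) (.node (.leaf 0x380641572) (.leaf 0))) (.node (.node (.leaf 0x235847106) (.leaf 0)) (.node (.leaf 0x627841035) (.leaf 0))))) (.node (.node (.node (.node (.leaf 0x51742683) (.leaf 0x736841025)) (.node (.leaf 0x352841607) (.leaf 0))) (.node (.node (.leaf 0x186542073) (.leaf 0)) (.node (.leaf 0x601847235) (.leaf 0)))) (.node (.node (.node (.leaf 0x125840367) (.leaf 0x820743561)) (.node (.leaf 0x517842036) (.leaf 0))) (.node (.node (.leaf 0x270846513) (.leaf 0)) (.node (.leaf 0x672840135) (.leaf 0)))))) (.node (.node (.node (.node (.node (.leaf 0x27843615) (.leaf 0x723840561)) (.node (.leaf 0x320847156) (.leaf 0))) (.node (.node (.leaf 0x173842650)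 (.leaf 0x870642135)) (.node (.leaf 0x576843201) (.leaf 0)))) (.node (.node (.node (.leaf 0x102843576) (.leaf 0x806741325)) (.node (.leaf 0x503846127) (.leaf 0))) (.node (.node (.leaf 0x257643180) (.leaf 0)) (.node (.leaf 0x650842371) (.leaf 0))))) (.node (.node (.node (.node (.leaf 0x63847215) (.leaf 0x760843152)) (.node (.leaf 0x367840521) (.leaf 0))) (.node (.node (.leaf 0x210846375) (.leaf 0)) (.node (.leaf 0x613845702) (.leaf 0)))) (.node (.node (.node (.leaf 0x137846250) (.leaf 0x832745016)) (.node (.leaf 0x530841627) (.leaf 0))) (.node (.node (.leaf 0x283746510) (.leaf 0)) (.node (.leaf 0x685740132) (.leaf 0))))))) (.node (.node (.node (.node (.node (.node (.leaf 0x21845673) (.leaf 0x716540382)) (.node (.leaf 0x315846270) (.leaf 0))) (.node (.node (.leaf 0x167543280) (.leaf 0x862745103)) (.node (.leaf 0x570841263) (.leaf 0)))) (.node (.node (.node (.leaf 0x83641275) (.leaf 0x801746352)) (.node (.leaf 0x386742051) (.leaf 0))) (.node (.node (.leaf 0x250846731) (.leaf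 0)) (.node (.leaf 0x632840571) (.leaf 0))))) (.node (.node (.node (.node (.leaf 0x57843162) (.leaf 0x752643081)) (.node (.leaf 0x360847512) (.leaf 0))) (.node (.node (.leaf 0x205847631) (.leaf 0)) (.node (.leaf 0x607841253) (.leaf 0)))) (.node (.node (.node (.leaf 0x130845267) (.leaf 0x826741503)) (.node (.leaf 0x523846701) (.leaf 0))) (.node (.node (.leaf 0x276840531) (.leaf 0)) (.node (.leaf 0x680745123) (.leaf 0)))))) (.node (.node (.node (.node (.node (.leaf 0x35841726) (.leaf 0x730645281)) (.node (.leaf 0x327840165) (.leaf 0))) (.node (.node (.leaf 0x180742653) (.leaf 0x875643120)) (.node (.leaf 0x582641370) (.leaf 0)))) (.node (.node (.node (.leaf 0x107846523) (.leaf 0x813740625)) (.node (.leaf 0x510746382) (.leaf 0))) (.node (.node (.leaf 0x263841075) (.leaf 0)) (.node (.leaf 0x657841302) (.leaf 0))))) (.node (.node (.node (.node (.leaf 0x71845326) (.leaf 0x765842103)) (.node (.leaf 0x372841065) (.leaf 0))) (.node (.node (.leaf 0x217845306) (.leaf 0)) (.node (.leaf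 0x620745381) (.leaf 0)))) (.node (.node (.node (.leaf 0x153842076) (.leaf 0x850743216)) (.node (.leaf 0x537842610) (.leaf 0))) (.node (.node (.leaf 0x301842765) (.leaf 0)) (.node (.leaf 0x703642581) (.leaf 0))))))))

/-- part of the permutations -/
def codes7 : Trie :=
  (.node (.node (.node (.node (.node (.node (.node (.leaf 0x13847562) (.leaf 0x708641532)) (.node (.leaf 0x306845712) (.leaf 0))) (.node (.node (.leaf 0x158746302) (.leaf 0x853740261)) (.node (.leaf 0x561840327) (.leaf 0)))) (.node (.node (.node (.leaf 0x75841362) (.leaf 0x781543260)) (.node (.leaf 0x378645201) (.leaf 0))) (.node (.node (.leaf 0x231740685) (.leaf 0)) (.node (.leaf 0x625843017) (.leaf 0))))) (.node (.node (.node (.node (.leaf 0x38642175) (.leaf 0x735842016)) (.node (.leaf 0x351842670) (.leaf 0))) (.node (.node (.leaf 0x185743602) (.leaf 0)) (.node (.leaf 0x587640321) (.leaf 0)))) (.node (.node (.node (.leaf 0x123745086) (.leaf 0x817542063)) (.node (.leaf 0x516843027) (.leaf 0))) (.node (.node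 (.leaf 0x268745301) (.leaf 0)) (.node (.leaf 0x671542083) (.leaf 0)))))) (.node (.node (.node (.node (.node (.leaf 0x26745183) (.leaf 0x721846503)) (.node (.leaf 0x318740526) (.leaf 0))) (.node (.node (.leaf 0x172843605) (.leaf 0x867542310)) (.node (.leaf 0x573846210) (.leaf 0)))) (.node (.node (.node (.leaf 0x87645231) (.leaf 0x805742316)) (.node (.leaf 0x502847136) (.leaf 0))) (.node (.node (.leaf 0x256840713) (.leaf 0)) (.node (.leaf 0x638741250) (.leaf 0))))) (.node (.node (.node (.node (.leaf 0x62741583) (.leaf 0x758641023)) (.node (.leaf 0x365741280) (.leaf 0))) (.node (.node (.leaf 0x208745163) (.leaf 0)) (.node (.leaf 0x612840753) (.leaf 0)))) (.node (.node (.node (.leaf 0x136847205) (.leaf 0x831746025)) (.node (.leaf 0x528643170) (.leaf 0))) (.node (.node (.leaf 0x281740536) (.leaf 0)) (.node (.leaf 0x683742150) (.leaf 0))))))) (.node (.node (.node (.node (.node (.node (.leaf 0x18743256) (.leaf 0x715842630)) (.node (.leaf 0x312746580) (.leaf 0))) (.node (.node (.leaf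 0x165840723) (.leaf 0x861540372)) (.node (.leaf 0x568742031) (.leaf 0)))) (.node (.node (.node (.leaf 0x82741365) (.leaf 0x786540213)) (.node (.leaf 0x385741062) (.leaf 0))) (.node (.node (.leaf 0x238745610) (.leaf 0)) (.node (.leaf 0x631847502) (.leaf 0))))) (.node (.node (.node (.node (.leaf 0x56842173) (.leaf 0x751846230)) (.node (.leaf 0x358740162) (.leaf 0))) (.node (.node (.leaf 0x203841657) (.leaf 0)) (.node (.leaf 0x605843271) (.leaf 0)))) (.node (.node (.node (.leaf 0x128746035) (.leaf 0x825643071)) (.node (.leaf 0x521840763) (.leaf 0))) (.node (.node (.leaf 0x275641380) (.leaf 0)) (.node (.leaf 0x678543012) (.leaf 0)))))) (.node (.node (.node (.node (.node (.leaf 0x32846751) (.leaf 0x728641350)) (.node (.leaf 0x326845170) (.leaf 0))) (.node (.node (.leaf 0x178540362) (.leaf 0x873645102)) (.node (.leaf 0x581743206) (.leaf 0)))) (.node (.node (.node (.leaf 0x106847532) (.leaf 0x812745630)) (.node (.leaf 0x508742613) (.leaf 0))) (.node (.node (.leaf 0x261843057) (.leaf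 0)) (.node (.leaf 0x653742081) (.leaf 0))))) (.node (.node (.node (.node (.leaf 0x68743521) (.leaf 0x763840125)) (.node (.leaf 0x371842056) (.leaf 0))) (.node (.node (.leaf 0x216840357) (.leaf 0)) (.node (.leaf 0x618543270) (.leaf 0)))) (.node (.node (.node (.leaf 0x152843067) (.leaf 0x837641502)) (.node (.leaf 0x536740182) (.leaf 0))) (.node (.node (.leaf 0x287643051) (.leaf 0)) (.node (.leaf 0x702845316) (.leaf 0))))))))

/-- part of the permutations -/
def codes15 : Trie :=
  (.node (.node (.node (.node (.node (.node (.node (.leaf 0x16842537) (.leaf 0x712845603)) (.node (.leaf 0x308645172) (.leaf 0))) (.node (.node (.leaf 0x162843750) (.leaf 0x857641320)) (.node (.leaf 0x563741082) (.leaf 0)))) (.node (.node (.node (.leaf 0x78642531) (.leaf 0x783642105)) (.node (.leaf 0x381745026) (.leaf 0))) (.node (.node (.leaf 0x236840175) (.leaf 0)) (.node (.leaf 0x628741305) (.leaf 0))))) (.node (.node (.node (.node (.leaf 0x52846137) (.leaf 0x738641205)) (.node (.leaf 0x356742180)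 (.leaf 0))) (.node (.node (.leaf 0x187543062) (.leaf 0)) (.node (.leaf 0x602743581) (.leaf 0)))) (.node (.node (.node (.leaf 0x126847350) (.leaf 0x821746530)) (.node (.leaf 0x518742306) (.leaf 0))) (.node (.node (.leaf 0x271843506) (.leaf 0)) (.node (.leaf 0x673845120) (.leaf 0)))))) (.node (.node (.node (.node (.node (.leaf 0x28743165) (.leaf 0x725640381)) (.node (.leaf 0x321745680) (.leaf 0))) (.node (.node (.leaf 0x175840632) (.leaf 0x871540263)) (.node (.leaf 0x578643021) (.leaf 0)))) (.node (.node (.node (.leaf 0x103842567) (.leaf 0x807641235)) (.node (.leaf 0x506843172) (.leaf 0))) (.node (.node (.leaf 0x258640173) (.leaf 0)) (.node (.leaf 0x651847320) (.leaf 0))))) (.node (.node (.node (.node (.leaf 0x65841273) (.leaf 0x761543082)) (.node (.leaf 0x368740251) (.leaf 0))) (.node (.node (.leaf 0x213746085) (.leaf 0)) (.node (.leaf 0x615843720) (.leaf 0)))) (.node (.node (.node (.leaf 0x138746520) (.leaf 0x835742061)) (.node (.leaf 0x531840672) (.leaf 0))) (.node (.node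 (.leaf 0x285641073) (.leaf 0)) (.node (.leaf 0x687540312) (.leaf 0))))))) (.node (.node (.node (.node (.node (.node (.leaf 0x23847651) (.leaf 0x718542360)) (.node (.leaf 0x316845207) (.leaf 0))) (.node (.node (.leaf 0x168540273) (.leaf 0x863740152)) (.node (.leaf 0x571840236) (.leaf 0)))) (.node (.node (.node (.leaf 0x85746312) (.leaf 0x802745361)) (.node (.leaf 0x387642501) (.leaf 0))) (.node (.node (.leaf 0x251843760) (.leaf 0)) (.node (.leaf 0x635740281) (.leaf 0))))) (.node (.node (.node (.node (.leaf 0x58743612) (.leaf 0x753840216)) (.node (.leaf 0x361842507) (.leaf 0))) (.node (.node (.leaf 0x206743185) (.leaf 0)) (.node (.leaf 0x608741523) (.leaf 0)))) (.node (.node (.node (.leaf 0x132740586) (.leaf 0x827641053)) (.node (.leaf 0x526843710) (.leaf 0))) (.node (.node (.leaf 0x278640351) (.leaf 0)) (.node (.leaf 0x681542370) (.leaf 0)))))) (.node (.node (.node (.node (.node (.leaf 0x36842715) (.leaf 0x731846052)) (.node (.leaf 0x328740615) (.leaf 0))) (.node (.node (.leaf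 0x182740635) (.leaf 0x876543210)) (.node (.leaf 0x583741260) (.leaf 0)))) (.node (.node (.node (.leaf 0x108746253) (.leaf 0x815742603)) (.node (.leaf 0x512847063) (.leaf 0))) (.node (.node (.leaf 0x265847013) (.leaf 0)) (.node (.leaf 0x658741032) (.leaf 0))))) (.node (.node (.node (.node (.leaf 0x72846315) (.leaf 0x768542013)) (.node (.leaf 0x375846012) (.leaf 0))) (.node (.node (.leaf 0x218745036) (.leaf 0)) (.node (.leaf 0x621847053) (.leaf 0)))) (.node (.node (.node (.leaf 0x156847023) (.leaf 0x851746203)) (.node (.leaf 0x538742160) (.leaf 0))) (.node (.node (.leaf 0x302841756) (.leaf 0)) (.node (.leaf 0x705842361) (.leaf 0))))))))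

/-- the permutations -/
def codes : Trie :=
  (.node (.node (.node (.node codes0 codes8) (.node codes4 codes12)) (.node (.node codes2 codes10) (.node codes6 codes14))) (.node (.node (.node codes1 codes9) (.node codes5 codes13)) (.node (.node codes3 codes11) (.node codes7 codes15))))

/-- the indices of the normal subgroup of order eight -/
def small : List ℕ := [52, 280, 410, 513, 731, 886, 1157, 1343]

end

end Cfsg.Agent.ThRec.Stab
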