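import Cfsg.Agent.Lib.ThRec.ModelFacts
import Cfsg.Agent.Lib.ThRec.StabData

/-!
Checks on the stabiliser of `c` in the model: its image on nine points, and the bounds on the fibres of the
second extraspecial subgroup.
-/

set_option autoImplicit false
set_option maxRecDepth 100000
set_option Elab.async false

namespace Cfsg.Agent.ThRec

open Cfsg.Agent.HN Cfsg.Agent.Th Cfsg.Agent.ThOut

noncomputable section

/-- The word of a permutation of the stabiliser. -/
def stabW (i : ℕ) : List ℕ := Cfsg.Agent.Th.unp (Stab.words.get i)

/-- A permutation of the nine points as a number. -/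
def code (w : List ℕ) : ℕ :=
  Nat.rec (motive := fun _ => ℕ) 0 (fun q r => Nat.add r (Nat.shiftLeft (nine.actW w q) (Nat.mul 4 q))) 9

theorem stab_words : allLo (fun i => okSide true (stabW i) &&
    (stabW i).all (fun l => Nat.beq l 4 || Nat.beq l 5 || Nat.beq l 7 || Nat.beq l 9) &&
    Nat.beq (code (stabW i)) (Stab.codes.get i) &&
    (Nat.beq i 0 || Nat.blt (Stab.codes.get (Nat.sub i 1)) (Stab.codes.get i))) 1344 = true := by decide +kernel

/-- The conjugators used on the second extraspecial subgroup. -/
def conjW : List (List ℕ) := [[5], [7], [5, 4], [5, 5], [4, 9], [4, 5, 4]]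

/-- The conjugators used on the intersection. -/
def conjE : List (List ℕ) := [[5], [7], [5, 4], [5, 5], [4, 9], [4, 5, 4], [5, 4, 5]]

/-- Three generators of the intersection modulo `a` and `c`. -/
def eGens : List (List ℕ) :=
  [[3, 10, 2, 3, 2, 3, 2, 9, 3], [5, 3, 10, 2, 3, 2, 3, 2, 9, 3, 6], [5, 5, 3, 10, 2, 3, 2, 3, 2, 9, 3, 6, 6]]

/-- A conjugate. -/
def cjW (d z : List ℕ) : List ℕ := winv iv11 d ++ z ++ d

/-- The necessary conditions on the intersection. -/
def eCond (z : List ℕ) : Bool :=
  eqS true (z ++ [2]) ([2] ++ z) && eqS true (z ++ z) [] &&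
    conjE.all fun d => eqS true (z ++ cjW d z) (cjW d z ++ z)

/-- The necessary conditions on the second extraspecial subgroup. -/
def nCond (z : List ℕ) : Bool :=
  eqS true (z ++ [2]) ([2] ++ z) && (eqS true (z ++ z) [] || eqS true (z ++ z) [2]) &&
    (eGens.all fun y => eqS true (z ++ y) (y ++ z) || eqS true (z ++ y) (y ++ z ++ [2])) &&
    conjW.all fun d => eqS true (z ++ cjW d z) (cjW d z ++ z) ||
      eqS true (z ++ cjW d z) (cjW d z ++ z ++ [2])

theorem e_count : (List.range 512).countP (fun q => eCond (qW q)) ≤ 32 := by decide +kernel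

theorem n_count52 : (List.range 512).countP (fun q => nCond (qW q ++ stabW 52)) ≤ 32 := by
  decide +kernel

theorem n_count280 : (List.range 512).countP (fun q => nCond (qW q ++ stabW 280)) ≤ 32 := by
  decide +kernel

theorem n_count410 : (List.range 512).countP (fun q => nCond (qW q ++ stabW 410)) ≤ 32 := by
  decide +kernel

theorem n_count513 : (List.range 512).countP (fun q => nCond (qW q ++ stabW 513)) ≤ 32 := by
  decide +kernel

theorem n_count731 : (List.range 512).countP (fun q => nCond (qW q ++ stabW 731)) ≤ 32 := by
  decide +kernel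

theorem n_count886 : (List.range 512).countP (fun q => nCond (qW q ++ stabW 886)) ≤ 32 := by
  decide +kernel

theorem n_count1157 : (List.range 512).countP (fun q => nCond (qW q ++ stabW 1157)) ≤ 32 := by
  decide +kernel

theorem small_ok : allLo (fun i => !(eq9 (stabW i ++ stabW i) []) ||
    !(([[4], [5], [7], [9]] : List (List ℕ)).all fun d =>
      eq9 (stabW i ++ cjW d (stabW i)) (cjW d (stabW i) ++ stabW i)) ||
    Stab.small.any fun j => Nat.beq i j) 1344 = true := by
  decide +kernel

theorem small_id : eq9 (stabW 1343) [] = true := by decide +kernel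

end

end Cfsg.Agent.ThRec
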